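import Cfsg.Agent.Lib.Transfer.EngelTransfer

/-!
For an odd prime, an abelian weakly closed subgroup whose normaliser fixes a non-trivial character of it
extending to the Sylow subgroup gives a quotient of order `p` of the whole group.
-/

set_option autoImplicit false
set_option linter.style.haveILetI false

namespace Cfsg.Agent.U62Three

open Subgroup

variable {G : Type*} [Group G] [Finite G] {p : ℕ} [hp : Fact p.Prime]

/-- A homomorphism of `G` to the group of order `p` restricting on `J` to a non-trivial power of a fixed character. -/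
theorem exists_hom_of_character (P : Sylow p G) (J : Subgroup G) (hp3 : 3 ≤ p)
    (hwc : Cfsg.IsWeaklyClosed J (P : Subgroup G)) (hJc : IsMulCommutative J)
    (φ : (P : Subgroup G) →* Multiplicative (ZMod p))
    (hfix : ∀ g ∈ normalizer (J : Set G), ∀ x (hx : x ∈ J) (hx' : g⁻¹ * x * g ∈ J),
      φ ⟨g⁻¹ * x * g, hwc.1 hx'⟩ = φ ⟨x, hwc.1 hx⟩) :
    ∃ (τ : G →* Multiplicative (ZMod p)) (k : ℕ), ¬ p ∣ k ∧
      ∀ x (hx : x ∈ J), τ x = φ ⟨x, hwc.1 hx⟩ ^ k := by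
  classical
  have hPH : (P : Subgroup G) ≤ normalizer (J : Set G) := EngelTransfer.le_normalizer P hwc
  set H := normalizer (J : Set G) with hH
  set P' := (P : Subgroup G).subgroupOf H with hP'
  let ι : P' →* (P : Subgroup G) :=
    { toFun := fun x => ⟨((x : H) : G), x.2⟩, map_one' := rfl, map_mul' := fun _ _ => rfl }
  haveI : P'.FiniteIndex := Subgroup.finiteIndex_of_finite
  letI : Fintype (H ⧸ P') := Fintype.ofFinite _
  obtain ⟨ψ, hψdef⟩ : ∃ ψ, ψ = MonoidHom.transfer (φ.comp ι) := ⟨_, rfl⟩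
  have hk : ¬ p ∣ P'.index := fun h => P.not_dvd_index (h.trans (relIndex_dvd_index_of_le hPH))
  have hpow : ∀ a : Multiplicative (ZMod p), a ^ p = 1 := fun a => Multiplicative.toAdd.injective (by
    rw [toAdd_pow, toAdd_one, nsmul_eq_mul, ZMod.natCast_self, zero_mul])
  have hψ : ∀ x (hx : x ∈ J), ψ ⟨x, hPH (hwc.1 hx)⟩ = φ ⟨x, hwc.1 hx⟩ ^ P'.index := by
    intro x hx
    have hconj : ∀ g : H, (g : G)⁻¹ * x * (g : G) ∈ J := fun g => by
      have := (mem_normalizer_iff.1 (inv_mem g.2) x).1 hx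
      rwa [inv_inv] at this
    have hconjk : ∀ (g : H) (k : ℕ), (g : G)⁻¹ * x ^ k * (g : G) ∈ J := fun g k => by
      have := (mem_normalizer_iff.1 (inv_mem g.2) (x ^ k)).1 (pow_mem hx k)
      rwa [inv_inv] at this
    rw [hψdef, EngelTransfer.transfer_eq_prod]
    · rw [Finset.prod_eq_pow_card (b := φ ⟨x, hwc.1 hx⟩), Finset.card_univ, ← Nat.card_eq_fintype_card]
      · rfl
      · intro c _
        have hm : c.out⁻¹ * (⟨x, hPH (hwc.1 hx)⟩ : H) * c.out ∈ P' := hwc.1 (hconj c.out)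
        rw [EngelTransfer.val, dif_pos hm]
        exact hfix _ c.out.2 x hx (hconj c.out)
    · intro k g hm hk1 hdvd
      obtain ⟨n, hn⟩ := P.isPGroup' ⟨x, hwc.1 hx⟩
      have hord : orderOf (⟨x, hPH (hwc.1 hx)⟩ : H) ∣ p ^ n := by
        rw [← Subgroup.orderOf_coe]
        exact orderOf_dvd_of_pow_eq_one (by simpa using congrArg Subtype.val hn)
      obtain ⟨i, -, rfl⟩ := (Nat.dvd_prime_pow hp.out).1 (hdvd.trans hord)
      obtain ⟨j, rfl⟩ : ∃ j, i = j + 1 := ⟨i - 1, by rcases i with _ | i <;> simp_all⟩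
      show φ ⟨(g : G)⁻¹ * x ^ p ^ (j + 1) * (g : G), hwc.1 (hconjk g (p ^ (j + 1)))⟩ = 1
      rw [hfix _ g.2 _ (pow_mem hx (p ^ (j + 1))) (hconjk g (p ^ (j + 1)))]
      show φ (⟨x, hwc.1 hx⟩ ^ p ^ (j + 1)) = 1
      rw [map_pow, pow_succ', pow_mul, hpow, one_pow]
  have hengel : ∀ u ∈ (P : Subgroup G), ∀ z ∈ J, ∀ W₀ : Subgroup ↥J, IsCoatom W₀ →
      (fun y : G => y⁻¹ * z⁻¹ * y * z)^[p - 1] u ∈ W₀.map J.subtype →
      (fun y : G => y⁻¹ * z⁻¹ * y * z)^[p - 1] u ∈ ((frattini ↥W₀).map W₀.subtype).map J.subtype := by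
    intro u hu z hz W₀ _ _
    set f := fun y : G => y⁻¹ * z⁻¹ * y * z with hf
    have hJf : ∀ y ∈ J, f y = 1 := fun y hy => by
      have hc : z⁻¹ * y = y * z⁻¹ := congrArg Subtype.val (hJc.is_comm.comm ⟨z⁻¹, inv_mem hz⟩ ⟨y, hy⟩)
      rw [hf]
      simp only [mul_assoc y⁻¹, hc]
      group
    have h1 : f u ∈ J := by
      refine mul_mem ?_ hz
      have := (mem_normalizer_iff.1 (inv_mem (hPH hu)) z⁻¹).1 (inv_mem hz)
      rwa [inv_inv] at this
    have hone : f 1 = 1 := hJf 1 (one_mem J)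
    have h2 : f^[p - 1] u = 1 := by
      obtain ⟨m, hm⟩ : ∃ m, p - 1 = m + 1 + 1 := ⟨p - 3, by omega⟩
      rw [hm, Function.iterate_succ_apply, Function.iterate_succ_apply, hJf _ h1]
      exact Function.iterate_fixed hone m
    rw [h2]
    exact one_mem _
  obtain ⟨τ, hτ⟩ := EngelTransfer.extend_hom P J hwc hengel hPH hH ψ
  exact ⟨τ, P'.index, hk, fun x hx => (hτ ⟨x, hPH (hwc.1 hx)⟩).trans (hψ x hx)⟩

/-- The quotient of order `p`. -/
theorem exists_normal_index (P : Sylow p G) (J : Subgroup G) (hp3 : 3 ≤ p)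
    (hwc : Cfsg.IsWeaklyClosed J (P : Subgroup G)) (hJc : IsMulCommutative J)
    (φ : (P : Subgroup G) →* Multiplicative (ZMod p))
    (hfix : ∀ g ∈ normalizer (J : Set G), ∀ x (hx : x ∈ J) (hx' : g⁻¹ * x * g ∈ J),
      φ ⟨g⁻¹ * x * g, hwc.1 hx'⟩ = φ ⟨x, hwc.1 hx⟩)
    (hne : ∃ x, ∃ hx : x ∈ J, φ ⟨x, hwc.1 hx⟩ ≠ 1) :
    ∃ N : Subgroup G, N.Normal ∧ N.index = p ∧ N ⊔ J = ⊤ ∧
      ∀ x (hx : x ∈ J), x ∈ N ↔ φ ⟨x, hwc.1 hx⟩ = 1 := by
  classical
  obtain ⟨τ, k, hk, hτ⟩ := exists_hom_of_character P J hp3 hwc hJc φ hfix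
  have hiff : ∀ x (hx : x ∈ J), x ∈ τ.ker ↔ φ ⟨x, hwc.1 hx⟩ = 1 := by
    intro x hx
    rw [MonoidHom.mem_ker, hτ x hx]
    refine ⟨fun h => orderOf_eq_one_iff.1 ?_, fun h => by rw [h, one_pow]⟩
    refine Nat.eq_one_of_dvd_coprimes (hp.out.coprime_iff_not_dvd.2 hk) ?_ (orderOf_dvd_of_pow_eq_one h)
    exact orderOf_dvd_of_pow_eq_one (Multiplicative.toAdd.injective (by
      rw [toAdd_pow, toAdd_one, nsmul_eq_mul, ZMod.natCast_self, zero_mul]))
  obtain ⟨x, hx, hxne⟩ := hne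
  have hxker : x ∉ τ.ker := fun h => hxne ((hiff x hx).1 h)
  have hidx : τ.ker.index = p := by
    have h : τ.ker.index ∣ p := by
      rw [index_ker]
      exact τ.range.card_subgroup_dvd_card.trans
        (dvd_of_eq ((Nat.card_congr Multiplicative.toAdd).trans (Nat.card_zmod p)))
    rcases (Nat.dvd_prime hp.out).1 h with h1 | h1
    · rw [index_eq_one] at h1
      exact absurd (h1 ▸ mem_top x) hxker
    · exact h1
  refine ⟨τ.ker, τ.normal_ker, hidx, ?_, hiff⟩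
  have hdvd : (τ.ker ⊔ J).index ∣ p := (index_dvd_of_le (le_sup_left : τ.ker ≤ τ.ker ⊔ J)).trans hidx.dvd
  rcases (Nat.dvd_prime hp.out).1 hdvd with h1 | h1
  · exact index_eq_one.1 h1
  · exfalso
    have h2 := relIndex_mul_index (H := τ.ker) (K := τ.ker ⊔ J) le_sup_left
    rw [hidx, h1] at h2
    have h3 : τ.ker.relIndex (τ.ker ⊔ J) = 1 := (mul_eq_right₀ hp.out.ne_zero).1 h2
    exact hxker (relIndex_eq_one.1 h3 (mem_sup_right hx))

end Cfsg.Agent.U62Three
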