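import Cfsg.Agent.Lib.U62Three.Types

/-!
A point of the centraliser outside the core centralises an axis in each factor: if it moves both factors and does
not centralise its fixed space, the conjugate core yields two points each moving one factor, which centralise a
common pair of axes.
-/

set_option autoImplicit false
set_option linter.style.haveILetI false
set_option linter.unusedSectionVars false

namespace Cfsg.Agent.U62Three

open Subgroup
open scoped commutatorElement MatrixGroups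
open Co2Three (IsPoint pw pw_zero pw_one pw_add pw_neg pw_mem pw_not_mem)

namespace Setup

variable {G : Type*} [Group G] [Finite G] (S : Setup G)

/-- The commutator with `y` on its fixed space. -/
def fixHom (y : G) : ↥(fixMod S.core y) →* ↥(zpowers S.z) :=
  MonoidHom.mk' (fun q => ⟨⁅y, (q : G)⁆, q.2.2⟩) fun a b => Subtype.ext (by
    show ⁅y, (a : G) * b⁆ = ⁅y, (a : G)⁆ * ⁅y, (b : G)⁆
    rw [show ⁅y, (a : G) * b⁆ = ⁅y, (a : G)⁆ * ((a : G) * ⁅y, (b : G)⁆ * (a : G)⁻¹) by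
      simp only [commutatorElement_def]; group, ← S.core.commute b.2.2 a.2.1, mul_inv_cancel_right])

theorem card_fix_le (y : G) : Nat.card ↥(fixMod S.core y) ≤ 3 * Nat.card ↥(S.D y) := by
  have h := (S.fixHom y).ker.card_mul_index
  rw [index_ker] at h
  have h3 : Nat.card (S.fixHom y).range ≤ 3 := by
    rw [← S.core.card_zpowers]
    exact card_le_card_group _
  have hk : Nat.card (S.fixHom y).ker ≤ Nat.card ↥(S.D y) := by
    refine Nat.card_le_card_of_injective (fun q => ⟨q.1.1, S.mem_D.2 ⟨q.1.2.1, ?_⟩⟩) fun q r e => ?_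
    · exact commutatorElement_eq_one_iff_mul_comm.1 (congrArg Subtype.val q.2)
    · exact Subtype.ext (Subtype.ext (congrArg (fun u : ↥(S.D y) => (u : G)) e))
  rw [← h, mul_comm]
  exact Nat.mul_le_mul h3 hk

/-- Two axes give a subgroup of order at least 27. -/
theorem card_D_ge {y a b : G} (hy : Commute y S.z) (ha : a ∈ S.Q1) (haz : a ∉ zpowers S.z) (hya : Commute y a)
    (hb : b ∈ S.Q2) (hbz : b ∉ zpowers S.z) (hyb : Commute y b) : 27 ≤ Nat.card ↥(S.D y) := by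
  have hle : closure {S.z, a} ≤ S.D y := (closure_le _).2 (by
    rintro x (rfl | rfl)
    · exact S.mem_D.2 ⟨S.core.mem, hy⟩
    · exact S.mem_D.2 ⟨S.le1 ha, hya⟩)
  have hb' : b ∉ closure {S.z, a} := fun h => by
    refine hbz (S.inf12.le (mem_inf.2 ⟨?_, hb⟩))
    exact (closure_le _).2 (by
      rintro x (rfl | rfl)
      · exact S.z_mem1
      · exact ha) h
  have l1 : Nat.card ↥(closure {S.z, a}) < Nat.card ↥(S.D y) := lt_of_le_of_ne (card_le_of_le hle)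
    fun e => hb' ((eq_of_le_of_card_ge hle e.ge).symm ▸ S.mem_D.2 ⟨S.le2 hb, hyb⟩)
  rw [S.card_pair ha haz] at l1
  obtain ⟨i, hi, e⟩ := (Nat.dvd_prime_pow Nat.prime_three).1
    (show Nat.card ↥(S.D y) ∣ 3 ^ 5 by
      rw [show (3 : ℕ) ^ 5 = 243 from rfl, ← S.core.card]; exact card_dvd_of_le inf_le_left)
  rw [e] at l1 ⊢
  have : 3 ≤ i := by
    by_contra hlt
    have := Nat.pow_le_pow_right (show 0 < 3 by norm_num) (show i ≤ 2 by omega)
    omega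
  exact le_trans (le_refl (3 ^ 3)) (Nat.pow_le_pow_right (by norm_num) this)

theorem fixed {y g : G} (p : S.Pair y g) (hm1 : ∃ q ∈ S.Q1, ⁅y, q⁆ ∉ zpowers S.z)
    (hm2 : ∃ q ∈ S.Q2, ⁅y, q⁆ ∉ zpowers S.z) :
    Nat.card ↥(fixMod S.core y) = 27 ∧
      ∀ w ∈ S.Q, ⁅y, w⁆ ∈ zpowers S.z → ∃ r ∈ S.Q, ∃ c ∈ zpowers S.z, w = ⁅y, r⁆ * c := by
  have hp := S.pres_of_three' (n := 1) p.out.comm (by rw [pow_one, p.y3])
  exact Local.fixed_space S.core S.exp S.le1 S.le2 S.card1 S.card2 S.z_mem1 S.z_mem2 S.comm12 S.inf12.le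
    S.sup_eq p.out.comm p.y3 hp.2.1 hp.2.2 hm1 hm2

theorem comm_mul_z {f q : G} (hq : q ∈ S.Q) : ⁅f * S.z, q⁆ = ⁅f, q⁆ := by
  rw [show ⁅f * S.z, q⁆ = f * (S.z * q * S.z⁻¹) * f⁻¹ * q⁻¹ by simp only [commutatorElement_def]; group,
    ← (S.commute_Q hq).eq, mul_inv_cancel_right, commutatorElement_def]

/-- An element moving both factors centralises its fixed space. -/
theorem diag_commute {y : G} (h : S.Out y) (hm1 : ∃ q ∈ S.Q1, ⁅y, q⁆ ∉ zpowers S.z)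
    (hm2 : ∃ q ∈ S.Q2, ⁅y, q⁆ ∉ zpowers S.z) {a : G} (ha : a ∈ S.Q1)
    (hya : ⁅y, a⁆ ∈ zpowers S.z) : Commute y a := by
  by_contra hne
  have hne' : ⁅y, a⁆ ≠ 1 := fun e => hne (commutatorElement_eq_one_iff_mul_comm.1 e)
  obtain ⟨g, p⟩ := h.exists_pair
  have F := S.fixed p hm1 hm2
  have hE : ∀ e ∈ S.Q, g⁻¹ * e * g ∈ S.Q → e = 1 := by
    intro e he he'
    have hye : Commute y e := (p.conj_comm.2 (S.commute_Q he')).symm
    obtain ⟨r, hr, c, hc, rfl⟩ := F.2 e he (by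
      rw [commutatorElement_eq_one_iff_mul_comm.2 hye.eq]; exact one_mem _)
    obtain ⟨q, hq, hq'⟩ := S.absorb (S.le1 ha) hya hne' hr hc
    exact p.no_comm hq hq'.symm he'
  have p' := p.symm
  have hR : IsPGroup 3 ↥(S.Ds g) := (p'.pgroup_D).map _
  have hle : S.Ds g ≤ centralizer {S.z} := fun x hx => mem_centralizer_singleton_iff.2 (S.mem_Ds.1 hx).2.eq
  have h9 := S.card_le_nine hR hle fun x hx hQ => hE x hQ (S.mem_Ds.1 hx).1
  rw [S.card_Ds] at h9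
  have hyR : y ∈ S.Ds g := S.mem_Ds.2 ⟨S.core.zpowers_le_Q p.y_Qy, h.comm⟩
  -- the point on the other side moves both factors and does not centralise its fixed space
  have m1' : ∃ q ∈ S.Q1, ⁅g⁻¹ * S.z * g, q⁆ ∉ zpowers S.z := by
    by_contra hc
    push Not at hc
    obtain ⟨b, hb, hbz, hyb⟩ := S.swap.exists_fix p'.out.swap'
    obtain ⟨h1, c, hc', hcz, hyc⟩ := S.swap.axes_one p'.out.swap' hc
    have := S.card_D_ge p'.out.comm hc' hcz hyc hb hbz (h1 b hb hyb)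
    omega
  have m2' : ∃ q ∈ S.Q2, ⁅g⁻¹ * S.z * g, q⁆ ∉ zpowers S.z := by
    by_contra hc
    push Not at hc
    obtain ⟨b, hb, hbz, hyb⟩ := S.exists_fix p'.out
    obtain ⟨h1, c, hc', hcz, hyc⟩ := S.axes_one p'.out hc
    have := S.card_D_ge p'.out.comm hb hbz (h1 b hb hyb) hc' hcz hyc
    omega
  have F' := S.fixed p' m1' m2'
  have hD' : 9 ≤ Nat.card ↥(S.D (g⁻¹ * S.z * g)) := by
    have := S.card_fix_le (g⁻¹ * S.z * g)
    rw [F'.1] at this
    omega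
  obtain ⟨w', hw', hw1⟩ : ∃ w' ∈ fixMod S.core (g⁻¹ * S.z * g), ⁅g⁻¹ * S.z * g, w'⁆ ≠ 1 := by
    by_contra hc
    push Not at hc
    have := card_le_of_le (show fixMod S.core (g⁻¹ * S.z * g) ≤ S.D (g⁻¹ * S.z * g) from fun w hw =>
      S.mem_D.2 ⟨hw.1, commutatorElement_eq_one_iff_mul_comm.1 (hc w hw)⟩)
    rw [F'.1] at this
    omega
  have hpoint : ∀ x ∈ S.Ds g, IsPoint S.z (x * S.z) := by
    intro x hx
    obtain ⟨hxQ, hxz⟩ := S.mem_Ds.1 hx
    have hc : Commute (g⁻¹ * S.z * g) (g⁻¹ * x * g) := by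
      have := hxz.symm.map (MulAut.conj g⁻¹).toMonoidHom
      simpa [mul_assoc] using this
    obtain ⟨r, hr, c, hc', e⟩ := F'.2 _ (inv_mem hxQ) (by
      rw [commutatorElement_eq_one_iff_mul_comm.2 hc.inv_right.eq]; exact one_mem _)
    obtain ⟨q, hq, hq'⟩ := S.absorb hw'.1 hw'.2 hw1 hr hc'
    rw [← e] at hq'
    have e1 : q * (g⁻¹ * S.z * g) * q⁻¹ = g⁻¹ * x * g * (g⁻¹ * S.z * g) := by
      rw [show q * (g⁻¹ * S.z * g) * q⁻¹ = ⁅g⁻¹ * S.z * g, q⁆⁻¹ * (g⁻¹ * S.z * g) by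
        simp only [commutatorElement_def]; group, hq', inv_inv]
    have hp := (e1 ▸ p'.out.point.conj q).conj g
    simpa [mul_assoc] using hp
  -- two elements each moving one factor
  obtain ⟨f, hf, hfy⟩ : ∃ f ∈ S.Ds g, f ∉ zpowers y := by
    by_contra hc
    push Not at hc
    have h1 := card_le_of_le (show S.Ds g ≤ zpowers y from hc)
    rw [S.card_Ds, Nat.card_zpowers] at h1
    have := Nat.le_of_dvd (by norm_num) (orderOf_dvd_of_pow_eq_one p.y3)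
    omega
  obtain ⟨n, hn⟩ := S.exists_kill hR hle hyR hm1 hf
  have hf2 : f * y ^ n ∈ S.Ds g := mul_mem hf (pow_mem hyR n)
  have hf2Q : f * y ^ n ∉ S.Q := fun hQ => hfy (by
    have := hE _ hQ (S.mem_Ds.1 hf2).1
    rw [eq_inv_of_mul_eq_one_left this]
    exact inv_mem (pow_mem (mem_zpowers y) n))
  set f2 := f * y ^ n
  have m22 : ∃ q ∈ S.Q2, ⁅f2, q⁆ ∉ zpowers S.z := by
    by_contra hc
    push Not at hc
    exact hf2Q (S.mem_Q_of_trivial (S.mem_Ds.1 hf2).2 hn hc)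
  obtain ⟨m, hm⟩ := S.swap.exists_kill hR hle hf2 m22 hyR
  have hf1 : y * f2 ^ m ∈ S.Ds g := mul_mem hyR (pow_mem hf2 m)
  have m11 : ∃ q ∈ S.Q1, ⁅y * f2 ^ m, q⁆ ∉ zpowers S.z := by
    by_contra hc
    push Not at hc
    obtain ⟨φ, -, hφ⟩ := S.exists_act hR hle
    obtain ⟨q, hq, hq'⟩ := hm1
    refine hq' ((hφ ⟨y, hyR⟩).1 ?_ q hq)
    have e1 : φ ⟨y * f2 ^ m, hf1⟩ = 1 := (hφ _).2 hc
    rw [show (⟨y * f2 ^ m, hf1⟩ : S.Ds g) = ⟨y, hyR⟩ * ⟨f2, hf2⟩ ^ m from rfl, map_mul, map_pow,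
      (hφ ⟨f2, hf2⟩).2 hn, one_pow, mul_one] at e1
    exact e1
  set f1 := y * f2 ^ m with hf1def
  have z1 := (S.mem_Ds.1 hf1).2
  have z2 := (S.mem_Ds.1 hf2).2
  have hf1Q : f1 ∉ S.Q := fun hQ => by
    obtain ⟨q, hq, hq'⟩ := m11
    exact hq' (Core.comm' S.core hQ (S.le1 hq))
  have hzz : Commute S.z S.z := Commute.refl _
  have o1 : S.Out (f1 * S.z) :=
    ⟨hpoint _ hf1, z1.mul_left hzz, fun hQ => hf1Q ((Subgroup.mul_mem_cancel_right S.Q S.core.mem).1 hQ)⟩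
  have o2 : S.Out (f2 * S.z) :=
    ⟨hpoint _ hf2, z2.mul_left hzz, fun hQ => hf2Q ((Subgroup.mul_mem_cancel_right S.Q S.core.mem).1 hQ)⟩
  have t1 : ∀ b ∈ S.Q2, ⁅f1 * S.z, b⁆ ∈ zpowers S.z := fun b hb => by
    rw [S.comm_mul_z (S.le2 hb)]; exact hm b hb
  have t2 : ∀ b ∈ S.Q1, ⁅f2 * S.z, b⁆ ∈ zpowers S.z := fun b hb => by
    rw [S.comm_mul_z (S.le1 hb)]; exact hn b hb
  have mx1 : ∃ q ∈ S.Q1, ⁅f1 * S.z, q⁆ ∉ zpowers S.z := by
    obtain ⟨q, hq, hq'⟩ := m11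
    exact ⟨q, hq, by rwa [S.comm_mul_z (S.le1 hq)]⟩
  have mx2 : ∃ q ∈ S.Q2, ⁅f2 * S.z, q⁆ ∉ zpowers S.z := by
    obtain ⟨q, hq, hq'⟩ := m22
    exact ⟨q, hq, by rwa [S.comm_mul_z (S.le2 hq)]⟩
  -- their axes agree
  obtain ⟨b1, hb1, hb1z, hfb1⟩ := S.exists_fix o1
  obtain ⟨h1, b2, hb2, hb2z, hxb2⟩ := S.axes_one o1 t1
  have hxb1 := h1 b1 hb1 hfb1
  obtain ⟨c2, hc2, hc2z, hfc2⟩ := S.swap.exists_fix o2.swap'
  obtain ⟨h2, c1, hc1, hc1z, hxc1⟩ := S.swap.axes_one o2.swap' t2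
  have hxc2 := h2 c2 hc2 hfc2
  have hff : Commute f1 f2 := by
    have := (p'.D_comm (show g⁻¹ * f1 * g ∈ S.D (g⁻¹ * S.z * g) from ?_)
      (show g⁻¹ * f2 * g ∈ S.D (g⁻¹ * S.z * g) from ?_)).map (MulAut.conj g).toMonoidHom
    · simpa [mul_assoc] using this
    all_goals
      refine S.mem_D.2 ⟨(S.mem_Ds.1 (by assumption)).1, ?_⟩
      first
        | simpa [mul_assoc] using (z1.symm.map (MulAut.conj g⁻¹).toMonoidHom)
        | simpa [mul_assoc] using (z2.symm.map (MulAut.conj g⁻¹).toMonoidHom)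
  have hxx : Commute (f1 * S.z) (f2 * S.z) :=
    (hff.mul_right z1).mul_left ((z2.symm).mul_right hzz)
  obtain ⟨g1, q1⟩ := o1.exists_pair
  obtain ⟨g2, q2⟩ := o2.exists_pair
  have pr1 := S.pres_of_three' (n := 1) o1.comm (by rw [pow_one, q1.y3])
  have pr2 := S.pres_of_three' (n := 1) o2.comm (by rw [pow_one, q2.y3])
  have hx2b2 : Commute (f2 * S.z) b2 := by
    have hd : f2 * S.z * b2 * (f2 * S.z)⁻¹ ∈ S.D (f1 * S.z) :=
      S.mem_D.2 ⟨S.le2 (pr2.2.2 b2 hb2), (hxx.mul_right hxb2).mul_right hxx.inv_right⟩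
    have hcl := S.fac'.symm.centraliser1 hb2 hb2z (pr2.2.2 b2 hb2)
      (q1.D_comm (S.mem_D.2 ⟨S.le2 hb2, hxb2⟩) hd)
    exact S.comm_pair o2.comm hxc2 (S.swap.fix_unique o2.comm mx2 hc2 hc2z hfc2 hb2
      (S.fix_of_normalize o2.comm q2.y3 (S.le2 hb2) hb2z hcl))
  have hx2b1 : Commute (f2 * S.z) b1 := by
    have hd : f1 * S.z * c1 * (f1 * S.z)⁻¹ ∈ S.D (f2 * S.z) :=
      S.mem_D.2 ⟨S.le1 (pr1.2.1 c1 hc1), (hxx.symm.mul_right hxc1).mul_right hxx.symm.inv_right⟩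
    have hcl := S.fac'.centraliser1 hc1 hc1z (pr1.2.1 c1 hc1)
      (q2.D_comm (S.mem_D.2 ⟨S.le1 hc1, hxc1⟩) hd)
    exact S.comm_pair o2.comm hxc1 (S.fix_unique o1.comm mx1 hc1 hc1z
      (S.fix_of_normalize o1.comm q1.y3 (S.le1 hc1) hc1z hcl) hb1 hfb1)
  have k1 : Commute f1 b1 := by
    have := hxb1.mul_left ((S.commute_Q (S.le1 hb1)).symm.inv_left)
    rwa [mul_inv_cancel_right] at this
  have k2 : Commute f2 b1 := by
    have := hx2b1.mul_left ((S.commute_Q (S.le1 hb1)).symm.inv_left)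
    rwa [mul_inv_cancel_right] at this
  have hyb1 : Commute y b1 := by
    have := k1.mul_left (k2.pow_left m).inv_left
    rwa [hf1def, mul_inv_cancel_right] at this
  exact hne (S.comm_pair h.comm hyb1 (S.fix_unique h.comm hm1 hb1 hb1z
    (by rw [commutatorElement_eq_one_iff_mul_comm.2 hyb1.eq]; exact one_mem _) ha hya))

/-- A point outside the core with its two axes. -/
structure Axes (y a1 a2 : G) : Prop where
  out : S.Out y
  m1 : a1 ∈ S.Q1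
  n1 : a1 ∉ zpowers S.z
  m2 : a2 ∈ S.Q2
  n2 : a2 ∉ zpowers S.z
  c1 : Commute y a1
  c2 : Commute y a2

theorem Out.exists_axes {y : G} (h : S.Out y) : ∃ a1 a2, S.Axes y a1 a2 := by
  obtain ⟨a, ha, haz, hya⟩ := S.exists_fix h
  obtain ⟨b, hb, hbz, hyb⟩ := S.swap.exists_fix h.swap'
  by_cases hm2 : ∃ q ∈ S.Q2, ⁅y, q⁆ ∉ zpowers S.z
  · by_cases hm1 : ∃ q ∈ S.Q1, ⁅y, q⁆ ∉ zpowers S.z
    · exact ⟨a, b, h, ha, haz, hb, hbz, S.diag_commute h hm1 hm2 ha hya,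
        S.swap.diag_commute h.swap' hm2 hm1 hb hyb⟩
    · push Not at hm1
      obtain ⟨h1, c, hc, hcz, hyc⟩ := S.swap.axes_one h.swap' hm1
      exact ⟨c, b, h, hc, hcz, hb, hbz, hyc, h1 b hb hyb⟩
  · push Not at hm2
    obtain ⟨h1, c, hc, hcz, hyc⟩ := S.axes_one h hm2
    exact ⟨a, c, h, ha, haz, hc, hcz, h1 a ha hya, hyc⟩

end Setup

end Cfsg.Agent.U62Three
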