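import Cfsg.Agent.Lib.U62Three.Axes

/-!
The centraliser of the subgroup of the core centralised by a point: it is abelian of exponent three, contains the
point and is the same seen from the point.
-/

set_option autoImplicit false
set_option linter.style.haveILetI false
set_option linter.unusedSectionVars false

namespace Cfsg.Agent.U62Three

open Subgroup
open scoped commutatorElement
open Co2Three (IsPoint pw pw_zero pw_one pw_add pw_neg pw_mem pw_not_mem)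
open Local (lam lam_spec lam_zero_iff lam_central lam_mul_right exists_pw)

namespace Setup

variable {G : Type*} [Group G] [Finite G] (S : Setup G)

/-- The centraliser of the central element and of the part of the core centralised by `y`. -/
abbrev K (y : G) : Subgroup G := centralizer {S.z} ⊓ centralizer (S.D y : Set G)

theorem mem_K {x y : G} : x ∈ S.K y ↔ Commute x S.z ∧ ∀ d ∈ S.D y, Commute x d := by
  rw [mem_inf, mem_centralizer_singleton_iff, mem_centralizer_iff]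
  exact and_congr_right fun _ => forall₂_congr fun d _ => ⟨fun h => Eq.symm h, fun h => Eq.symm h⟩

/-- The invariant on the line of `b`. -/
noncomputable def sg (b x : G) : ZMod 3 := lam S.z b ⁅b, x⁆

theorem D_congr {y y' : G} (h : zpowers y = zpowers y') : S.D y = S.D y' := by
  have key : ∀ {u v x : G}, zpowers u = zpowers v → Commute u x → Commute v x := fun {u v x} h hx => by
    obtain ⟨k, hk⟩ := mem_zpowers_iff.1 (h.symm ▸ mem_zpowers v)
    exact hk ▸ hx.zpow_left k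
  ext x
  rw [S.mem_D, S.mem_D]
  exact and_congr_right fun _ => ⟨key h, key h.symm⟩

theorem Pair.D_gz {y g : G} (p : S.Pair y g) : S.D (g * S.z * g⁻¹) = S.D y := (S.D_congr p.eq).symm

theorem Pair.K_gz {y g : G} (p : S.Pair y g) : S.K (g * S.z * g⁻¹) = S.K y := by rw [K, K, p.D_gz]

namespace Axes

variable {S} {y a1 a2 : G} (A : S.Axes y a1 a2)
include A

theorem swap' : S.swap.Axes y a2 a1 := ⟨A.out.swap', A.m2, A.n2, A.m1, A.n1, A.c2, A.c1⟩

theorem y3 : y ^ 3 = 1 := by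
  obtain ⟨g, p⟩ := A.out.exists_pair
  exact p.y3

theorem a1_mem : a1 ∈ S.D y := S.mem_D.2 ⟨S.le1 A.m1, A.c1⟩

theorem a2_mem : a2 ∈ S.D y := S.mem_D.2 ⟨S.le2 A.m2, A.c2⟩

theorem D_comm {a b : G} (ha : a ∈ S.D y) (hb : b ∈ S.D y) : Commute a b := by
  obtain ⟨g, p⟩ := A.out.exists_pair
  exact p.D_comm ha hb

theorem split {d : G} (hd : d ∈ S.Q) (h1 : Commute d a1) (h2 : Commute d a2) :
    ∃ u ∈ closure {S.z, a1}, ∃ v ∈ closure {S.z, a2}, d = u * v := by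
  obtain ⟨u, hu, v, hv, rfl⟩ := S.exists_mul hd S.sup_eq
  refine ⟨u, S.fac'.centraliser1 A.m1 A.n1 hu ?_, v, S.fac'.symm.centraliser1 A.m2 A.n2 hv ?_, rfl⟩
  · have := h1.mul_left (S.comm12 a1 A.m1 v hv).symm.inv_left
    rw [mul_inv_cancel_right] at this
    exact this.symm
  · have := (S.comm12 u hu a2 A.m2).inv_left.mul_left h2
    rw [inv_mul_cancel_left] at this
    exact this.symm

theorem commute_pairs {x d : G} (hz : Commute x S.z) (h1 : Commute x a1) (h2 : Commute x a2) (hd : d ∈ S.D y) :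
    Commute x d := by
  obtain ⟨u, hu, v, hv, rfl⟩ := A.split (S.mem_D.1 hd).1 (A.D_comm hd A.a1_mem) (A.D_comm hd A.a2_mem)
  exact (S.comm_pair hz h1 hu).mul_right (S.comm_pair hz h2 hv)

theorem mem_D_iff {d : G} (hd : d ∈ S.Q) : d ∈ S.D y ↔ Commute d a1 ∧ Commute d a2 := by
  refine ⟨fun h => ⟨A.D_comm h A.a1_mem, A.D_comm h A.a2_mem⟩, fun h => S.mem_D.2 ⟨hd, ?_⟩⟩
  obtain ⟨u, hu, v, hv, rfl⟩ := A.split hd h.1 h.2
  exact (S.comm_pair A.out.comm A.c1 hu).mul_right (S.comm_pair A.out.comm A.c2 hv)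

theorem card_D : Nat.card ↥(S.D y) = 27 :=
  le_antisymm (S.core.card_abelian_le inf_le_left fun _ ha _ hb => (A.D_comm ha hb).eq)
    (S.card_D_ge A.out.comm A.m1 A.n1 A.c1 A.m2 A.n2 A.c2)

theorem mem_K_iff {x : G} : x ∈ S.K y ↔ Commute x S.z ∧ Commute x a1 ∧ Commute x a2 := by
  rw [S.mem_K]
  exact ⟨fun h => ⟨h.1, h.2 _ A.a1_mem, h.2 _ A.a2_mem⟩, fun h => ⟨h.1, fun d hd =>
    A.commute_pairs h.1 h.2.1 h.2.2 hd⟩⟩

/-- Another point centralising both axes has the same subgroup. -/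
theorem D_eq {x b1 b2 : G} (B : S.Axes x b1 b2) (h1 : Commute x a1) (h2 : Commute x a2) : S.D x = S.D y :=
  (eq_of_le_of_card_ge (fun d hd => S.mem_D.2 ⟨(S.mem_D.1 hd).1, A.commute_pairs B.out.comm h1 h2 hd⟩)
    (by rw [A.card_D, B.card_D])).symm

theorem y_mem : y ∈ S.K y := A.mem_K_iff.2 ⟨A.out.comm, A.c1, A.c2⟩

theorem D_le : S.D y ≤ S.K y := fun d hd =>
  S.mem_K.2 ⟨S.commute_Q (S.mem_D.1 hd).1, fun _ he => A.D_comm hd he⟩

theorem K_Q {x : G} (hx : x ∈ S.K y) (hQ : x ∈ S.Q) : x ∈ S.D y :=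
  (A.mem_D_iff hQ).2 (A.mem_K_iff.1 hx).2

theorem comm_mem {x q : G} (hx : x ∈ S.K y) (hq : q ∈ S.Q) : ⁅q, x⁆ ∈ S.D y := by
  obtain ⟨hxz, hxd⟩ := S.mem_K.1 hx
  have hQ : ⁅q, x⁆ ∈ S.Q := by
    rw [commutatorElement_def, mul_assoc, mul_assoc, ← mul_assoc x]
    exact mul_mem hq (S.normal' hxz (inv_mem hq))
  have key : ∀ d ∈ S.D y, Commute (q * x * q⁻¹) d := fun d hd => by
    have hc : ⁅q⁻¹, d⁆ ∈ zpowers S.z := Core.comm' S.core (inv_mem hq) (S.mem_D.1 hd).1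
    have h : Commute x (⁅q⁻¹, d⁆ * d) := (S.commute_Zc hxz hc).mul_right (hxd d hd)
    have := h.map (MulAut.conj q).toMonoidHom
    simpa [commutatorElement_def, mul_assoc] using this
  refine (A.mem_D_iff hQ).2 ⟨?_, ?_⟩ <;> rw [commutatorElement_def]
  · exact (key a1 A.a1_mem).mul_left (hxd a1 A.a1_mem).inv_left
  · exact (key a2 A.a2_mem).mul_left (hxd a2 A.a2_mem).inv_left

theorem sg_mul {b x x' : G} (hb : b ∈ S.Q) (hx : x ∈ S.K y) (hx' : x' ∈ S.K y) :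
    S.sg b (x * x') = S.sg b x + S.sg b x' := by
  have e : ⁅b, x * x'⁆ = ⁅b, x⁆ * (x * ⁅b, x'⁆ * x⁻¹) := by simp only [commutatorElement_def]; group
  rw [sg, e, ((S.mem_K.1 hx).2 _ (A.comm_mem hx' hb)).eq, mul_inv_cancel_right,
    lam_mul_right S.core (S.mem_D.1 (A.comm_mem hx hb)).1 (S.mem_D.1 (A.comm_mem hx' hb)).1 hb]
  rfl

theorem sg_D {b x : G} (hb : b ∈ S.Q) (hx : x ∈ S.D y) : S.sg b x = 0 := by
  have hc := Core.comm' S.core hb (S.mem_D.1 hx).1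
  exact (lam_zero_iff S.core hb (S.core.zpowers_le_Q hc)).2 (S.core.commute hc hb : Commute _ b).symm

theorem sg_inv {b x : G} (hb : b ∈ S.Q) (hx : x ∈ S.K y) : S.sg b x⁻¹ = -S.sg b x := by
  refine eq_neg_of_add_eq_zero_left ?_
  rw [← A.sg_mul hb (inv_mem hx) hx, inv_mul_cancel]
  exact A.sg_D hb (one_mem _)

theorem sg_pw {b x : G} (hb : b ∈ S.Q) (hx : x ∈ S.K y) (k : ZMod 3) : S.sg b (pw x k) = k * S.sg b x := by
  have h : ∀ n : ℕ, S.sg b (x ^ n) = n * S.sg b x := by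
    intro n
    induction n with
    | zero => rw [pow_zero, Nat.cast_zero, zero_mul]; exact A.sg_D hb (one_mem _)
    | succ n ih => rw [pow_succ, A.sg_mul hb (pow_mem hx n) hx, ih]; push_cast; ring
  rw [pw, h, ZMod.natCast_zmod_val]

/-- A vanishing invariant means trivial action on the factor. -/
theorem trivial1 {b x : G} (hb : b ∈ S.Q1) (hab : ¬ Commute a1 b) (hx : x ∈ S.K y) (h : S.sg b x = 0) :
    ∀ q ∈ S.Q1, ⁅x, q⁆ ∈ zpowers S.z := by
  obtain ⟨hxz, hxd⟩ := S.mem_K.1 hx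
  have hb' : b ∉ closure {S.z, a1} := fun hm => hab (S.comm_pair (S.commute_Q (S.le1 A.m1)) (Commute.refl a1) hm)
  have hd := A.comm_mem hx (S.le1 hb)
  have hdQ1 : ⁅b, x⁆ ∈ S.Q1 := by
    rw [commutatorElement_def, mul_assoc, mul_assoc, ← mul_assoc x]
    refine mul_mem hb ((S.pres_of_fix hxz (Or.inl A.m1) A.n1 ?_).2.1 _ (inv_mem hb))
    rw [commutatorElement_eq_one_iff_mul_comm.2 (hxd a1 A.a1_mem).eq]
    exact one_mem _
  have hdb : Commute b ⁅b, x⁆ := (lam_zero_iff S.core (S.le1 hb) (S.mem_D.1 hd).1).1 h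
  have hdz : ⁅b, x⁆ ∈ zpowers S.z := S.fac'.centre1 hdQ1 fun c hc =>
    (mem_centralizer_singleton_iff.1 (S.factor_gen (H := centralizer {⁅b, x⁆}) A.m1 A.n1 hb hb'
      (mem_centralizer_singleton_iff.2 (S.commute_Q (S.mem_D.1 hd).1).symm.eq)
      (mem_centralizer_singleton_iff.2 (A.D_comm A.a1_mem hd).eq)
      (mem_centralizer_singleton_iff.2 hdb.eq) hc)).symm
  intro q hq
  refine (mem_fixMod.1 (S.factor_gen (H := fixMod S.core x) A.m1 A.n1 hb hb' ?_ ?_ ?_ hq)).2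
  · exact mem_fixMod.2 ⟨S.core.mem, by rw [commutatorElement_eq_one_iff_mul_comm.2 hxz.eq]; exact one_mem _⟩
  · exact mem_fixMod.2 ⟨S.le1 A.m1, by
      rw [commutatorElement_eq_one_iff_mul_comm.2 (hxd a1 A.a1_mem).eq]; exact one_mem _⟩
  · exact mem_fixMod.2 ⟨S.le1 hb, by rw [← commutatorElement_inv]; exact inv_mem hdz⟩

end Axes

/-- A point with axes and with elements moving them. -/
structure Frame (y a1 a2 b1 b2 : G) : Prop where
  ax : S.Axes y a1 a2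
  bm1 : b1 ∈ S.Q1
  bn1 : ¬ Commute a1 b1
  bm2 : b2 ∈ S.Q2
  bn2 : ¬ Commute a2 b2

theorem Out.exists_frame {y : G} (h : S.Out y) : ∃ a1 a2 b1 b2, S.Frame y a1 a2 b1 b2 := by
  obtain ⟨a1, a2, A⟩ := h.exists_axes
  obtain ⟨b1, h1, e1⟩ := S.fac'.exists_partner A.m1 A.n1
  obtain ⟨b2, h2, e2⟩ := S.fac'.symm.exists_partner A.m2 A.n2
  exact ⟨a1, a2, b1, b2, A, h1, fun c => e1 (commutatorElement_eq_one_iff_mul_comm.2 c.eq), h2,
    fun c => e2 (commutatorElement_eq_one_iff_mul_comm.2 c.eq)⟩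

namespace Frame

variable {S} {y a1 a2 b1 b2 : G} (F : S.Frame y a1 a2 b1 b2)
include F

theorem swap' : S.swap.Frame y a2 a1 b2 b1 := ⟨F.ax.swap', F.bm2, F.bn2, F.bm1, F.bn1⟩

theorem mem_D {x : G} (hx : x ∈ S.K y) (h1 : S.sg b1 x = 0) (h2 : S.sg b2 x = 0) : x ∈ S.D y :=
  F.ax.K_Q hx (S.mem_Q_of_trivial (S.mem_K.1 hx).1 (F.ax.trivial1 F.bm1 F.bn1 hx h1)
    (F.ax.swap'.trivial1 F.bm2 F.bn2 hx h2))

theorem mem_D_of_comm {k l : G} (hk : k ∈ S.K y) (hl : l ∈ S.K y) : ⁅k, l⁆ ∈ S.D y := by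
  have hm : ⁅k, l⁆ ∈ S.K y := mul_mem (mul_mem (mul_mem hk hl) (inv_mem hk)) (inv_mem hl)
  have key : ∀ b ∈ S.Q, S.sg b ⁅k, l⁆ = 0 := fun b hb => by
    rw [commutatorElement_def, F.ax.sg_mul hb (mul_mem (mul_mem hk hl) (inv_mem hk)) (inv_mem hl),
      F.ax.sg_mul hb (mul_mem hk hl) (inv_mem hk), F.ax.sg_mul hb hk hl, F.ax.sg_inv hb hk, F.ax.sg_inv hb hl]
    ring
  exact F.mem_D hm (key _ (S.le1 F.bm1)) (key _ (S.le2 F.bm2))

theorem cube_mem {x : G} (hx : x ∈ S.K y) : x ^ 3 ∈ S.D y := by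
  have key : ∀ b ∈ S.Q, S.sg b (x ^ 3) = 0 := fun b hb => by
    rw [pow_succ, pow_succ, pow_one, F.ax.sg_mul hb (mul_mem hx hx) hx, F.ax.sg_mul hb hx hx]
    exact (by decide : ∀ c : ZMod 3, c + c + c = 0) _
  exact F.mem_D (pow_mem hx 3) (key _ (S.le1 F.bm1)) (key _ (S.le2 F.bm2))

theorem pgroup : IsPGroup 3 ↥(S.K y) := fun x => ⟨2, Subtype.ext (by
  rw [Subgroup.coe_pow, show 3 ^ 2 = 3 * 3 from rfl, pow_mul]
  exact S.exp _ (S.mem_D.1 (F.cube_mem x.2)).1)⟩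

/-- Commutators in the centraliser are central. -/
theorem comm_Z {k l : G} (hk : k ∈ S.K y) (hl : l ∈ S.K y) : ⁅k, l⁆ ∈ zpowers S.z := by
  have hc := F.mem_D_of_comm hk hl
  refine (S.core.centre _ (S.mem_D.1 hc).1).1 fun q hq => ?_
  obtain ⟨d, hd, ek⟩ : ∃ d ∈ S.D y, q * k * q⁻¹ = d * k :=
    ⟨_, F.ax.comm_mem hk hq, by simp only [commutatorElement_def]; group⟩
  obtain ⟨e, he, el⟩ : ∃ e ∈ S.D y, q * l * q⁻¹ = e * l :=
    ⟨_, F.ax.comm_mem hl hq, by simp only [commutatorElement_def]; group⟩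
  have dc : ∀ {u : G}, u ∈ S.D y → ∀ {x : G}, x ∈ S.K y → Commute x u := fun hu _ hx => (S.mem_K.1 hx).2 _ hu
  have h : q * ⁅k, l⁆ * q⁻¹ = ⁅d * k, e * l⁆ := by
    rw [← ek, ← el]; simp only [commutatorElement_def]; group
  have e1 : ⁅d * k, e * l⁆ = ⁅k, l⁆ := by
    have h1 : ⁅d * k, e * l⁆ = d * ⁅k, e * l⁆ * d⁻¹ * ⁅d, e * l⁆ := by
      simp only [commutatorElement_def]; group
    have h2 : ⁅k, e * l⁆ = ⁅k, e⁆ * (e * ⁅k, l⁆ * e⁻¹) := by simp only [commutatorElement_def]; group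
    rw [h1, h2, commutatorElement_eq_one_iff_mul_comm.2 (dc he hk).eq, one_mul,
      (F.ax.D_comm he hc).eq, mul_inv_cancel_right, (F.ax.D_comm hd hc).eq, mul_inv_cancel_right,
      commutatorElement_eq_one_iff_mul_comm.2 ((F.ax.D_comm hd he).mul_right (dc hd hl).symm).eq, mul_one]
  rw [e1] at h
  exact (mul_inv_eq_iff_eq_mul.1 h).symm

/-- The homomorphism given by the two invariants. -/
noncomputable def sHom : ↥(S.K y) →* Multiplicative (ZMod 3 × ZMod 3) :=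
  MonoidHom.mk' (fun x => Multiplicative.ofAdd (S.sg b1 (x : G), S.sg b2 (x : G))) fun x x' => by
    show Multiplicative.ofAdd (S.sg b1 ((x : G) * x'), S.sg b2 ((x : G) * x')) = _
    rw [F.ax.sg_mul (S.le1 F.bm1) x.2 x'.2, F.ax.sg_mul (S.le2 F.bm2) x.2 x'.2, ← ofAdd_add, Prod.mk_add_mk]

theorem card_K_le : Nat.card ↥(S.K y) ≤ 243 := by
  have h := F.sHom.ker.card_mul_index
  rw [index_ker] at h
  have hr : Nat.card F.sHom.range ≤ 9 := (card_le_card_group _).trans (le_of_eq (by simp))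
  have hk : Nat.card F.sHom.ker ≤ 27 := by
    rw [← F.ax.card_D]
    refine Nat.card_le_card_of_injective (fun x => ⟨x.1.1, ?_⟩) fun x x' e => ?_
    · have hx : Multiplicative.ofAdd (S.sg b1 (x.1.1 : G), S.sg b2 (x.1.1 : G)) = 1 := x.2
      exact F.mem_D x.1.2 (congrArg Prod.fst hx) (congrArg Prod.snd hx)
    · exact Subtype.ext (Subtype.ext (congrArg (fun u : ↥(S.D y) => (u : G)) e))
  rw [← h]
  exact Nat.mul_le_mul hk hr

theorem Ds_le {g : G} (p : S.Pair y g) : S.Ds g ≤ S.K y := by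
  intro d hd
  obtain ⟨hdQ, hdz⟩ := S.mem_Ds.1 hd
  have hdy : Commute d y := p.conj_comm.2 (S.commute_Q hdQ)
  have h3 : d ^ 3 = 1 := by
    rw [show d ^ 3 = g * (g⁻¹ * d * g) ^ 3 * g⁻¹ by simp only [pow_succ, pow_zero, one_mul]; group,
      S.exp _ hdQ, mul_one, mul_inv_cancel]
  have hp := S.pres_of_three' (n := 1) hdz (by rw [pow_one, h3])
  have key : ∀ a ∈ S.D y, d * a * d⁻¹ ∈ closure {S.z, a} → a ∉ zpowers S.z → Commute d a := by
    intro a ha hcl haz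
    refine commutatorElement_eq_one_iff_mul_comm.1
      (p.Z_inf (S.fix_of_normalize hdz h3 (S.mem_D.1 ha).1 haz hcl) ?_)
    have hn := S.normal' (p.conj_comm.1 (S.mem_D.1 ha).2.symm) (inv_mem hdQ)
    rw [show g⁻¹ * ⁅d, a⁆ * g = (g⁻¹ * d * g) * ((g⁻¹ * a * g) * (g⁻¹ * d * g)⁻¹ * (g⁻¹ * a * g)⁻¹) by
      simp only [commutatorElement_def]; group]
    exact mul_mem hdQ hn
  have hD : ∀ a ∈ S.D y, d * a * d⁻¹ ∈ S.D y := fun a ha => S.mem_D.2
    ⟨S.normal' hdz (S.mem_D.1 ha).1, (hdy.symm.mul_right (S.mem_D.1 ha).2).mul_right hdy.symm.inv_right⟩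
  refine F.ax.mem_K_iff.2 ⟨hdz, key a1 F.ax.a1_mem ?_ F.ax.n1, key a2 F.ax.a2_mem ?_ F.ax.n2⟩
  · exact S.fac'.centraliser1 F.ax.m1 F.ax.n1 (hp.2.1 a1 F.ax.m1)
      (F.ax.D_comm F.ax.a1_mem (hD a1 F.ax.a1_mem))
  · exact S.fac'.symm.centraliser1 F.ax.m2 F.ax.n2 (hp.2.2 a2 F.ax.m2)
      (F.ax.D_comm F.ax.a2_mem (hD a2 F.ax.a2_mem))

/-- If the intersection has order nine, the subgroup of the core is its product with the centre. -/
theorem decomp {g : G} (p : S.Pair y g) (hE : 9 ≤ Nat.card ↥(S.Ds g ⊓ S.D y)) {d : G} (hd : d ∈ S.D y) :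
    ∃ c ∈ zpowers S.z, ∃ e ∈ S.Ds g ⊓ S.D y, d = c * e := by
  let f : ↥(zpowers S.z) × ↥(S.Ds g ⊓ S.D y) → ↥(S.D y) := fun u => ⟨(u.1 : G) * u.2, mul_mem
    (S.mem_D.2 ⟨S.core.zpowers_le_Q u.1.2, S.commute_Zc F.ax.out.comm u.1.2⟩) (mem_inf.1 u.2.2).2⟩
  have hinj : Function.Injective f := fun u v h => by
    have e : (u.1 : G) * u.2 = v.1 * v.2 := congrArg Subtype.val h
    have h1 : (v.1 : G)⁻¹ * u.1 = v.2 * (u.2 : G)⁻¹ := by
      calc (v.1 : G)⁻¹ * u.1 = (v.1 : G)⁻¹ * (u.1 * u.2) * (u.2 : G)⁻¹ := by group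
        _ = (v.1 : G)⁻¹ * (v.1 * v.2) * (u.2 : G)⁻¹ := by rw [e]
        _ = _ := by group
    have h2 := p.Z_inf (mul_mem (inv_mem v.1.2) u.1.2)
      (S.mem_Ds.1 (mem_inf.1 (h1 ▸ mul_mem v.2.2 (inv_mem u.2.2))).1).1
    have h3 : (v.1 : G) = u.1 := inv_mul_eq_one.1 h2
    refine Prod.ext (Subtype.ext h3.symm) (Subtype.ext ?_)
    rw [h3] at e
    exact mul_left_cancel e
  have hb := (Nat.bijective_iff_injective_and_card f).2 ⟨hinj, le_antisymm
    (Nat.card_le_card_of_injective f hinj)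
    (by rw [F.ax.card_D, Nat.card_prod, S.core.card_zpowers]; omega)⟩
  obtain ⟨u, hu⟩ := hb.2 ⟨d, hd⟩
  exact ⟨u.1, u.1.2, u.2, u.2.2, (congrArg Subtype.val hu).symm⟩

/-- The centraliser centralises the point. -/
theorem comm_y {k : G} (hk : k ∈ S.K y) : Commute k y := by
  by_contra hne
  obtain ⟨g, p⟩ := F.ax.out.exists_pair
  obtain ⟨hkz, hkd⟩ := S.mem_K.1 hk
  have hne' : ⁅k, y⁆ ≠ 1 := fun e => hne (commutatorElement_eq_one_iff_mul_comm.1 e)
  let ψ : ↥(S.K y) →* ↥(zpowers S.z) :=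
    MonoidHom.mk' (fun x => ⟨⁅(x : G), y⁆, F.comm_Z x.2 F.ax.y_mem⟩) fun x x' => Subtype.ext (by
      show ⁅(x : G) * x', y⁆ = ⁅(x : G), y⁆ * ⁅(x' : G), y⁆
      rw [show ⁅(x : G) * x', y⁆ = (x : G) * ⁅(x' : G), y⁆ * (x : G)⁻¹ * ⁅(x : G), y⁆ by
          simp only [commutatorElement_def]; group,
        (S.commute_Zc (S.mem_K.1 x.2).1 (F.comm_Z x'.2 F.ax.y_mem)).eq, mul_inv_cancel_right,
        S.core.commute (F.comm_Z x'.2 F.ax.y_mem) (S.core.zpowers_le_Q (F.comm_Z x.2 F.ax.y_mem))])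
  set J := S.K y ⊓ centralizer {y}
  have hJ : Nat.card ↥J ≤ 81 := by
    have h := ψ.ker.card_mul_index
    rw [index_ker] at h
    have hr : Nat.card ψ.range = 3 := by
      refine ((Nat.dvd_prime Nat.prime_three).1 ?_).resolve_left fun e => ?_
      · exact S.core.card_zpowers ▸ card_subgroup_dvd_card _
      · haveI : Subsingleton ψ.range := (Nat.card_eq_one_iff_unique.1 e).1
        exact hne' (congrArg (fun u : ψ.range => ((u : ↥(zpowers S.z)) : G))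
          (Subsingleton.elim ⟨ψ ⟨k, hk⟩, _, rfl⟩ 1))
    have hk' : Nat.card ↥J ≤ Nat.card ψ.ker := by
      refine Nat.card_le_card_of_injective (fun x => ⟨⟨x.1, (mem_inf.1 x.2).1⟩, ?_⟩) fun x x' e => ?_
      · exact Subtype.ext (commutatorElement_eq_one_iff_mul_comm.2
          (mem_centralizer_singleton_iff.1 (mem_inf.1 x.2).2))
      · exact Subtype.ext (congrArg (fun u : ψ.ker => ((u : ↥(S.K y)) : G)) e)
    have := F.card_K_le
    rw [hr] at h
    omega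
  have hDJ : S.D y ≤ J := fun d hd =>
    mem_inf.2 ⟨F.ax.D_le hd, mem_centralizer_singleton_iff.2 (S.mem_D.1 hd).2.symm.eq⟩
  have hSJ : S.Ds g ≤ J := fun d hd => mem_inf.2
    ⟨F.Ds_le p hd, mem_centralizer_singleton_iff.2 (p.conj_comm.2 (S.commute_Q (S.mem_Ds.1 hd).1)).eq⟩
  have h27 : Nat.card ↥(S.Ds g) = 27 := by
    obtain ⟨c1, c2, B⟩ := p.symm.out.exists_axes
    rw [S.card_Ds, B.card_D]
  set E := S.Ds g ⊓ S.D y
  have hE : 9 ≤ Nat.card ↥E := by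
    have e1 := Pt.card_inf_mul (Q := S.D y) J
    rw [inf_eq_right.2 hDJ, F.ax.card_D] at e1
    have e2 : Nat.card ↥E * (S.D y).relIndex (S.Ds g) = Nat.card ↥(S.Ds g) := Pt.card_inf_mul (S.Ds g)
    rw [h27] at e2
    have hne0 : (S.D y).relIndex J ≠ 0 := by
      intro h0
      rw [h0, mul_zero] at e1
      exact absurd e1.symm Nat.card_pos.ne'
    have e3 := relIndex_le_of_le_right hSJ hne0
    have : (S.D y).relIndex (S.Ds g) ≤ 3 := by omega
    by_contra hlt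
    have := Nat.mul_le_mul (show Nat.card ↥E ≤ 8 by omega) this
    omega
  have hdec := fun d => F.decomp p hE (d := d)
  refine F.ax.out.not_mem (S.mem_Q_of_trivial F.ax.out.comm (fun q hq => ?_) fun q hq => ?_)
  all_goals
    have hqQ : q ∈ S.Q := by first | exact S.le1 hq | exact S.le2 hq
    obtain ⟨c, hc, e, he, hce⟩ := hdec _ (F.ax.comm_mem F.ax.y_mem hqQ)
    haveI : Fact (Nat.Prime 3) := ⟨Nat.prime_three⟩
    obtain ⟨n, hn⟩ := Submonoid.mem_powers_iff _ _ |>.1 (mem_powers_of_prime_card S.core.card_zpowers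
      (g := ψ ⟨k, hk⟩) (g' := ⟨c⁻¹, inv_mem hc⟩) fun e => hne' (congrArg Subtype.val e))
    rw [← map_pow] at hn
    have hn' : ⁅k ^ n, y⁆ = c⁻¹ := congrArg Subtype.val hn
    have hconj : k ^ n * q * y * (k ^ n * q)⁻¹ = e * y := by
      have hked : Commute (k ^ n) e := (hkd e (mem_inf.1 he).2).pow_left n
      have hkc : Commute (k ^ n) c := (S.commute_Zc hkz hc).pow_left n
      rw [show k ^ n * q * y * (k ^ n * q)⁻¹ = k ^ n * ⁅q, y⁆ * (k ^ n)⁻¹ * ⁅k ^ n, y⁆ * y by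
          simp only [commutatorElement_def]; group, hce, (hkc.mul_right hked).eq, mul_inv_cancel_right, hn',
        S.core.commute hc (S.mem_D.1 (mem_inf.1 he).2).1, mul_inv_cancel_right]
    have hpt : IsPoint S.z (e * y) := hconj ▸ F.ax.out.point.conj _
    have hey := p.point_Qy hpt (by
      rw [show g⁻¹ * (e * y) * g = (g⁻¹ * e * g) * (g⁻¹ * y * g) by group]
      exact mul_mem (S.mem_Ds.1 (mem_inf.1 he).1).1 (S.core.zpowers_le_Q p.y_Qy))
    have he1 : e = 1 := p.inf_Q (by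
      rw [show e = e * y * y⁻¹ by group]; exact mul_mem hey (inv_mem (mem_zpowers y))) (S.mem_D.1 (mem_inf.1 he).2).1
    rw [he1, mul_one] at hce
    rw [← commutatorElement_inv, hce]
    exact inv_mem hc

/-- The centraliser is abelian. -/
theorem K_comm {k l : G} (hk : k ∈ S.K y) (hl : l ∈ S.K y) : Commute k l := by
  obtain ⟨g, p⟩ := F.ax.out.exists_pair
  exact p.comm_one F.pgroup (fun _ hx => F.comm_y hx) hk hl (F.comm_Z hk hl)

theorem mem_conj_of {g x : G} (p : S.Pair y g) (hx : x ∈ S.K y) :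
    g⁻¹ * x * g ∈ S.K (g⁻¹ * S.z * g) := by
  refine S.mem_K.2 ⟨p.conj_comm.1 (F.comm_y hx), fun d hd => ?_⟩
  have h := (F.K_comm hx (F.Ds_le p (mem_map_of_mem (MulAut.conj g).toMonoidHom hd))).map
    (MulAut.conj g⁻¹).toMonoidHom
  simpa [mul_assoc] using h

/-- The centraliser is the same seen from the point. -/
theorem mem_conj {g x : G} (p : S.Pair y g) : x ∈ S.K y ↔ g⁻¹ * x * g ∈ S.K (g⁻¹ * S.z * g) := by
  refine ⟨F.mem_conj_of p, fun h => ?_⟩
  obtain ⟨c1, c2, d1, d2, F'⟩ := p.symm.out.exists_frame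
  have h' := F'.mem_conj_of p.symm h
  rw [show g⁻¹⁻¹ * (g⁻¹ * x * g) * g⁻¹ = x by group, inv_inv, p.K_gz] at h'
  exact h'

/-- The centraliser has exponent three. -/
theorem K_cube {x : G} (hx : x ∈ S.K y) : x ^ 3 = 1 := by
  have key : ∀ {y a1 a2 b1 b2 x : G}, S.Frame y a1 a2 b1 b2 → x ∈ S.K y → x ^ 3 ∈ zpowers S.z := by
    intro y a1 a2 b1 b2 x F hx
    have hc := F.cube_mem hx
    refine (S.core.centre _ (S.mem_D.1 hc).1).1 fun q hq => ?_
    obtain ⟨d, hd, ed⟩ : ∃ d ∈ S.D y, q * x * q⁻¹ = d * x :=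
      ⟨_, F.ax.comm_mem hx hq, by simp only [commutatorElement_def]; group⟩
    have h : q * x ^ 3 * q⁻¹ = x ^ 3 := by
      rw [← conj_pow, ed, ((S.mem_K.1 hx).2 d hd).symm.mul_pow, S.exp d (S.mem_D.1 hd).1, one_mul]
    exact (mul_inv_eq_iff_eq_mul.1 h).symm
  obtain ⟨g, p⟩ := F.ax.out.exists_pair
  obtain ⟨c1, c2, d1, d2, F'⟩ := p.symm.out.exists_frame
  refine p.Z_inf (key F hx) ?_
  rw [show g⁻¹ * x ^ 3 * g = (g⁻¹ * x * g) ^ 3 by simp only [pow_succ, pow_zero, one_mul]; group]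
  exact S.core.zpowers_le_Q (key F' (F.mem_conj_of p hx))

end Frame

end Setup

end Cfsg.Agent.U62Three
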