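import Cfsg.Agent.Lib.Co2Three.Tools.Extra
import Mathlib.GroupTheory.PGroup
import Mathlib.GroupTheory.SpecificGroups.Cyclic

/-!
The core of order 243 as a central product of two groups of order 27: automorphisms fixing a line of a factor, and
the automorphisms trivial modulo the centre are inner.
-/

set_option autoImplicit false
set_option linter.style.haveILetI false

namespace Cfsg.Agent.U62Three

open Subgroup
open Co2Three (Core)
open scoped commutatorElement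

variable {G : Type*} [Group G]

/-- Two factors of the core. -/
structure Fac (Q Q1 Q2 : Subgroup G) (z : G) : Prop where
  core : Core Q z
  le1 : Q1 ≤ Q
  le2 : Q2 ≤ Q
  z_mem1 : z ∈ Q1
  z_mem2 : z ∈ Q2
  card1 : Nat.card Q1 = 27
  card2 : Nat.card Q2 = 27
  inf12 : Q1 ⊓ Q2 = zpowers z
  comm12 : ∀ a ∈ Q1, ∀ b ∈ Q2, Commute a b

/-- The elements of a subgroup moved by `g` only inside the centre. -/
def fixMod {Q : Subgroup G} {z : G} (C : Core Q z) (g : G) : Subgroup G where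
  carrier := {q | q ∈ Q ∧ ⁅g, q⁆ ∈ zpowers z}
  one_mem' := ⟨one_mem _, by rw [commutatorElement_one_right]; exact one_mem _⟩
  mul_mem' := by
    rintro a b ⟨ha, ha'⟩ ⟨hb, hb'⟩
    refine ⟨mul_mem ha hb, ?_⟩
    have e : ⁅g, a * b⁆ = ⁅g, a⁆ * (a * ⁅g, b⁆ * a⁻¹) := by simp only [commutatorElement_def]; group
    rw [e, ← C.commute hb' ha, mul_inv_cancel_right]
    exact mul_mem ha' hb'
  inv_mem' := by
    rintro a ⟨ha, ha'⟩
    refine ⟨inv_mem ha, ?_⟩
    have e : ⁅g, a⁻¹⁆ = a⁻¹ * ⁅g, a⁆⁻¹ * a := by simp only [commutatorElement_def]; group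
    rw [e, ← C.commute (inv_mem ha') (inv_mem ha), inv_mul_cancel_right]
    exact inv_mem ha'

theorem mem_fixMod {Q : Subgroup G} {z : G} {C : Core Q z} {g q : G} :
    q ∈ fixMod C g ↔ q ∈ Q ∧ ⁅g, q⁆ ∈ zpowers z := Iff.rfl

theorem comm_conj {g x : G} (hg : Commute g x) {y : G} (hy : y ∈ zpowers x) : g * y * g⁻¹ = y := by
  obtain ⟨k, rfl⟩ := mem_zpowers_iff.1 hy
  rw [(hg.zpow_right k).eq, mul_inv_cancel_right]

theorem commutator_mul_left {Q : Subgroup G} {z : G} (C : Core Q z) {g r q : G} (hr : r ∈ Q)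
    (h : ⁅g, q⁆ ∈ zpowers z) : ⁅r * g, q⁆ = ⁅g, q⁆ * ⁅r, q⁆ := by
  have e : ⁅r * g, q⁆ = (r * ⁅g, q⁆ * r⁻¹) * ⁅r, q⁆ := by simp only [commutatorElement_def]; group
  rw [e, ← C.commute h hr, mul_inv_cancel_right]

theorem Core.comm' {Q : Subgroup G} {z : G} (C : Core Q z) {x y : G} (hx : x ∈ Q) (hy : y ∈ Q) :
    ⁅x, y⁆ ∈ zpowers z := by
  rw [commutatorElement_def]; exact C.comm x hx y hy

theorem Core.cube {Q : Subgroup G} {z : G} (C : Core Q z) {a : G} (ha : a ∈ Q) : a ^ 3 ∈ zpowers z := by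
  refine (C.centre _ (pow_mem ha 3)).1 fun q hq => ?_
  have h1 : C.comHom q hq (⟨a, ha⟩ ^ 3) = 1 := by
    rw [map_pow, ← C.card_zpowers]
    exact pow_card_eq_one'
  exact ((C.comHom_eq_one hq).1 h1).eq

namespace Fac

variable {Q Q1 Q2 : Subgroup G} {z : G}

theorem symm (F : Fac Q Q1 Q2 z) : Fac Q Q2 Q1 z :=
  ⟨F.core, F.le2, F.le1, F.z_mem2, F.z_mem1, F.card2, F.card1, (inf_comm Q2 Q1).trans F.inf12,
    fun a ha b hb => (F.comm12 b hb a ha).symm⟩

theorem finite (F : Fac Q Q1 Q2 z) : Finite Q :=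
  Nat.finite_of_card_ne_zero (by rw [F.core.card]; norm_num)

theorem sup_eq (F : Fac Q Q1 Q2 z) : Q1 ⊔ Q2 = Q := by
  haveI := F.finite
  haveI : Finite Q1 := Nat.finite_of_card_ne_zero (by rw [F.card1]; norm_num)
  haveI : Finite Q2 := Nat.finite_of_card_ne_zero (by rw [F.card2]; norm_num)
  have hle : Q1 ⊔ Q2 ≤ Q := sup_le F.le1 F.le2
  haveI : Finite ↥(Q1 ⊔ Q2) := Finite.of_injective (inclusion hle) (inclusion_injective hle)
  refine eq_of_le_of_card_ge hle ?_
  let f : Q1 × Q2 → ↥(Q1 ⊔ Q2) := fun p =>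
    ⟨p.1 * p.2, mul_mem (mem_sup_left p.1.2) (mem_sup_right p.2.2)⟩
  have hfib : ∀ p q : Q1 × Q2, f p = f q → (p.1 : G)⁻¹ * q.1 ∈ zpowers z := by
    intro p q h
    have e : (p.1 : G) * p.2 = q.1 * q.2 := congrArg Subtype.val h
    rw [← F.inf12]
    refine mem_inf.2 ⟨mul_mem (inv_mem p.1.2) q.1.2, ?_⟩
    rw [show (p.1 : G)⁻¹ * q.1 = p.2 * (q.2 : G)⁻¹ by
      calc (p.1 : G)⁻¹ * q.1 = (p.1 : G)⁻¹ * (q.1 * q.2) * (q.2 : G)⁻¹ := by group
        _ = (p.1 : G)⁻¹ * (p.1 * p.2) * (q.2 : G)⁻¹ := by rw [e]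
        _ = _ := by group]
    exact mul_mem p.2.2 (inv_mem q.2.2)
  -- each fibre has at most three elements
  classical
  haveI := Fintype.ofFinite (Q1 × Q2)
  haveI := Fintype.ofFinite ↥(Q1 ⊔ Q2)
  have hcard : Fintype.card (Q1 × Q2) ≤ 3 * (Finset.univ.image f).card := by
    rw [← Finset.card_univ]
    refine Finset.card_le_mul_card_image_of_maps_to (fun a _ => Finset.mem_image_of_mem _ (Finset.mem_univ a)) _
      fun b hb => ?_
    obtain ⟨p, -, rfl⟩ := Finset.mem_image.1 hb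
    calc (Finset.univ.filter fun q => f q = f p).card
        ≤ Nat.card (zpowers z) := by
          haveI : Finite (zpowers z) := Nat.finite_of_card_ne_zero (by rw [F.core.card_zpowers]; norm_num)
          rw [← Nat.card_eq_finsetCard]
          refine Nat.card_le_card_of_injective (fun q => (⟨(p.1 : G)⁻¹ * q.1.1, hfib p q.1
            ((Finset.mem_filter.1 q.2).2).symm⟩ : zpowers z)) fun q r h => ?_
          have e1 : (q.1.1 : G) = r.1.1 := mul_left_cancel (congrArg Subtype.val h)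
          have e2 : f q.1 = f r.1 := ((Finset.mem_filter.1 q.2).2).trans ((Finset.mem_filter.1 r.2).2).symm
          refine Subtype.ext (Prod.ext (Subtype.ext e1) (Subtype.ext ?_))
          have e3 : (q.1.1 : G) * q.1.2 = r.1.1 * r.1.2 := congrArg Subtype.val e2
          rw [e1] at e3
          exact mul_left_cancel e3
      _ = 3 := F.core.card_zpowers
  rw [← Nat.card_eq_fintype_card, Nat.card_prod, F.card1, F.card2] at hcard
  have h2 : (Finset.univ.image f).card ≤ Nat.card ↥(Q1 ⊔ Q2) := by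
    rw [Nat.card_eq_fintype_card]; exact Finset.card_le_univ _
  have h3 := F.core.card
  obtain ⟨e, he, hpow⟩ := (Nat.dvd_prime_pow Nat.prime_three).1
    (show Nat.card ↥(Q1 ⊔ Q2) ∣ 3 ^ 5 by rw [show (3 : ℕ) ^ 5 = 243 from rfl, ← h3]; exact card_dvd_of_le hle)
  omega

theorem centre1 (F : Fac Q Q1 Q2 z) {a : G} (ha : a ∈ Q1) (h : ∀ b ∈ Q1, Commute a b) : a ∈ zpowers z := by
  refine (F.core.centre a (F.le1 ha)).1 fun q hq => ?_
  have : Q1 ⊔ Q2 ≤ centralizer {a} := sup_le (fun b hb => mem_centralizer_singleton_iff.2 (h b hb).symm.eq)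
    fun b hb => mem_centralizer_singleton_iff.2 (F.comm12 a ha b hb).symm.eq
  exact (mem_centralizer_singleton_iff.1 (this (F.sup_eq ▸ hq))).symm

theorem exists_partner (F : Fac Q Q1 Q2 z) {a : G} (ha : a ∈ Q1) (haz : a ∉ zpowers z) :
    ∃ b ∈ Q1, ⁅a, b⁆ ≠ 1 := by
  by_contra h
  push Not at h
  exact haz (F.centre1 ha fun b hb => commutatorElement_eq_one_iff_mul_comm.1 (h b hb))

/-- The centraliser of a non-central element of a factor in that factor. -/
theorem centraliser1 (F : Fac Q Q1 Q2 z) {a d : G} (ha : a ∈ Q1) (haz : a ∉ zpowers z) (hd : d ∈ Q1)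
    (hc : Commute a d) : d ∈ closure {z, a} := by
  haveI : Finite Q1 := Nat.finite_of_card_ne_zero (by rw [F.card1]; norm_num)
  by_contra hn
  obtain ⟨b, hb, hab⟩ := F.exists_partner ha haz
  set C := Q1 ⊓ centralizer {a} with hC
  have hDC : closure {z, a} ≤ C := (closure_le _).2 (by
    rintro x (rfl | rfl)
    · exact mem_inf.2 ⟨F.z_mem1, mem_centralizer_singleton_iff.2
        (F.core.commute (mem_zpowers _) (F.le1 ha))⟩
    · exact mem_inf.2 ⟨ha, mem_centralizer_singleton_iff.2 rfl⟩)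
  haveI : Finite C := Finite.of_injective (inclusion (inf_le_left : C ≤ Q1)) (inclusion_injective _)
  haveI : Finite ↥(closure {z, a}) := Finite.of_injective (inclusion hDC) (inclusion_injective _)
  have hne : closure {z, a} ≠ C := fun e => hn (e ▸ mem_inf.2 ⟨hd, mem_centralizer_singleton_iff.2 hc.symm.eq⟩)
  have hC' : C ≠ Q1 := fun e => hab (commutatorElement_eq_one_iff_mul_comm.2
    (mem_centralizer_singleton_iff.1 (mem_inf.1 (e.symm ▸ hb)).2).symm)
  have hzD : zpowers z ≤ closure {z, a} := zpowers_le.2 (subset_closure (Set.mem_insert _ _))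
  have hzne : zpowers z ≠ closure {z, a} := fun e =>
    haz (e ▸ subset_closure (Set.mem_insert_of_mem _ rfl))
  have l1 : Nat.card (zpowers z) < Nat.card ↥(closure {z, a}) := lt_of_le_of_ne
    (Nat.le_of_dvd Nat.card_pos (card_dvd_of_le hzD)) fun e => hzne (eq_of_le_of_card_ge hzD e.ge)
  have l2 : Nat.card ↥(closure {z, a}) < Nat.card C := lt_of_le_of_ne
    (Nat.le_of_dvd Nat.card_pos (card_dvd_of_le hDC)) fun e => hne (eq_of_le_of_card_ge hDC e.ge)
  have l3 : Nat.card C < Nat.card Q1 := lt_of_le_of_ne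
    (Nat.le_of_dvd Nat.card_pos (card_dvd_of_le inf_le_left)) fun e => hC' (eq_of_le_of_card_ge inf_le_left e.ge)
  have d1 := card_dvd_of_le (hDC.trans inf_le_left)
  have d2 := card_dvd_of_le (inf_le_left : C ≤ Q1)
  rw [F.core.card_zpowers] at l1
  rw [F.card1] at l3 d1 d2
  obtain ⟨i, hi, ei⟩ := (Nat.dvd_prime_pow Nat.prime_three).1 (show _ ∣ 3 ^ 3 from d1)
  obtain ⟨j, hj, ej⟩ := (Nat.dvd_prime_pow Nat.prime_three).1 (show _ ∣ 3 ^ 3 from d2)
  rw [ei] at l1 l2
  rw [ej] at l2 l3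
  interval_cases i <;> interval_cases j <;> omega

/-- An element fixing a non-central element of a factor modulo the centre has a cube fixing the factor. -/
theorem fix_line (F : Fac Q Q1 Q2 z) {g a : G} (hgz : Commute g z) (hg : ∀ x ∈ Q1, g * x * g⁻¹ ∈ Q1)
    (ha : a ∈ Q1) (haz : a ∉ zpowers z) (hga : ⁅g, a⁆ ∈ zpowers z) {b : G} (hb : b ∈ Q1) :
    ⁅g ^ 3, b⁆ ∈ zpowers z := by
  have hz : ∀ {y : G}, y ∈ zpowers z → g * y * g⁻¹ = y := fun hy => comm_conj hgz hy
  have hd : ⁅g, b⁆ ∈ Q1 := by rw [commutatorElement_def]; exact mul_mem (hg b hb) (inv_mem hb)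
  have hfix : closure {z, a} ≤ fixMod F.core g := (closure_le _).2 (by
    rintro x (rfl | rfl)
    · exact mem_fixMod.2 ⟨F.core.mem, by rw [commutatorElement_eq_one_iff_mul_comm.2 hgz.eq]; exact one_mem _⟩
    · exact mem_fixMod.2 ⟨F.le1 ha, hga⟩)
  have hcd : Commute a ⁅g, b⁆ := by
    obtain ⟨w, hw, hgab⟩ : ∃ w ∈ zpowers z, g * a * g⁻¹ = w * a := ⟨⁅g, a⁆, hga, by
      rw [commutatorElement_def]; group⟩
    have h1 : ⁅g * a * g⁻¹, g * b * g⁻¹⁆ = ⁅a, b⁆ := by
      rw [show ⁅g * a * g⁻¹, g * b * g⁻¹⁆ = g * ⁅a, b⁆ * g⁻¹ by simp only [commutatorElement_def]; group]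
      exact hz (Core.comm' F.core (F.le1 ha) (F.le1 hb))
    have hgb : g * b * g⁻¹ = ⁅g, b⁆ * b := by rw [commutatorElement_def]; group
    rw [hgab, hgb, show ⁅w * a, ⁅g, b⁆ * b⁆ = ⁅a, ⁅g, b⁆ * b⁆ from ?_,
      show ⁅a, ⁅g, b⁆ * b⁆ = ⁅a, ⁅g, b⁆⁆ * (⁅g, b⁆ * ⁅a, b⁆ * ⁅g, b⁆⁻¹) by
        generalize ⁅g, b⁆ = d; simp only [commutatorElement_def]; group,
      ← F.core.commute (Core.comm' F.core (F.le1 ha) (F.le1 hb)) (F.le1 hd), mul_inv_cancel_right,
      mul_eq_right] at h1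
    · exact commutatorElement_eq_one_iff_mul_comm.1 h1
    · have hdb : ⁅g, b⁆ * b ∈ Q := mul_mem (F.le1 hd) (F.le1 hb)
      generalize ⁅g, b⁆ * b = u at hdb
      have hwu : ⁅w, u⁆ = 1 := commutatorElement_eq_one_iff_mul_comm.2 (F.core.commute hw hdb)
      have hwc : w * ⁅a, u⁆ = ⁅a, u⁆ * w :=
        F.core.commute hw (F.core.zpowers_le_Q (Core.comm' F.core (F.le1 ha) hdb))
      rw [show ⁅w * a, u⁆ = w * ⁅a, u⁆ * w⁻¹ * ⁅w, u⁆ by simp only [commutatorElement_def]; group,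
        hwu, mul_one, hwc, mul_inv_cancel_right]
  have hdf : ⁅g, ⁅g, b⁆⁆ ∈ zpowers z := (mem_fixMod.1 (hfix (F.centraliser1 ha haz hd hcd))).2
  obtain ⟨d, hdd⟩ : ∃ d, d = ⁅g, b⁆ := ⟨_, rfl⟩
  rw [← hdd] at hd hdf
  obtain ⟨w, hw⟩ : ∃ w, w = ⁅g, d⁆ := ⟨_, rfl⟩
  rw [← hw] at hdf
  have egb : g * b * g⁻¹ = d * b := by rw [hdd, commutatorElement_def]; group
  have egd : g * d * g⁻¹ = w * d := by rw [hw, commutatorElement_def]; group
  have h2 : g * (g * b * g⁻¹) * g⁻¹ = w * d * (d * b) := by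
    rw [egb, show g * (d * b) * g⁻¹ = (g * d * g⁻¹) * (g * b * g⁻¹) by group, egd, egb]
  have h3 : g ^ 3 * b * (g ^ 3)⁻¹ = w * (w * d) * (w * d * (d * b)) := by
    rw [show g ^ 3 * b * (g ^ 3)⁻¹ = g * (g * (g * b * g⁻¹) * g⁻¹) * g⁻¹ by
        simp only [pow_succ, pow_zero, one_mul, mul_inv_rev, mul_assoc], h2,
      show g * (w * d * (d * b)) * g⁻¹ = (g * w * g⁻¹) * (g * d * g⁻¹) * ((g * d * g⁻¹) * (g * b * g⁻¹)) by group,
      hz hdf, egd, egb, mul_assoc w]
  have hwd : w * d = d * w := F.core.commute hdf (F.le1 hd)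
  have e : ⁅g ^ 3, b⁆ = w * w * w * d ^ 3 := by
    rw [commutatorElement_def, h3]
    have c1 : ∀ x : G, d * (w * x) = w * (d * x) := fun x => by rw [← mul_assoc, ← hwd, mul_assoc]
    simp only [pow_succ, pow_zero, one_mul, mul_assoc, c1, mul_inv_cancel, mul_one]
  rw [e]
  exact mul_mem (mul_mem (mul_mem hdf hdf) hdf) (Core.cube F.core (F.le1 hd))

/-- An element trivial on a factor modulo the centre differs from one centralising it by an element of it. -/
theorem inner_one (F : Fac Q Q1 Q2 z) {g : G} (hg : ∀ x ∈ Q1, ⁅g, x⁆ ∈ zpowers z) :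
    ∃ r ∈ Q1, ∀ x ∈ Q1, Commute (r * g) x := by
  haveI : Finite Q1 := Nat.finite_of_card_ne_zero (by rw [F.card1]; norm_num)
  obtain ⟨a, ha, haz⟩ : ∃ a ∈ Q1, a ∉ zpowers z := by
    by_contra h
    push Not at h
    have hd := Subgroup.card_le_card_group ((zpowers z).subgroupOf Q1)
    have he : Q1 = zpowers z := le_antisymm h (zpowers_le.2 F.z_mem1)
    have h1 := F.card1
    rw [he, F.core.card_zpowers] at h1
    omega
  obtain ⟨b, hb, hab⟩ := F.exists_partner ha haz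
  set c := ⁅a, b⁆ with hc
  have hcz : c ∈ zpowers z := Core.comm' F.core (F.le1 ha) (F.le1 hb)
  have hgen : ∀ w ∈ zpowers z, ∃ i : ℕ, c ^ i = w := by
    intro w hw
    haveI : Fact (Nat.Prime 3) := ⟨Nat.prime_three⟩
    have h : (⟨w, hw⟩ : zpowers z) ∈ Submonoid.powers (⟨c, hcz⟩ : zpowers z) :=
      mem_powers_of_prime_card F.core.card_zpowers (fun e => hab (congrArg Subtype.val e))
    obtain ⟨i, hi⟩ := h
    exact ⟨i, congrArg Subtype.val hi⟩
  have hpow : ∀ {p q : G}, p ∈ Q → q ∈ Q → ∀ i : ℕ, ⁅p ^ i, q⁆ = ⁅p, q⁆ ^ i := by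
    intro p q hp hq i
    induction i with
    | zero => simp
    | succ i ih =>
      rw [pow_succ', commutator_mul_left F.core hp (Core.comm' F.core (pow_mem hp i) hq), ih, pow_succ]
  obtain ⟨j, hj⟩ := hgen _ (hg a ha)
  obtain ⟨i, hi⟩ := hgen _ (inv_mem (hg b hb))
  refine ⟨b ^ j * a ^ i, mul_mem (pow_mem hb j) (pow_mem ha i), ?_⟩
  set r := b ^ j * a ^ i with hr
  have hrQ : r ∈ Q := F.le1 (mul_mem (pow_mem hb j) (pow_mem ha i))
  have hba : ⁅b, a⁆ = c⁻¹ := by rw [hc, commutatorElement_inv]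
  have hra : ⁅r * g, a⁆ = 1 := by
    rw [commutator_mul_left F.core hrQ (hg a ha),
      commutator_mul_left F.core (F.le1 (pow_mem hb j)) (Core.comm' F.core (F.le1 (pow_mem ha i)) (F.le1 ha)),
      hpow (F.le1 ha) (F.le1 ha), hpow (F.le1 hb) (F.le1 ha), commutatorElement_self, one_pow, one_mul, hba,
      inv_pow, hj, mul_inv_cancel]
  have hrb : ⁅r * g, b⁆ = 1 := by
    rw [commutator_mul_left F.core hrQ (hg b hb),
      commutator_mul_left F.core (F.le1 (pow_mem hb j)) (Core.comm' F.core (F.le1 (pow_mem ha i)) (F.le1 hb)),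
      hpow (F.le1 ha) (F.le1 hb), hpow (F.le1 hb) (F.le1 hb), commutatorElement_self, one_pow, mul_one, ← hc, hi,
      mul_inv_cancel]
  -- the centraliser in the factor contains both generators
  intro x hx
  set C := Q1 ⊓ centralizer {r * g}
  have haC : a ∈ C := mem_inf.2 ⟨ha, mem_centralizer_singleton_iff.2
    (commutatorElement_eq_one_iff_mul_comm.1 hra).symm⟩
  have hbC : b ∈ C := mem_inf.2 ⟨hb, mem_centralizer_singleton_iff.2
    (commutatorElement_eq_one_iff_mul_comm.1 hrb).symm⟩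
  haveI : Finite C := Finite.of_injective (inclusion (inf_le_left : C ≤ Q1)) (inclusion_injective _)
  by_contra hn
  have hne : C ≠ Q1 := fun e => hn (mem_centralizer_singleton_iff.1 (mem_inf.1 (e.symm ▸ hx)).2).symm
  have h9 : Nat.card C ≤ 9 := by
    obtain ⟨k, hk, ek⟩ := (Nat.dvd_prime_pow Nat.prime_three).1
      (show Nat.card C ∣ 3 ^ 3 by rw [show (3 : ℕ) ^ 3 = 27 from rfl, ← F.card1]; exact card_dvd_of_le inf_le_left)
    rcases (show k ≤ 2 ∨ k = 3 by omega) with h | rfl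
    · rw [ek]; exact (Nat.pow_le_pow_right (by norm_num) h).trans le_rfl
    · exact absurd (eq_of_le_of_card_ge inf_le_left (by rw [F.card1, ek]; norm_num)) hne
  refine hab (commutatorElement_eq_one_iff_mul_comm.2 ?_)
  haveI : Fact (Nat.Prime 3) := ⟨Nat.prime_three⟩
  have hcomm : ∀ u ∈ C, ∀ v ∈ C, u * v = v * u := by
    obtain ⟨k, hk, ek⟩ := (Nat.dvd_prime_pow Nat.prime_three).1
      (show Nat.card C ∣ 3 ^ 3 by rw [show (3 : ℕ) ^ 3 = 27 from rfl, ← F.card1]; exact card_dvd_of_le inf_le_left)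
    rw [ek] at h9
    have : k ≤ 2 := by
      by_contra hk2
      have : k = 3 := by omega
      subst this
      norm_num at h9
    intro u hu v hv
    interval_cases k
    · haveI : Subsingleton C := (Nat.card_eq_one_iff_unique.1 (by simpa using ek)).1
      exact congrArg (fun w : C => (w : G) * v) (Subsingleton.elim ⟨u, hu⟩ ⟨v, hv⟩) |>.trans
        (congrArg (fun w : C => v * (w : G)) (Subsingleton.elim ⟨v, hv⟩ ⟨u, hu⟩))
    · haveI : IsCyclic C := isCyclic_of_prime_card (p := 3) (by simpa using ek)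
      exact congrArg Subtype.val (mul_comm' (⟨u, hu⟩ : C) ⟨v, hv⟩)
    · haveI : IsMulCommutative C := IsPGroup.isMulCommutative_of_card_eq_prime_sq (p := 3) ek
      exact congrArg Subtype.val (mul_comm' (⟨u, hu⟩ : C) ⟨v, hv⟩)
  exact hcomm a haC b hbC

/-- An element trivial on the core modulo its centre acts as an element of the core. -/
theorem inner (F : Fac Q Q1 Q2 z) {g : G} (hg : ∀ x ∈ Q, ⁅g, x⁆ ∈ zpowers z) :
    ∃ r ∈ Q, ∀ x ∈ Q, Commute (r * g) x := by
  obtain ⟨r, hr, h1⟩ := F.inner_one fun x hx => hg x (F.le1 hx)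
  have h2 : ∀ x ∈ Q2, ⁅r * g, x⁆ ∈ zpowers z := fun x hx => by
    rw [commutator_mul_left F.core (F.le1 hr) (hg x (F.le2 hx))]
    exact mul_mem (hg x (F.le2 hx)) (Core.comm' F.core (F.le1 hr) (F.le2 hx))
  obtain ⟨s, hs, h3⟩ := F.symm.inner_one h2
  refine ⟨s * r, mul_mem (F.le2 hs) (F.le1 hr), fun x hx => ?_⟩
  have hle : Q1 ⊔ Q2 ≤ centralizer {s * r * g} := sup_le
    (fun y hy => mem_centralizer_singleton_iff.2 (by
      rw [mul_assoc]
      exact ((F.comm12 y hy s hs).mul_right (h1 y hy).symm).eq))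
    (fun y hy => mem_centralizer_singleton_iff.2 (by rw [mul_assoc]; exact (h3 y hy).symm.eq))
  exact (mem_centralizer_singleton_iff.1 (hle (F.sup_eq.symm ▸ hx))).symm

end Fac

end Cfsg.Agent.U62Three
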