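import Cfsg.Agent.Lib.U62Three.Point.Main
import Mathlib.LinearAlgebra.Matrix.SpecialLinearGroup
import Cfsg.Prelude.Def_Classical
import Cfsg.Prelude.Def_Transfer

/-!
The data at the central element of order three in the unitary case, and the configuration around the elementary
abelian subgroup of order 81: the two factors of the core, the two quaternion groups with their involutions, and
the abelian centraliser of that subgroup, of order 81 or 243.
-/

set_option autoImplicit false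
set_option linter.style.haveILetI false

namespace Cfsg.Agent.U62Three

open Subgroup
open Co2Three (V4 qf bf e0 e1 e2 e3 refl1)
open scoped commutatorElement

/-- The reflection in `e2`. -/
def refl2 (v : V4) : V4 := ![v 0, v 1, -v 2, v 3]

/-- The matrix of the reflection in `e1`. -/
def r1M : Matrix (Fin 4) (Fin 4) (ZMod 3) := !![1, 0, 0, 0; 0, -1, 0, 0; 0, 0, 1, 0; 0, 0, 0, 1]

/-- The isometries generated by the translations and the reflection in `e1`: a group of order 720. -/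
def IsS6 (M : Matrix (Fin 4) (Fin 4) (ZMod 3)) : Prop :=
  IsRot M ∨ ∃ R, IsRot R ∧ M = R * r1M

/-- The data at the central element: the core is the central product of two groups of order 27, each of them
moved by a quaternion group centralising the other, and the element is not weakly closed in its centraliser. -/
structure Setup (G : Type*) [Group G] where
  /-- the central element -/
  z : G
  /-- the core -/
  Q : Subgroup G
  /-- the first factor -/
  Q1 : Subgroup G
  /-- the second factor -/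
  Q2 : Subgroup G
  /-- the quaternion group at the first factor -/
  P : Subgroup G
  /-- the quaternion group at the second factor -/
  P' : Subgroup G
  /-- its involution at the first factor -/
  t : G
  /-- its involution at the second factor -/
  t' : G
  core : Co2Three.Core Q z
  exp : ∀ q ∈ Q, q ^ 3 = 1
  le : Q ≤ centralizer {z}
  normal : ∀ g : G, g * z * g⁻¹ ∈ zpowers z → ∀ q ∈ Q, g * q * g⁻¹ ∈ Q
  cq : ∀ g : G, Commute g z → (∀ q ∈ Q, Commute g q) → g ∈ Q
  wc : ∀ g : G, g * z * g⁻¹ ∈ Q → g * z * g⁻¹ ∈ zpowers z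
  nwc : ∃ g : G, Commute (g * z * g⁻¹) z ∧ g * z * g⁻¹ ∉ zpowers z
  le1 : Q1 ≤ Q
  le2 : Q2 ≤ Q
  z_mem1 : z ∈ Q1
  z_mem2 : z ∈ Q2
  card1 : Nat.card Q1 = 27
  card2 : Nat.card Q2 = 27
  inf12 : Q1 ⊓ Q2 = zpowers z
  comm12 : ∀ a ∈ Q1, ∀ b ∈ Q2, Commute a b
  perm : ∀ g : G, g * z * g⁻¹ ∈ zpowers z →
    ((∀ a ∈ Q1, g * a * g⁻¹ ∈ Q1) ∧ ∀ b ∈ Q2, g * b * g⁻¹ ∈ Q2) ∨
      ((∀ a ∈ Q1, g * a * g⁻¹ ∈ Q2) ∧ ∀ b ∈ Q2, g * b * g⁻¹ ∈ Q1)
  card_P : Nat.card P = 8
  card_P' : Nat.card P' = 8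
  P_le : P ≤ centralizer {z}
  P'_le : P' ≤ centralizer {z}
  t_mem : t ∈ P
  t'_mem : t' ∈ P'
  t_ne : t ≠ 1
  t'_ne : t' ≠ 1
  P_invol : ∀ p ∈ P, p * p = 1 → p = 1 ∨ p = t
  P'_invol : ∀ p ∈ P', p * p = 1 → p = 1 ∨ p = t'
  t_sq : t * t = 1
  t'_sq : t' * t' = 1
  P_Q2 : ∀ p ∈ P, ∀ b ∈ Q2, Commute p b
  P'_Q1 : ∀ p ∈ P', ∀ a ∈ Q1, Commute p a
  t_inv : ∀ a ∈ Q1, t * a * t⁻¹ * a ∈ zpowers z
  t'_inv : ∀ b ∈ Q2, t' * b * t'⁻¹ * b ∈ zpowers z
  PP'_comm : ∀ p ∈ P, ∀ p' ∈ P', Commute p p'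
  PP'_normal : ∀ g : G, g * z * g⁻¹ ∈ zpowers z → ∀ x ∈ P ⊔ P' ⊔ Q, g * x * g⁻¹ ∈ P ⊔ P' ⊔ Q

/-- The configuration. -/
structure Loc (G : Type*) [Group G] [Finite G] where
  /-- the data at the central element -/
  S : Setup G
  /-- the elementary abelian group of order 81 -/
  el : V4 → G
  z_eq : el e0 = S.z
  jd : JData S.Q el
  e1_mem : el e1 ∈ S.Q1
  e2_mem : el e2 ∈ S.Q2
  /-- its normaliser induces isometries -/
  norm_iso : ∀ g : G, (∀ v, ∃ w, g * el v * g⁻¹ = el w) →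
    ∃ M : Matrix (Fin 4) (Fin 4) (ZMod 3), (∀ v, qf (M.mulVec v) = qf v) ∧ ∀ v, g * el v * g⁻¹ = el (M.mulVec v)
  t_act : ∀ v, S.t * el v * S.t⁻¹ = el (refl1 v)
  t'_act : ∀ v, S.t' * el v * S.t'⁻¹ = el (refl2 v)
  /-- its centraliser -/
  K : Subgroup G
  mem_K : ∀ g, g ∈ K ↔ ∀ v, Commute g (el v)
  K_comm : IsMulCommutative K
  K_exp : ∀ x ∈ K, x ^ 3 = 1
  K_card : Nat.card K = 81 ∨ Nat.card K = 243
  K_Q : ∀ x ∈ K, x ∈ S.Q → ∃ v, x = el v
  /-- it is the only abelian subgroup of its order of any 3-group containing it -/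
  K_unique : ∀ R : Subgroup G, IsPGroup 3 R → K ≤ R → ∀ A ≤ R, IsMulCommutative A →
    Nat.card A = Nat.card K → A = K
  /-- its normaliser controls the fusion of its elements and leaves the subgroup of order 81 invariant -/
  K_fusion : ∀ x ∈ K, ∀ g : G, g * x * g⁻¹ ∈ K →
    ∃ n : G, (∀ v, ∃ w, n * el v * n⁻¹ = el w) ∧ n * x * n⁻¹ = g * x * g⁻¹
  /-- the sign at the quotient by the subgroup of order 81 -/
  sign : Nat.card K = 243 → ∀ g : G, ∀ M : Matrix (Fin 4) (Fin 4) (ZMod 3),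
    (∀ v, g * el v * g⁻¹ = el (M.mulVec v)) →
      (IsS6 M ∧ ∀ x ∈ K, ∃ v, g * x * g⁻¹ = x * el v) ∨ (¬ IsS6 M ∧ ∀ x ∈ K, ∃ v, g * x * g⁻¹ * x = el v)
  /-- the centraliser of the central element and of the involution -/
  centT : ∀ g : G, Commute g S.z → Commute g S.t →
    ∃ q ∈ S.Q2, ∃ p ∈ S.P, ∃ p' ∈ S.P', ∃ k ∈ K ⊓ centralizer {S.t}, g = q * p * p' * k
  /-- the opposite point does not centralise the quaternion group -/
  P_move : ∀ v, v 1 = 0 → v 3 ≠ 0 → ∀ p ∈ S.P, Commute p (el v) → p = 1 ∨ p = S.t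

namespace Loc

variable {G : Type*} [Group G] [Finite G]

/-- The part of the centraliser fixed by the involution. -/
abbrev Kt (L : Loc G) : Subgroup G := L.K ⊓ centralizer {L.S.t}

end Loc

/-- An interior point of the plane fixed by the involution. -/
def ci : V4 := ![1, 0, 0, 1]

/-- The exterior point orthogonal to it in that plane, other than `e2`. -/
def ec : V4 := ![1, 0, 0, 2]

/-- What the analysis at the involution gives on the signaliser of order 512. -/
structure Mid {G : Type*} [Group G] [Finite G] (L : Loc G) (W : Subgroup G) : Prop where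
  le : W ≤ centralizer {L.S.t}
  extra : Cfsg.IsExtraspecial 2 W
  card : Nat.card W = 512
  P_le : L.S.P ≤ W
  fix_point : ∀ x ∈ W, Commute x L.S.z → x ∈ L.S.P
  norm_Kt : L.Kt ≤ normalizer (W : Set G)
  norm_plane : ∀ g : G, Commute g L.S.t → (∀ v : V4, v 1 = 0 → ∃ w : V4, g * L.el v * g⁻¹ = L.el w) →
    g ∈ normalizer (W : Set G)
  /-- the largest signaliser -/
  sig : ∀ X : Subgroup G, X ≤ centralizer {L.S.t} → (Nat.card X).Coprime 3 →
    (∀ k ∈ L.Kt, ∀ x ∈ X, k * x * k⁻¹ ∈ X) → X ≤ W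
  cent_point : centralizer ({L.S.z} : Set G) ⊓ centralizer {L.S.t} ≤ normalizer (W : Set G)
  /-- the centraliser of two independent elements of the fixed part -/
  cent_pair : ∀ x ∈ L.Kt, ∀ y ∈ L.Kt, x ≠ 1 → y ∉ zpowers x →
    centralizer ({x} : Set G) ⊓ centralizer {y} ⊓ centralizer {L.S.t} ≤ normalizer (W : Set G)
  /-- and inside it the normaliser of the plane, at an interior point -/
  cent_interior : ∀ v : V4, v 1 = 0 → (∀ k : ZMod 3, v ≠ k • ci) → ∀ g : G, Commute g L.S.t →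
    Commute g (L.el ci) → Commute g (L.el v) → ∀ u, ∃ w, g * L.el u * g⁻¹ = L.el w
  /-- without an element of order three at the top an exterior point is controlled -/
  cent_exterior : Nat.card L.K = 81 →
    centralizer ({L.el e2} : Set G) ⊓ centralizer {L.S.t} ≤ normalizer (W : Set G)
  /-- the scalar element -/
  scalar : Nat.card L.K = 243 → ∃ c ∈ L.Kt, (∀ v, c ≠ L.el v) ∧
    (∀ x ∈ W, Commute x c → x = 1 ∨ x = L.S.t) ∧ (∀ q ∈ L.S.Q2, Commute q c) ∧
    (∀ p ∈ L.S.P', Commute p c) ∧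
    ∀ g : G, Commute g L.S.t → ∀ M : Matrix (Fin 4) (Fin 4) (ZMod 3), IsS6 M →
      (∀ v, g * L.el v * g⁻¹ = L.el (M.mulVec v)) → Commute g c

/-- The subgroup which becomes the centraliser of the involution. -/
def topGroup {G : Type*} [Group G] [Finite G] (L : Loc G) (W : Subgroup G) (c : G) : Subgroup G :=
  W ⊔ (normalizer (W : Set G) ⊓ centralizer {L.S.t} ⊓ normalizer (zpowers c : Set G))

/-- The quotient of that subgroup: the unitary group in dimension four, perhaps with an outer automorphism, times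
the scalar group. -/
structure Quot {G : Type*} [Group G] [Finite G] (L : Loc G) (W : Subgroup G) (c : G) : Prop where
  mid : Mid L W
  c_mem : c ∈ L.Kt
  c_case : (Nat.card L.K = 81 ∧ c = 1) ∨
    (Nat.card L.K = 243 ∧ (∀ v, c ≠ L.el v) ∧ ∀ x ∈ W, Commute x c → x = 1 ∨ x = L.S.t)
  cent_c : c ≠ 1 → centralizer ({c} : Set G) ⊓ centralizer {L.S.t} ≤ normalizer (W : Set G)
  /-- the centraliser of two independent elements of the fixed part -/
  cent_pair_top : ∀ x ∈ L.Kt, ∀ y ∈ L.Kt, x ≠ 1 → y ∉ zpowers x →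
    centralizer ({x} : Set G) ⊓ centralizer {y} ⊓ centralizer {L.S.t} ≤ topGroup L W c
  /-- what commutes with the scalar element -/
  comm_c : (∀ q ∈ L.S.Q2, Commute q c) ∧ (∀ p ∈ L.S.P', Commute p c) ∧
    ∀ g : G, Commute g L.S.t → ∀ M : Matrix (Fin 4) (Fin 4) (ZMod 3), IsS6 M →
      (∀ v, g * L.el v * g⁻¹ = L.el (M.mulVec v)) → Commute g c
  quot : ∀ (F : Type) [Field F] [Fintype F], Fintype.card F = 3 →
    ∃ φ : ↥(topGroup L W c) →* MulAut (Cfsg.PSp 2 F),
      (∀ x, φ x = 1 ↔ (x : G) ∈ W ⊔ zpowers c) ∧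
      ∀ a : Cfsg.PSp 2 F, MulAut.conj a ∈ φ.range

/-- What the closing step delivers: the centraliser of the involution. -/
structure CenT {G : Type*} [Group G] [Finite G] (L : Loc G) (W : Subgroup G) (c : G) : Prop where
  q : Quot L W c
  top : centralizer ({L.S.t} : Set G) = topGroup L W c
  self : ∀ x : G, Commute x L.S.t → (∀ w ∈ W, Commute x w) → x ∈ W

end Cfsg.Agent.U62Three
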