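import Cfsg.Agent.Lib.U62Three.Geometry
import Cfsg.Agent.Lib.U62Three.Local.Main

/-!
The configuration exists over any data at the central element.
-/

set_option autoImplicit false

namespace Cfsg.Agent.U62Three

/-- The configuration at the central element. -/
theorem exists_loc {G : Type*} [Group G] [Finite G] (S : Setup G) : ∃ L : Loc G, L.S = S := by
  refine exists_loc_of S S.exists_pt fun y hp hy hQ x x' hx hx' h h' => ?_
  have mem : ∀ {x : G}, Commute x S.z → (∀ q ∈ S.Q, Commute q y → Commute x q) → x ∈ S.K y :=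
    fun hx h => S.mem_K.2 ⟨hx, fun d hd => h d (S.mem_D.1 hd).1 (S.mem_D.1 hd).2.symm⟩
  exact ⟨(S.cent_abelian hp hy hQ).1 _ (mem hx h) _ (mem hx' h'), (S.cent_abelian hp hy hQ).2 _ (mem hx h)⟩

end Cfsg.Agent.U62Three
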