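import Cfsg.Agent.Lib.U62Three.Orient

/-!
The properties of a point in the unitary case: its fixed space in the core has order 27, the commuting points lie on
one diagonal, all points are fused in the centraliser modulo the core, and the centraliser of the fixed space is
abelian of exponent three.
-/

set_option autoImplicit false
set_option linter.style.haveILetI false
set_option linter.unusedSectionVars false

namespace Cfsg.Agent.U62Three

open Subgroup
open scoped commutatorElement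
open Co2Three (IsPoint pw pw_zero pw_one pw_add pw_neg pw_mem pw_commute pw_not_mem)

namespace Setup

variable {G : Type*} [Group G] [Finite G] (S : Setup G)

/-- A point commuting with another centralises its part of the core. -/
theorem Out.mem_K_of_commute {u v : G} (hu : S.Out u) (hv : S.Out v) (h : Commute u v) : v ∈ S.K u := by
  obtain ⟨a1, a2, b1, b2, F⟩ := hu.exists_frame
  obtain ⟨c1, c2, d1, d2, F'⟩ := hv.exists_frame
  have hpv := S.pres_of_three' (n := 1) hv.comm (by rw [pow_one, F'.ax.y3])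
  have hD : ∀ a ∈ S.D u, v * a * v⁻¹ ∈ S.D u := fun a ha => S.mem_D.2
    ⟨S.normal' hv.comm (S.mem_D.1 ha).1, (h.mul_right (S.mem_D.1 ha).2).mul_right h.inv_right⟩
  have key : ∀ a ∈ S.D u, a ∉ zpowers S.z → v * a * v⁻¹ ∈ closure {S.z, a} → Commute v a := fun a ha haz hm =>
    (S.mem_D.1 (F'.fix_eq_D (S.mem_D.1 ha).1
      (S.fix_of_normalize hv.comm F'.ax.y3 (S.mem_D.1 ha).1 haz hm))).2
  refine F.ax.mem_K_iff.2 ⟨hv.comm, key a1 F.ax.a1_mem F.ax.n1 ?_, key a2 F.ax.a2_mem F.ax.n2 ?_⟩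
  · exact S.fac'.centraliser1 F.ax.m1 F.ax.n1 (hpv.2.1 a1 F.ax.m1)
      (F.ax.D_comm F.ax.a1_mem (hD a1 F.ax.a1_mem))
  · exact S.fac'.symm.centraliser1 F.ax.m2 F.ax.n2 (hpv.2.2 a2 F.ax.m2)
      (F.ax.D_comm F.ax.a2_mem (hD a2 F.ax.a2_mem))

/-- Two points of one centraliser differ by a power modulo the core. -/
theorem exists_coset {u v a1 a2 b1 b2 : G} (F : S.Frame u a1 a2 b1 b2) (hv : v ∈ S.K u) (ov : S.Out v) :
    ∃ k : ZMod 3, k ≠ 0 ∧ v * (pw u k)⁻¹ ∈ S.D u := by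
  have F' := F.move hv ov
  have hu := F.ax.y_mem
  set k := S.sg b1 v * S.sg b1 u with hk
  have hk0 : k ≠ 0 :=
    (by decide : ∀ a b : ZMod 3, a ≠ 0 → b ≠ 0 → a * b ≠ 0) _ _ F'.sg1_ne F.sg1_ne
  have hval : ∀ b ∈ S.Q, S.sg b (v * (pw u k)⁻¹) = S.sg b v - k * S.sg b u := fun b hb => by
    rw [F.ax.sg_mul hb hv (inv_mem (pw_mem hu k)), F.ax.sg_inv hb (pw_mem hu k), F.ax.sg_pw hb hu, sub_eq_add_neg]
  refine ⟨k, hk0, F.mem_D (mul_mem hv (inv_mem (pw_mem hu k))) ?_ ?_⟩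
  · rw [hval _ (S.le1 F.bm1), hk]
    exact (by decide : ∀ a b : ZMod 3, b ≠ 0 → a - a * b * b = 0) _ _ F.sg1_ne
  · rw [hval _ (S.le2 F.bm2), ← F'.orient, ← F.orient, hk]
    exact (by decide : ∀ a b : ZMod 3, b ≠ 0 → a - a * b * b = 0) _ _ F.sg1_ne

/-- The properties of a point hold at the central element. -/
theorem exists_pt : Pt S.Q S.z := by
  refine ⟨S.core, S.le, fun g hg => S.normal g (S.conj_z (mem_centralizer_singleton_iff.1 hg)), S.exp, S.cq, S.wc,
    fun y hp hy hQ => ?_, fun y hp hy hQ => ?_, fun u v hu hv huz hvz huv huQ hvQ => ?_,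
    fun u v hu hv huz hvz huQ hvQ => ?_⟩
  · have o : S.Out y := ⟨hp, hy, hQ⟩
    obtain ⟨a1, a2, b1, b2, F⟩ := o.exists_frame
    obtain ⟨g, p⟩ := o.exists_pair
    exact (F.fixed' p).1
  · have o : S.Out y := ⟨hp, hy, hQ⟩
    obtain ⟨a1, a2, b1, b2, F⟩ := o.exists_frame
    obtain ⟨g, p⟩ := o.exists_pair
    exact (F.fixed' p).2
  · have ou : S.Out u := ⟨hu, huz, huQ⟩
    have ov : S.Out v := ⟨hv, hvz, hvQ⟩
    obtain ⟨a1, a2, b1, b2, F⟩ := ou.exists_frame
    obtain ⟨k, -, hk⟩ := S.exists_coset F (Out.mem_K_of_commute S ou ov huv) ov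
    refine ⟨-k, ?_⟩
    rw [pw_neg F.ax.y3]
    exact (S.mem_D.1 hk).1
  · have ou : S.Out u := ⟨hu, huz, huQ⟩
    have ov : S.Out v := ⟨hv, hvz, hvQ⟩
    obtain ⟨a1, a2, A⟩ := ou.exists_axes
    obtain ⟨c1, c2, d1, d2, F⟩ := ov.exists_frame
    obtain ⟨c, hc, hcK⟩ := S.exists_conj_K A F.ax
    have hu' := hcK u A.y_mem
    have ou' : S.Out (c * u * c⁻¹) := ⟨hu.conj c, (S.mem_K.1 hu').1, fun hQ => huQ (by
      have := S.normal' hc.inv_left hQ
      rwa [inv_inv, show c⁻¹ * (c * u * c⁻¹) * c = u by group] at this)⟩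
    obtain ⟨k, hk0, hk⟩ := S.exists_coset F hu' ou'
    exact ⟨c, hc, _, (S.mem_D.1 hk).1, k, hk0, (inv_mul_cancel_right _ _).symm⟩

/-- The centraliser of the fixed space is abelian of exponent three. -/
theorem cent_abelian {y : G} (hp : IsPoint S.z y) (hy : Commute y S.z) (hQ : y ∉ S.Q) :
    (∀ a ∈ centralizer ({S.z} : Set G) ⊓ centralizer ((S.Q ⊓ centralizer {y} : Subgroup G) : Set G),
      ∀ b ∈ centralizer ({S.z} : Set G) ⊓ centralizer ((S.Q ⊓ centralizer {y} : Subgroup G) : Set G),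
        Commute a b) ∧
    ∀ a ∈ centralizer ({S.z} : Set G) ⊓ centralizer ((S.Q ⊓ centralizer {y} : Subgroup G) : Set G),
      a ^ 3 = 1 := by
  obtain ⟨a1, a2, b1, b2, F⟩ := (show S.Out y from ⟨hp, hy, hQ⟩).exists_frame
  exact ⟨fun a ha b hb => F.K_comm ha hb, fun a ha => F.K_cube ha⟩

end Setup

end Cfsg.Agent.U62Three
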