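import Cfsg.Agent.Lib.U62Three.Split
import Cfsg.Agent.Lib.Components.FStar
import Cfsg.Agent.Lib.LocalEven.Basic
import Cfsg.Agent.Lib.Qd.Basic
import Mathlib.GroupTheory.SpecificGroups.Quaternion

/-!
S2994: the hypotheses give the data at the central element.
-/

set_option autoImplicit false
set_option linter.style.haveILetI false
set_option linter.unusedSectionVars false

namespace Cfsg.Agent.U62Three

open Subgroup
open Co2Three (Core)
open scoped commutatorElement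

variable {G : Type*} [Group G] [Finite G]

namespace Pre.Parts

variable {D : Pre G} (A : D.Parts)

theorem exists_mul {q : G} (hq : q ∈ D.Q) : ∃ a ∈ A.Q1, ∃ b ∈ A.Q2, q = a * b := by
  let S : Subgroup G :=
    { carrier := {x | ∃ a ∈ A.Q1, ∃ b ∈ A.Q2, x = a * b}
      one_mem' := ⟨1, one_mem _, 1, one_mem _, (mul_one 1).symm⟩
      mul_mem' := by
        rintro _ _ ⟨a, ha, b, hb, rfl⟩ ⟨a', ha', b', hb', rfl⟩
        refine ⟨a * a', mul_mem ha ha', b * b', mul_mem hb hb', ?_⟩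
        rw [mul_assoc, ← mul_assoc b, ← (A.fac.comm12 a' ha' b hb).eq]
        group
      inv_mem' := by
        rintro _ ⟨a, ha, b, hb, rfl⟩
        exact ⟨a⁻¹, inv_mem ha, b⁻¹, inv_mem hb, by rw [mul_inv_rev, ((A.fac.comm12 a ha b hb).inv_inv).eq]⟩ }
  have h : A.Q1 ⊔ A.Q2 ≤ S := sup_le (fun a ha => ⟨a, ha, 1, one_mem _, (mul_one a).symm⟩)
    (fun b hb => ⟨1, one_mem _, b, hb, (one_mul b).symm⟩)
  exact h (A.fac.sup_eq.symm ▸ hq)

theorem mem1_of_commute {q : G} (hq : q ∈ D.Q) (h : ∀ b ∈ A.Q2, Commute q b) : q ∈ A.Q1 := by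
  obtain ⟨a, ha, b, hb, rfl⟩ := A.exists_mul hq
  refine mul_mem ha ((zpowers_le.2 A.fac.z_mem1) (A.fac.symm.centre1 hb fun c hc => ?_))
  have := (A.fac.comm12 a ha c hc).inv_left.mul_left (h c hc)
  rwa [inv_mul_cancel_left] at this

theorem inverts {p : G} (hp : p ∈ A.P) (h2 : p * p = 1) (hne : p ≠ 1) {a : G} (ha : a ∈ A.Q1) :
    p * a * p⁻¹ * a ∈ zpowers D.z := by
  by_contra hb
  have hpT := (A.mem_P.1 hp).1
  have hpa := A.norm1 p hpT a ha
  refine hne (A.P_inf hp (A.mem_P'_of_fix hpT (mul_mem hpa ha) hb ?_))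
  rw [commutatorElement_def, show p * (p * a * p⁻¹ * a) * p⁻¹ * (p * a * p⁻¹ * a)⁻¹ =
    (p * p) * a * (p * p)⁻¹ * (p * a * p⁻¹) * a⁻¹ * (p * a * p⁻¹)⁻¹ by group, h2]
  rw [show 1 * a * (1 : G)⁻¹ * (p * a * p⁻¹) * a⁻¹ * (p * a * p⁻¹)⁻¹ = ⁅a, p * a * p⁻¹⁆ by
    simp only [commutatorElement_def]; group]
  exact Core.comm' D.core (A.fac.le1 ha) (A.fac.le1 hpa)

theorem unique_invol {p q : G} (hp : p ∈ A.P) (hq : q ∈ A.P) (hp2 : p * p = 1) (hq2 : q * q = 1)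
    (hp1 : p ≠ 1) (hq1 : q ≠ 1) : p = q := by
  obtain ⟨a, ha, haz⟩ := A.exists_base
  have h1 := A.inverts hp hp2 hp1 ha
  have h2 := A.inverts hq hq2 hq1 ha
  have hqa := A.norm1 q (A.mem_P.1 hq).1 a ha
  have h3 := A.inverts hp hp2 hp1 hqa
  have h := A.P_inf (mul_mem hp hq) (A.mem_P'_of_fix (A.mem_P.1 (mul_mem hp hq)).1 ha haz (by
    rw [commutatorElement_def, show p * q * a * (p * q)⁻¹ * a⁻¹ =
      p * (q * a * q⁻¹) * p⁻¹ * (q * a * q⁻¹) * ((q * a * q⁻¹)⁻¹ * a⁻¹) by group,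
      show (q * a * q⁻¹)⁻¹ * a⁻¹ = (a * (q * a * q⁻¹ * a) * a⁻¹)⁻¹ by group,
      ← D.core.commute h2 (A.fac.le1 ha), mul_inv_cancel_right]
    exact mul_mem h3 (inv_mem h2)))
  rw [mul_eq_one_iff_eq_inv, inv_eq_of_mul_eq_one_right hq2] at h
  exact h

theorem exists_invol : ∃ t ∈ A.P, t * t = 1 ∧ t ≠ 1 ∧ (∀ p ∈ A.P, p * p = 1 → p = 1 ∨ p = t) ∧
    ∃ s ∈ A.P, s * s = t := by
  obtain ⟨x, hx⟩ := exists_prime_orderOf_dvd_card' (G := A.P) 2 (hp := ⟨Nat.prime_two⟩) (by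
    rw [A.cards.1]; norm_num)
  have hx2 : (x : G) * x = 1 := by
    rw [← pow_two, ← Subgroup.coe_pow, ← hx, pow_orderOf_eq_one, Subgroup.coe_one]
  have hx1 : (x : G) ≠ 1 := fun h => by
    rw [← Subgroup.orderOf_coe, h, orderOf_one] at hx; omega
  have hu : ∀ p ∈ A.P, p * p = 1 → p = 1 ∨ p = x := fun p hp h =>
    or_iff_not_imp_left.2 fun h1 => A.unique_invol hp x.2 h hx2 h1 hx1
  refine ⟨x, x.2, hx2, hx1, hu, ?_⟩
  obtain ⟨p, hp, hp1⟩ : ∃ p ∈ A.P, p * p ≠ 1 := by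
    by_contra hc
    push Not at hc
    have hle : Nat.card A.P ≤ Nat.card (Bool : Type) := by
      classical
      refine Nat.card_le_card_of_injective (fun p : A.P => decide ((p : G) = 1)) fun p q h => ?_
      have h' : ((p : G) = 1) ↔ ((q : G) = 1) := decide_eq_decide.1 h
      rcases hu _ p.2 (hc p p.2) with e | e <;> rcases hu _ q.2 (hc q q.2) with e' | e'
      · exact Subtype.ext (e.trans e'.symm)
      · exact absurd ((h'.1 e).symm.trans e') (Ne.symm hx1)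
      · exact absurd ((h'.2 e').symm.trans e) (Ne.symm hx1)
      · exact Subtype.ext (e.trans e'.symm)
    rw [A.cards.1, Nat.card_eq_fintype_card, Fintype.card_bool] at hle
    omega
  have h8 : p ^ 8 = 1 := by
    have := pow_card_eq_one' (x := (⟨p, hp⟩ : A.P))
    rw [A.cards.1] at this
    exact congrArg Subtype.val this
  by_cases h4 : (p * p) * (p * p) = 1
  · exact ⟨p, hp, (hu _ (mul_mem hp hp) h4).resolve_left hp1⟩
  · refine ⟨p * p, mul_mem hp hp, (hu _ (mul_mem (mul_mem hp hp) (mul_mem hp hp)) ?_).resolve_left h4⟩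
    rw [← h8]
    simp [pow_succ, mul_assoc]

end Pre.Parts

theorem comm_zpow {g z : G} (h : g * z * g⁻¹ ∈ zpowers z) {w : G} (hw : w ∈ zpowers z) :
    g * w * g⁻¹ ∈ zpowers z := by
  obtain ⟨k, rfl⟩ := mem_zpowers_iff.1 hw
  rw [← conj_zpow]
  exact zpow_mem h k

namespace Pre

variable (D : Pre G)

theorem zconj_mem {g : G} (hg : g * D.z * g⁻¹ ∈ zpowers D.z) {x : G} (hx : Commute x D.z) :
    Commute (g * x * g⁻¹) D.z := by
  have hs : zpowers (g * D.z * g⁻¹) = zpowers D.z := by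
    refine eq_of_le_of_card_ge (zpowers_le.2 hg) (le_of_eq ?_)
    rw [Nat.card_zpowers, Nat.card_zpowers, show g * D.z * g⁻¹ = (MulAut.conj g).toMonoidHom D.z by simp,
      orderOf_injective _ (MulAut.conj g).injective]
  obtain ⟨k, hk⟩ := mem_zpowers_iff.1 (hs.symm ▸ mem_zpowers D.z)
  have h : Commute (g * x * g⁻¹) (g * D.z * g⁻¹) := hx.map (MulAut.conj g).toMonoidHom
  have := h.zpow_right k
  rwa [hk] at this

theorem zconj_of {g : G} (hg : Commute g D.z) : g * D.z * g⁻¹ ∈ zpowers D.z := by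
  rw [comm_conj hg (mem_zpowers _)]
  exact mem_zpowers _

namespace Parts

variable {D} (A : D.Parts)

theorem fixMod_t {t : G} (ht : t ∈ A.P) (h2 : t * t = 1) (hne : t ≠ 1) : fixMod D.core t = A.Q2 := by
  refine le_antisymm (fun q hq => ?_) fun b hb => mem_fixMod.2 ⟨A.fac.le2 hb, by
    rw [commutatorElement_eq_one_iff_mul_comm.2 ((A.mem_P.1 ht).2 b hb).eq]; exact one_mem _⟩
  obtain ⟨hqQ, hqz⟩ := mem_fixMod.1 hq
  obtain ⟨a, ha, b, hb, rfl⟩ := A.exists_mul hqQ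
  have h1 : ⁅t, a * b⁆ = ⁅t, a⁆ := by
    rw [show ⁅t, a * b⁆ = ⁅t, a⁆ * (a * ⁅t, b⁆ * a⁻¹) by simp only [commutatorElement_def]; group,
      commutatorElement_eq_one_iff_mul_comm.2 ((A.mem_P.1 ht).2 b hb).eq, mul_one, mul_inv_cancel, mul_one]
  rw [h1] at hqz
  refine mul_mem ((zpowers_le.2 A.fac.z_mem2) (Core.mem_of_sq D.core (A.fac.le1 ha) ?_)) hb
  have hi := A.inverts ht h2 hne ha
  have hX : t * a * t⁻¹ ∈ D.Q := D.norm_Q (D.commute_z (A.mem_P.1 ht).1) (A.fac.le1 ha)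
  rw [show a * a = ⁅t, a⁆⁻¹ * (t * a * t⁻¹ * a) by simp only [commutatorElement_def]; group]
  exact mul_mem (inv_mem hqz) hi

theorem conj_cases {t t' : G} (ht : t ∈ A.P) (h2 : t * t = 1) (hne : t ≠ 1) (ht' : t' ∈ A.P') (h2' : t' * t' = 1)
    (hne' : t' ≠ 1) (hu : ∀ p ∈ A.P, p * p = 1 → p = 1 ∨ p = t)
    (hu' : ∀ p ∈ A.P', p * p = 1 → p = 1 ∨ p = t') {g : G} (hg : g * D.z * g⁻¹ ∈ zpowers D.z)
    (hY : g * t * g⁻¹ ∈ D.Y) :
    ((∀ a ∈ A.Q1, g * a * g⁻¹ ∈ A.Q1) ∧ ∀ b ∈ A.Q2, g * b * g⁻¹ ∈ A.Q2) ∨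
      ((∀ a ∈ A.Q1, g * a * g⁻¹ ∈ A.Q2) ∧ ∀ b ∈ A.Q2, g * b * g⁻¹ ∈ A.Q1) := by
  obtain ⟨τ, hτ, q0, hq0, e⟩ := (D.mem_Y _).1 hY
  have hτz := D.commute_z hτ
  have hτ2 : τ * τ = 1 := by
    have h1 : (τ * q0) * (τ * q0) = 1 := by
      rw [← e, show g * t * g⁻¹ * (g * t * g⁻¹) = g * (t * t) * g⁻¹ by group, h2, mul_one, mul_inv_cancel]
    refine D.T_disjoint (mul_mem hτ hτ) ?_
    rw [show τ * τ = (τ * q0) * (τ * q0) * (q0⁻¹ * (τ⁻¹ * q0⁻¹ * τ⁻¹⁻¹)) by group, h1, one_mul]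
    exact mul_mem (inv_mem hq0) (D.norm_Q hτz.inv_left (inv_mem hq0))
  have hfix : fixMod D.core τ = A.Q2.map (MulAut.conj g).toMonoidHom := by
    ext x
    rw [mem_map_equiv, MulAut.conj_symm_apply, ← A.fixMod_t ht h2 hne]
    have hkey : ∀ y ∈ D.Q, (⁅τ * q0, y⁆ ∈ zpowers D.z ↔ ⁅τ, y⁆ ∈ zpowers D.z) := by
      intro y hy
      have hc := Core.comm' D.core hq0 hy
      rw [show ⁅τ * q0, y⁆ = τ * ⁅q0, y⁆ * τ⁻¹ * ⁅τ, y⁆ by simp only [commutatorElement_def]; group,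
        comm_conj hτz hc]
      exact (zpowers D.z).mul_mem_cancel_left hc
    constructor
    · intro hx
      obtain ⟨hxQ, hx'⟩ := mem_fixMod.1 hx
      have hgi : g⁻¹ * D.z * g⁻¹⁻¹ ∈ zpowers D.z := by
        have hs : zpowers (g * D.z * g⁻¹) = zpowers D.z := eq_of_le_of_card_ge (zpowers_le.2 hg) (le_of_eq (by
          rw [Nat.card_zpowers, Nat.card_zpowers, show g * D.z * g⁻¹ = (MulAut.conj g).toMonoidHom D.z by simp,
            orderOf_injective _ (MulAut.conj g).injective]))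
        obtain ⟨k, hk⟩ := mem_zpowers_iff.1 (hs.symm ▸ mem_zpowers D.z)
        refine ⟨k, ?_⟩
        rw [conj_zpow] at hk
        show D.z ^ k = g⁻¹ * D.z * g⁻¹⁻¹
        conv_rhs => rw [← hk]
        group
      have hm := comm_zpow hgi ((hkey x hxQ).2 hx')
      rw [← e] at hm
      refine mem_fixMod.2 ⟨by simpa [mul_assoc] using D.normal g⁻¹ hgi x hxQ, ?_⟩
      have e2 : g⁻¹ * ⁅g * t * g⁻¹, x⁆ * g⁻¹⁻¹ = ⁅t, g⁻¹ * x * g⁆ := by
        simp only [commutatorElement_def]; group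
      rwa [e2] at hm
    · intro hx
      obtain ⟨hxQ, hx'⟩ := mem_fixMod.1 hx
      have hxQ' : x ∈ D.Q := by simpa [mul_assoc] using D.normal g hg _ hxQ
      refine mem_fixMod.2 ⟨hxQ', (hkey x hxQ').1 ?_⟩
      have hm := comm_zpow hg hx'
      have e2 : g * ⁅t, g⁻¹ * x * g⁆ * g⁻¹ = ⁅g * t * g⁻¹, x⁆ := by simp only [commutatorElement_def]; group
      rwa [e2, e] at hm
  have hcard : Nat.card ↥(fixMod D.core τ) = 27 := by
    rw [hfix, card_map_of_injective (MulAut.conj g).injective, A.fac.card2]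
  obtain ⟨p, hp, p', hp', rfl⟩ := A.exists_dec hτ
  have hpp : Commute p p' := A.P_comm hp hp'
  have hp2 : p * p = 1 := by
    refine A.P_inf (mul_mem hp hp) ?_
    have h3 : (p * p) * (p' * p') = 1 := by
      rw [← hτ2]
      rw [mul_assoc p, mul_assoc p p', ← mul_assoc p' p p', ← hpp.eq, mul_assoc p p' p']
    rw [mul_eq_one_iff_eq_inv.1 h3]
    exact inv_mem (mul_mem hp' hp')
  have hp2' : p' * p' = 1 := by
    refine A.swap.P_inf (mul_mem hp' hp') (?_ : p' * p' ∈ A.P)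
    have h3 : (p * p) * (p' * p') = 1 := by
      rw [← hτ2]
      rw [mul_assoc p, mul_assoc p p', ← mul_assoc p' p p', ← hpp.eq, mul_assoc p p' p']
    rw [hp2, one_mul] at h3
    rw [h3]
    exact one_mem _
  have conj_all : ∀ R : Subgroup G, fixMod D.core (p * p') = R → ∀ b ∈ A.Q2, g * b * g⁻¹ ∈ R := by
    intro R hR b hb
    rw [← hR, hfix]
    exact ⟨b, hb, by simp⟩
  have conj_cover : ∀ R : Subgroup G, fixMod D.core (p * p') = R → ∀ y ∈ R, ∃ b ∈ A.Q2, g * b * g⁻¹ = y := by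
    intro R hR y hy
    rw [← hR, hfix] at hy
    obtain ⟨b, hb, e'⟩ := hy
    exact ⟨b, hb, by simpa using e'⟩
  rcases hu p hp hp2 with rfl | rfl <;> rcases hu' p' hp' hp2' with rfl | rfl
  · exfalso
    have : fixMod D.core ((1 : G) * 1) = D.Q := by
      ext x
      exact ⟨fun h => h.1, fun h => mem_fixMod.2 ⟨h, by rw [mul_one, commutatorElement_one_left]; exact one_mem _⟩⟩
    rw [this, D.core.card] at hcard
    omega
  · right
    have hR : fixMod D.core (1 * p') = A.Q1 := by rw [one_mul]; exact A.swap.fixMod_t hp' h2' hne'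
    refine ⟨fun a ha => A.swap.mem1_of_commute (D.normal g hg a (A.fac.le1 ha)) fun y hy => ?_, conj_all _ hR⟩
    obtain ⟨b, hb, rfl⟩ := conj_cover _ hR y hy
    exact (A.fac.comm12 a ha b hb).map (MulAut.conj g).toMonoidHom
  · left
    have hR : fixMod D.core (p * 1) = A.Q2 := by rw [mul_one]; exact A.fixMod_t hp h2 hne
    refine ⟨fun a ha => A.mem1_of_commute (D.normal g hg a (A.fac.le1 ha)) fun y hy => ?_, conj_all _ hR⟩
    obtain ⟨b, hb, rfl⟩ := conj_cover _ hR y hy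
    exact (A.fac.comm12 a ha b hb).map (MulAut.conj g).toMonoidHom
  · exfalso
    have hle : fixMod D.core (p * p') ≤ zpowers D.z := by
      intro q hq
      obtain ⟨hqQ, hqz⟩ := mem_fixMod.1 hq
      obtain ⟨a, ha, b, hb, rfl⟩ := A.exists_mul hqQ
      refine Core.mem_of_sq D.core hqQ ?_
      have ia := A.inverts hp h2 hne ha
      have ib := A.swap.inverts hp' h2' hne' hb
      have hca : Commute p' a := (A.mem_P'.1 hp').2 a ha
      have hpb' : Commute p (p' * b * p'⁻¹) := (A.mem_P.1 hp).2 _ (A.norm2 p' (A.mem_P'.1 hp').1 b hb)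
      have e1 : p * p' * (a * b) * (p * p')⁻¹ = (p * a * p⁻¹) * (p' * b * p'⁻¹) := by
        rw [show p * p' * (a * b) * (p * p')⁻¹ = p * ((p' * a * p'⁻¹) * (p' * b * p'⁻¹)) * p⁻¹ by group,
          hca.eq, mul_inv_cancel_right,
          show p * (a * (p' * b * p'⁻¹)) * p⁻¹ = (p * a * p⁻¹) * (p * (p' * b * p'⁻¹) * p⁻¹) by group,
          hpb'.eq, mul_inv_cancel_right]
      rw [commutatorElement_def, e1] at hqz
      have hpa : p * a * p⁻¹ ∈ A.Q1 := A.norm1 p (A.mem_P.1 hp).1 a ha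
      have hpb : p' * b * p'⁻¹ ∈ A.Q2 := A.norm2 p' (A.mem_P'.1 hp').1 b hb
      have e2 : a * b * (a * b) = (p * a * p⁻¹ * (p' * b * p'⁻¹) * (a * b)⁻¹)⁻¹ *
          ((p * a * p⁻¹ * a) * (p' * b * p'⁻¹ * b)) := by
        rw [show (p * a * p⁻¹ * a) * (p' * b * p'⁻¹ * b) = p * a * p⁻¹ * (a * (p' * b * p'⁻¹)) * b by group,
          (A.fac.comm12 a ha _ hpb).eq]
        group
      rw [e2]
      exact mul_mem (inv_mem hqz) (mul_mem ia ib)
    have := Nat.le_of_dvd Nat.card_pos (card_dvd_of_le hle)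
    rw [hcard, D.core.card_zpowers] at this
    omega

theorem mem_Y_of_two {x : G} {n : ℕ} (hn : x ^ 2 ^ n = 1) (hx : Commute x D.z)
    (h1 : ∀ a ∈ A.Q1, x * a * x⁻¹ ∈ A.Q1) (h2 : ∀ b ∈ A.Q2, x * b * x⁻¹ ∈ A.Q2) : x ∈ D.Y := by
  obtain ⟨a, ha, haz⟩ := A.exists_base
  obtain ⟨b, hb, hbz⟩ := A.swap.exists_base
  have hnz : ∀ {a : G}, a ∉ zpowers D.z → x * a * x⁻¹ ∉ zpowers D.z := by
    intro a ha h
    have := comm_conj hx.inv_left h
    rw [show x⁻¹ * (x * a * x⁻¹) * x⁻¹⁻¹ = a by group] at this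
    exact ha (this ▸ h)
  obtain ⟨p, hp, hpa⟩ := A.exists_move (h1 a ha) (hnz haz) ha haz
  obtain ⟨p', hp', hpb⟩ := A.swap.exists_move (h2 b hb) (hnz hbz) hb hbz
  change p' ∈ A.P' at hp'
  obtain ⟨hpT, hpc⟩ := A.mem_P.1 hp
  obtain ⟨hp'T, hpc'⟩ := A.mem_P'.1 hp'
  obtain ⟨y, hy⟩ : ∃ y, y = p' * p * x := ⟨_, rfl⟩
  have hyz : Commute y D.z := hy ▸ ((D.commute_z hp'T).mul_left (D.commute_z hpT)).mul_left hx
  have hy1 : ∀ c ∈ A.Q1, y * c * y⁻¹ ∈ A.Q1 := fun c hc => by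
    rw [hy, show p' * p * x * c * (p' * p * x)⁻¹ = p' * (p * (x * c * x⁻¹) * p⁻¹) * p'⁻¹ by group]
    exact A.norm1 p' hp'T _ (A.norm1 p hpT _ (h1 c hc))
  have hy2 : ∀ c ∈ A.Q2, y * c * y⁻¹ ∈ A.Q2 := fun c hc => by
    rw [hy, show p' * p * x * c * (p' * p * x)⁻¹ = p' * (p * (x * c * x⁻¹) * p⁻¹) * p'⁻¹ by group]
    exact A.norm2 p' hp'T _ (A.norm2 p hpT _ (h2 c hc))
  have hfa : ⁅y, a⁆ ∈ zpowers D.z := by
    have hm := A.norm1 p hpT _ (h1 a ha)
    rw [commutatorElement_def, hy, show p' * p * x * a * (p' * p * x)⁻¹ = p' * (p * (x * a * x⁻¹) * p⁻¹) * p'⁻¹ by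
      group, (hpc' _ hm).eq, mul_inv_cancel_right,
      show p * (x * a * x⁻¹) * p⁻¹ * a⁻¹ = ((p * (x * a * x⁻¹) * p⁻¹) * ((p * (x * a * x⁻¹) * p⁻¹)⁻¹ * a)⁻¹ *
        (p * (x * a * x⁻¹) * p⁻¹)⁻¹) by group, ← D.core.commute (inv_mem hpa) (A.fac.le1 hm), mul_inv_cancel_right]
    exact inv_mem hpa
  have hfb : ⁅y, b⁆ ∈ zpowers D.z := by
    have hm := A.norm2 p' hp'T _ (h2 b hb)
    rw [commutatorElement_def, hy, show p' * p * x * b * (p' * p * x)⁻¹ = p' * (p * (x * b * x⁻¹) * p⁻¹) * p'⁻¹ by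
      group, (hpc _ (h2 b hb)).eq, mul_inv_cancel_right,
      show p' * (x * b * x⁻¹) * p'⁻¹ * b⁻¹ = ((p' * (x * b * x⁻¹) * p'⁻¹) * ((p' * (x * b * x⁻¹) * p'⁻¹)⁻¹ * b)⁻¹ *
        (p' * (x * b * x⁻¹) * p'⁻¹)⁻¹) by group, ← D.core.commute (inv_mem hpb) (A.fac.le2 hm), mul_inv_cancel_right]
    exact inv_mem hpb
  have hall : A.Q1 ⊔ A.Q2 ≤ fixMod D.core (y ^ 3) := sup_le
    (fun c hc => mem_fixMod.2 ⟨A.fac.le1 hc, A.fac.fix_line hyz hy1 ha haz hfa hc⟩)
    (fun c hc => mem_fixMod.2 ⟨A.fac.le2 hc, A.fac.symm.fix_line hyz hy2 hb hbz hfb hc⟩)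
  rw [A.fac.sup_eq] at hall
  obtain ⟨r, hr, hrc⟩ := A.fac.inner fun q hq => (mem_fixMod.1 (hall hq)).2
  have hry := D.cq (r * y ^ 3)
    ((show Commute r D.z from mem_centralizer_singleton_iff.1 (D.le hr)).mul_left (hyz.pow_left 3)) hrc
  have hy3 : y ^ 3 ∈ D.Q := by
    have := mul_mem (inv_mem hr) hry
    rwa [inv_mul_cancel_left] at this
  set C := centralizer ({D.z} : Set G)
  haveI : (D.Y.subgroupOf C).Normal := ⟨fun c hc g => by
    rw [mem_subgroupOf] at hc ⊢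
    exact D.Y_normal g (mem_centralizer_singleton_iff.1 g.2) _ hc⟩
  have hxC : x ∈ C := mem_centralizer_singleton_iff.2 hx.eq
  have hyC : y ∈ C := mem_centralizer_singleton_iff.2 hyz.eq
  have hppY : p' * p ∈ D.Y := (D.mem_Y _).2 ⟨_, mul_mem hp'T hpT, 1, one_mem _, (mul_one _).symm⟩
  set π := QuotientGroup.mk' (D.Y.subgroupOf C)
  have hxy : π ⟨x, hxC⟩ = π ⟨y, hyC⟩ := by
    have hpC : p' * p ∈ C := mem_centralizer_singleton_iff.2 ((D.commute_z hp'T).mul_left (D.commute_z hpT)).eq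
    have e : (⟨y, hyC⟩ : C) = ⟨p' * p, hpC⟩ * ⟨x, hxC⟩ := Subtype.ext hy
    rw [e, map_mul, show π ⟨p' * p, hpC⟩ = 1 from (QuotientGroup.eq_one_iff _).2 (mem_subgroupOf.2 hppY), one_mul]
  have ho : orderOf (π ⟨x, hxC⟩) = 1 := by
    refine Nat.eq_one_of_dvd_coprimes (show Nat.Coprime (2 ^ n) 3 from Nat.Coprime.pow_left n (by norm_num))
      (orderOf_dvd_of_pow_eq_one ?_) (orderOf_dvd_of_pow_eq_one ?_)
    · rw [← map_pow, show (⟨x, hxC⟩ : C) ^ 2 ^ n = 1 from Subtype.ext hn, map_one]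
    · rw [hxy, ← map_pow]
      refine (QuotientGroup.eq_one_iff _).2 (mem_subgroupOf.2 ?_)
      exact (D.mem_Y _).2 ⟨1, one_mem _, y ^ 3, hy3, (one_mul _).symm⟩
  exact mem_subgroupOf.1 ((QuotientGroup.eq_one_iff _).1 (orderOf_eq_one_iff.1 ho))

theorem cube_one1 {t : G} (ht : t ∈ A.P) (h2 : t * t = 1) (hne : t ≠ 1) {a : G} (ha : a ∈ A.Q1) : a ^ 3 = 1 := by
  have hX : t * a * t⁻¹ ∈ D.Q := D.norm_Q (D.commute_z (A.mem_P.1 ht).1) (A.fac.le1 ha)
  obtain ⟨w, hw, e⟩ : ∃ w ∈ zpowers D.z, t * a * t⁻¹ = w * a⁻¹ := ⟨_, A.inverts ht h2 hne ha, by group⟩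
  have h3 : t * a ^ 3 * t⁻¹ = (w * a⁻¹) ^ 3 := by rw [← e, conj_pow]
  have hc := Core.cube D.core (A.fac.le1 ha)
  rw [comm_conj (D.commute_z (A.mem_P.1 ht).1) hc,
    (show Commute w a⁻¹ from D.core.commute hw (inv_mem (A.fac.le1 ha))).mul_pow, Core.zcube D.core hw,
    one_mul, inv_pow] at h3
  have h6 : a ^ 3 * a ^ 3 = 1 := eq_inv_iff_mul_eq_one.1 h3
  have h9 := Core.zcube D.core hc
  rwa [pow_succ, pow_two, h6, one_mul] at h9

include A in
theorem toSetup (hwc : ∀ g : G, g * D.z * g⁻¹ ∈ D.Q → g * D.z * g⁻¹ ∈ zpowers D.z)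
    (hnwc : ∃ g : G, Commute (g * D.z * g⁻¹) D.z ∧ g * D.z * g⁻¹ ∉ zpowers D.z) :
    ∃ S : Setup G, S.z = D.z := by
  obtain ⟨t, ht, t2, tne, hu, s, hs, hst⟩ := A.exists_invol
  obtain ⟨t', ht', t2', tne', hu', -⟩ := A.swap.exists_invol
  change t' ∈ A.P' at ht'
  have hstab : ∀ g : G, Commute g D.z →
      ((∀ a ∈ A.Q1, g * a * g⁻¹ ∈ A.Q1) ∧ ∀ b ∈ A.Q2, g * b * g⁻¹ ∈ A.Q2) ∨
        ((∀ a ∈ A.Q1, g * a * g⁻¹ ∈ A.Q2) ∧ ∀ b ∈ A.Q2, g * b * g⁻¹ ∈ A.Q1) := fun g hg =>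
    A.conj_cases ht t2 tne ht' t2' tne' hu hu' (D.zconj_of hg)
      (D.Y_normal g hg t ((D.mem_Y t).2 ⟨t, (A.mem_P.1 ht).1, 1, one_mem _, (mul_one t).symm⟩))
  have hperm : ∀ g : G, g * D.z * g⁻¹ ∈ zpowers D.z →
      ((∀ a ∈ A.Q1, g * a * g⁻¹ ∈ A.Q1) ∧ ∀ b ∈ A.Q2, g * b * g⁻¹ ∈ A.Q2) ∨
        ((∀ a ∈ A.Q1, g * a * g⁻¹ ∈ A.Q2) ∧ ∀ b ∈ A.Q2, g * b * g⁻¹ ∈ A.Q1) := by
    intro g hg
    refine A.conj_cases ht t2 tne ht' t2' tne' hu hu' hg ?_
    set u := g * s * g⁻¹ with hu0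
    have huz : Commute u D.z := D.zconj_mem hg (D.commute_z (A.mem_P.1 hs).1)
    have e : g * t * g⁻¹ = u * u := by rw [← hst, hu0]; group
    obtain ⟨n, hn⟩ := D.exists_two (A.mem_P.1 hs).1
    have hun : (u * u) ^ 2 ^ n = 1 := by
      rw [← pow_two, ← pow_mul, mul_comm, pow_mul, hu0, conj_pow, hn, mul_one, mul_inv_cancel, one_pow]
    rw [e]
    have key : (∀ a ∈ A.Q1, u * u * a * (u * u)⁻¹ ∈ A.Q1) ∧ ∀ b ∈ A.Q2, u * u * b * (u * u)⁻¹ ∈ A.Q2 := by
      have ee : ∀ a : G, u * u * a * (u * u)⁻¹ = u * (u * a * u⁻¹) * u⁻¹ := fun a => by group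
      simp only [ee]
      rcases hstab u huz with ⟨h1, h2⟩ | ⟨h1, h2⟩
      · exact ⟨fun a ha => h1 _ (h1 a ha), fun b hb => h2 _ (h2 b hb)⟩
      · exact ⟨fun a ha => h2 _ (h1 a ha), fun b hb => h1 _ (h2 b hb)⟩
    exact A.mem_Y_of_two hun (huz.mul_left huz) key.1 key.2
  have hYle : A.P ⊔ A.P' ⊔ D.Q = D.Y := by
    refine le_antisymm (sup_le (sup_le ?_ ?_) ?_) fun x hx => ?_
    · exact fun x hx => (D.mem_Y x).2 ⟨x, (A.mem_P.1 hx).1, 1, one_mem _, (mul_one x).symm⟩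
    · exact fun x hx => (D.mem_Y x).2 ⟨x, (A.mem_P'.1 hx).1, 1, one_mem _, (mul_one x).symm⟩
    · exact fun x hx => (D.mem_Y x).2 ⟨1, one_mem _, x, hx, (one_mul x).symm⟩
    · obtain ⟨τ, hτ, q, hq, rfl⟩ := (D.mem_Y x).1 hx
      obtain ⟨p, hp, p', hp', rfl⟩ := A.exists_dec hτ
      exact mul_mem (mem_sup_left (mul_mem (mem_sup_left hp) (mem_sup_right hp'))) (mem_sup_right hq)
  have hexp : ∀ q ∈ D.Q, q ^ 3 = 1 := fun q hq => by
    obtain ⟨a, ha, b, hb, rfl⟩ := A.exists_mul hq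
    rw [(A.fac.comm12 a ha b hb).mul_pow, A.cube_one1 ht t2 tne ha, A.swap.cube_one1 ht' t2' tne' hb, one_mul]
  refine ⟨{
    z := D.z, Q := D.Q, Q1 := A.Q1, Q2 := A.Q2, P := A.P, P' := A.P', t := t, t' := t'
    core := D.core
    exp := hexp
    le := D.le
    normal := D.normal
    cq := D.cq
    wc := hwc
    nwc := hnwc
    le1 := A.fac.le1
    le2 := A.fac.le2
    z_mem1 := A.fac.z_mem1
    z_mem2 := A.fac.z_mem2
    card1 := A.fac.card1
    card2 := A.fac.card2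
    inf12 := A.fac.inf12
    comm12 := A.fac.comm12
    perm := hperm
    card_P := A.cards.1
    card_P' := A.cards.2
    P_le := fun x hx => D.T_le (A.mem_P.1 hx).1
    P'_le := fun x hx => D.T_le (A.mem_P'.1 hx).1
    t_mem := ht
    t'_mem := ht'
    t_ne := tne
    t'_ne := tne'
    P_invol := hu
    P'_invol := hu'
    t_sq := t2
    t'_sq := t2'
    P_Q2 := fun p hp b hb => (A.mem_P.1 hp).2 b hb
    P'_Q1 := fun p hp a ha => (A.mem_P'.1 hp).2 a ha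
    t_inv := fun a ha => A.inverts ht t2 tne ha
    t'_inv := fun b hb => A.swap.inverts ht' t2' tne' hb
    PP'_comm := fun p hp p' hp' => A.P_comm hp hp'
    PP'_normal := ?_ }, rfl⟩
  intro g hg
  suffices h : A.P ⊔ A.P' ⊔ D.Q ≤ (A.P ⊔ A.P' ⊔ D.Q).comap (MulAut.conj g).toMonoidHom by
    intro x hx
    simpa using h hx
  have two : ∀ x ∈ D.T, g * x * g⁻¹ ∈ A.P ⊔ A.P' ⊔ D.Q := by
    intro x hx
    rw [hYle]
    obtain ⟨n, hn⟩ := D.exists_two hx
    have hxz := D.commute_z hx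
    have hc : ∀ (R R' : Subgroup G), (∀ a ∈ R', g⁻¹ * a * g ∈ R) → (∀ a ∈ R, x * a * x⁻¹ ∈ R) →
        (∀ a ∈ R, g * a * g⁻¹ ∈ R') → ∀ a ∈ R', g * x * g⁻¹ * a * (g * x * g⁻¹)⁻¹ ∈ R' := by
      intro R R' h1 h2 h3 a ha
      rw [show g * x * g⁻¹ * a * (g * x * g⁻¹)⁻¹ = g * (x * (g⁻¹ * a * g) * x⁻¹) * g⁻¹ by group]
      exact h3 _ (h2 _ (h1 a ha))
    have hinv : ∀ {R R' : Subgroup G}, Nat.card R = 27 → Nat.card R' = 27 → (∀ a ∈ R, g * a * g⁻¹ ∈ R') →
        ∀ a ∈ R', g⁻¹ * a * g ∈ R := by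
      intro R R' c c' h a ha
      have hle : R.map (MulAut.conj g).toMonoidHom ≤ R' := by
        rintro _ ⟨r, hr, rfl⟩
        simpa using h r hr
      have he := eq_of_le_of_card_ge hle (by rw [card_map_of_injective (MulAut.conj g).injective, c, c'])
      rw [← he] at ha
      obtain ⟨r, hr, rfl⟩ := ha
      simpa [mul_assoc] using hr
    have h1 := A.norm1 x hx
    have h2 := A.norm2 x hx
    refine A.mem_Y_of_two (n := n) (by rw [conj_pow, hn, mul_one, mul_inv_cancel]) (D.zconj_mem hg hxz) ?_ ?_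
    · rcases hperm g hg with ⟨g1, g2⟩ | ⟨g1, g2⟩
      · exact hc _ _ (hinv A.fac.card1 A.fac.card1 g1) h1 g1
      · exact hc _ _ (hinv A.fac.card2 A.fac.card1 g2) h2 g2
    · rcases hperm g hg with ⟨g1, g2⟩ | ⟨g1, g2⟩
      · exact hc _ _ (hinv A.fac.card2 A.fac.card2 g2) h2 g2
      · exact hc _ _ (hinv A.fac.card1 A.fac.card2 g1) h1 g1
  refine sup_le (sup_le ?_ ?_) fun x hx => ?_
  · exact fun x hx => by simpa using two x (A.mem_P.1 hx).1
  · exact fun x hx => by simpa using two x (A.mem_P'.1 hx).1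
  · simpa using mem_sup_right (S := A.P ⊔ A.P') (D.normal g hg x hx)

end Parts

end Pre

theorem quat_pair : ∀ x : QuaternionGroup 2, QuaternionGroup.a 2 * x = x * QuaternionGroup.a 2 := by decide

theorem quat_two : (QuaternionGroup.a 2 : QuaternionGroup 2) ≠ 1 ∧
    (QuaternionGroup.a 2 : QuaternionGroup 2) * QuaternionGroup.a 2 = 1 := by decide

/-- The hypotheses of S2994 give the data. -/
theorem exists_setup (Z : Subgroup G) (hZ3 : Nat.card ↥Z = 3) (H : Subgroup G)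
    (hH : H = Subgroup.centralizer (Z : Set G))
    (hQ : Cfsg.IsExtraspecial 3 ↥(Cfsg.generalizedFittingSubgroup ↥H))
    (hQord : Nat.card ↥(Cfsg.generalizedFittingSubgroup ↥H) = 3 ^ 5)
    (hN : ∃ _ : (Cfsg.generalizedFittingSubgroup ↥H).Normal,
      ∃ N : Subgroup (↥H ⧸ Cfsg.generalizedFittingSubgroup ↥H),
        N.Normal ∧ Nonempty (↥N ≃* QuaternionGroup 2 × QuaternionGroup 2))
    (hwc : Cfsg.IsWeaklyClosed Z ((Cfsg.generalizedFittingSubgroup ↥H).map H.subtype))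
    (hnwc : ¬ Cfsg.IsWeaklyClosed Z H) : ∃ S : Setup G, Z = zpowers S.z := by
  classical
  obtain ⟨hFn, N, hNn, ⟨eN⟩⟩ := hN
  haveI := hFn
  haveI := hNn
  haveI : Fact (Nat.Prime 3) := ⟨Nat.prime_three⟩
  haveI : Fact (Nat.Prime 2) := ⟨Nat.prime_two⟩
  set F := Cfsg.generalizedFittingSubgroup ↥H with hF
  set Q := F.map H.subtype with hQdef
  obtain ⟨z, hz⟩ := (isCyclic_of_prime_card hZ3).exists_generator
  obtain ⟨z, hzZ⟩ := z
  have hZz : Z = zpowers z := by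
    refine le_antisymm (fun x hx => ?_) (zpowers_le.2 hzZ)
    obtain ⟨k, hk⟩ := mem_zpowers_iff.1 (hz ⟨x, hx⟩)
    exact ⟨k, congrArg Subtype.val hk⟩
  have hCH : H = centralizer {z} := by
    rw [hH, hZz]
    ext x
    rw [mem_centralizer_singleton_iff, mem_centralizer_iff]
    refine ⟨fun h => (h z (mem_zpowers z)).symm, fun h w hw => ?_⟩
    obtain ⟨k, rfl⟩ := mem_zpowers_iff.1 hw
    exact ((show Commute x z from h).zpow_right k).eq.symm
  have mH : ∀ {x : G}, x ∈ H ↔ Commute x z := fun {x} => by rw [hCH, mem_centralizer_singleton_iff]; rfl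
  have mQ : ∀ {x : ↥H}, (x : G) ∈ Q ↔ x ∈ F := fun {x} =>
    ⟨fun ⟨y, hy, e⟩ => by rwa [← Subtype.ext e], fun h => ⟨x, h, rfl⟩⟩
  have hQH : Q ≤ H := map_subtype_le _
  have hQc : Nat.card Q = 243 := by
    rw [hQdef, card_map_of_injective H.subtype_injective, hQord]; norm_num
  have hzQ : z ∈ Q := hwc.1 hzZ
  have hoz : orderOf z = 3 := by rw [← Nat.card_zpowers, ← hZz, hZ3]
  have hexQ : Cfsg.IsExtraspecial 3 Q :=
    Qd.isExtraspecial_congr (F.equivMapOfInjective H.subtype H.subtype_injective).symm hQ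
  have heq : (zpowers z).subgroupOf Q = center Q := by
    refine eq_of_le_of_card_ge (fun w hw => mem_center_iff.2 fun q => Subtype.ext ?_) ?_
    · obtain ⟨k, hk⟩ := mem_zpowers_iff.1 (mem_subgroupOf.1 hw)
      have := ((mH.1 (hQH q.2)).zpow_right k).eq
      rw [hk] at this
      exact this
    · rw [hexQ.2, Nat.card_congr (subgroupOfEquivOfLe (zpowers_le.2 hzQ)).toEquiv, Nat.card_zpowers, hoz]
  have core : Core Q z := by
    refine ⟨hQc, hzQ, hoz, fun x hx => ⟨fun h => ?_, fun h q hq => ?_⟩, fun x hx y hy => ?_⟩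
    · have : (⟨x, hx⟩ : Q) ∈ center Q := mem_center_iff.2 fun q => Subtype.ext (h q q.2).symm
      rw [← heq] at this
      exact this
    · have : (⟨x, hx⟩ : Q) ∈ center Q := heq ▸ mem_subgroupOf.2 h
      exact congrArg Subtype.val (mem_center_iff.1 this ⟨q, hq⟩).symm
    · have : ⁅(⟨x, hx⟩ : Q), ⟨y, hy⟩⁆ ∈ center Q := by
        rw [← hexQ.1.2.2]
        exact commutator_mem_commutator (mem_top _) (mem_top _)
      rw [← heq, mem_subgroupOf] at this
      exact this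
  have hnorm : ∀ g : G, g * z * g⁻¹ ∈ zpowers z → ∀ q ∈ Q, g * q * g⁻¹ ∈ Q := by
    intro g hg
    have hgN : g ∈ normalizer (H : Set G) := by
      refine mem_normalizer_fintype fun x hx => mH.2 ?_
      have hs : zpowers (g * z * g⁻¹) = zpowers z := eq_of_le_of_card_ge (zpowers_le.2 hg) (le_of_eq (by
        rw [Nat.card_zpowers, Nat.card_zpowers, show g * z * g⁻¹ = (MulAut.conj g).toMonoidHom z by simp,
          orderOf_injective _ (MulAut.conj g).injective]))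
      obtain ⟨k, hk⟩ := mem_zpowers_iff.1 (hs.symm ▸ mem_zpowers z)
      have h : Commute (g * x * g⁻¹) (g * z * g⁻¹) := (mH.1 hx).map (MulAut.conj g).toMonoidHom
      have := h.zpow_right k
      rwa [hk] at this
    intro q hq
    exact (mem_normalizer_iff.1 (LEBasic.le_normalizer_map_of_characteristic
      Components.generalizedFitting_characteristic hgN) q).1 hq
  -- the preimage of the normal subgroup and a Sylow subgroup of it
  set π := QuotientGroup.mk' F with hπ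
  set Y0 := N.comap π with hY0
  have hN64 : Nat.card N = 64 := by
    rw [Nat.card_congr eN.toEquiv, Nat.card_prod, Nat.card_eq_fintype_card, QuaternionGroup.card]
  have hY0c : Nat.card Y0 = 243 * 64 := by
    have h1 := (F.subgroupOf Y0).card_mul_index
    have hle : F ≤ Y0 := fun x hx => by
      rw [hY0, mem_comap, show π x = 1 from (QuotientGroup.eq_one_iff x).2 hx]; exact one_mem _
    rw [Nat.card_congr (subgroupOfEquivOfLe hle).toEquiv, hQord] at h1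
    have h2 : (F.subgroupOf Y0).index = 64 := by
      let f : Y0 →* N := (π.comp Y0.subtype).codRestrict N fun x => x.2
      have hf : Function.Surjective f := fun n => by
        obtain ⟨x, hx⟩ := QuotientGroup.mk'_surjective F (n : ↥H ⧸ F)
        exact ⟨⟨x, by rw [hY0, mem_comap, hx]; exact n.2⟩, Subtype.ext hx⟩
      have hk : f.ker = F.subgroupOf Y0 := by
        ext x
        rw [MonoidHom.mem_ker, mem_subgroupOf, Subtype.ext_iff]
        exact QuotientGroup.eq_one_iff (N := F) (x : ↥H)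
      rw [← hk, Subgroup.index_ker, MonoidHom.range_eq_top.2 hf, Subgroup.card_top, hN64]
    rw [← h1, h2]; norm_num
  obtain ⟨T0⟩ : Nonempty (Sylow 2 Y0) := inferInstance
  have hT0c : Nat.card (T0 : Subgroup Y0) = 64 := by
    rw [T0.card_eq_multiplicity, hY0c, show (243 * 64 : ℕ) = 2 ^ 6 * 243 by norm_num,
      Nat.factorization_mul (by norm_num) (by norm_num), Nat.Prime.factorization_pow Nat.prime_two]
    simp [Nat.factorization_eq_zero_of_not_dvd]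
  set ι := H.subtype.comp Y0.subtype with hι
  have hιinj : Function.Injective ι := H.subtype_injective.comp Y0.subtype_injective
  set T := (T0 : Subgroup Y0).map ι with hT
  let f : T0 →* N := ((π.comp Y0.subtype).comp (T0 : Subgroup Y0).subtype).codRestrict N fun x => (x : Y0).2
  have hfi : Function.Injective f := by
    rw [injective_iff_map_eq_one]
    intro x hx
    have h1 : ((x : Y0) : ↥H) ∈ F := (QuotientGroup.eq_one_iff _).1 (congrArg Subtype.val hx)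
    have d1 : orderOf x ∣ 64 := hT0c ▸ orderOf_dvd_natCard x
    have d2 : orderOf x ∣ 243 := by
      rw [show orderOf x = orderOf (⟨_, h1⟩ : F) by rw [Subgroup.orderOf_mk]; simp]
      have := orderOf_dvd_natCard (⟨_, h1⟩ : F)
      rwa [hQord] at this
    exact orderOf_eq_one_iff.1 (Nat.eq_one_of_dvd_coprimes (by norm_num) d1 d2)
  have hfb : Function.Bijective f :=
    (Nat.bijective_iff_injective_and_card _).2 ⟨hfi, by rw [hT0c, hN64]⟩
  let eT := (MulEquiv.ofBijective f hfb).trans eN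
  let up : QuaternionGroup 2 × QuaternionGroup 2 → G := fun q => ι ((eT.symm q : T0) : Y0)
  have up_mem : ∀ q, up q ∈ T := fun q => mem_map_of_mem ι (eT.symm q).2
  have up_inj : Function.Injective up := fun q r h => eT.symm.injective (Subtype.ext (hιinj h))
  have up_mul : ∀ q r, up (q * r) = up q * up r := fun q r => by simp only [up, map_mul, Subgroup.coe_mul]
  have up_one : up 1 = 1 := by simp [up]
  have up_surj : ∀ x ∈ T, ∃ q, up q = x := by
    rintro _ ⟨y, hy, rfl⟩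
    exact ⟨eT ⟨y, hy⟩, by simp [up]⟩
  obtain ⟨s1, s2⟩ := quat_two
  let D : Pre G :=
    { z := z
      Q := Q
      T := T
      Y := Y0.map H.subtype
      core := core
      le := fun q hq => hCH ▸ hQH hq
      normal := hnorm
      cq := fun g hg h => by
        have hgH : g ∈ H := mH.2 hg
        exact mQ.2 (Components.centralizer_generalizedFitting_le
          (mem_centralizer_iff.2 fun y hy => Subtype.ext (h y (mQ.2 hy)).eq.symm) : (⟨g, hgH⟩ : ↥H) ∈ F)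
      card_T := by rw [hT, card_map_of_injective hιinj, hT0c]
      T_le := fun x hx => by
        obtain ⟨y, -, rfl⟩ := hx
        exact hCH ▸ (y : ↥H).2
      pair := by
        refine ⟨up (QuaternionGroup.a 2, 1), up_mem _, up (1, QuaternionGroup.a 2), up_mem _, ?_, ?_, ?_, ?_, ?_,
          fun x hx => ?_, fun x hx => ?_⟩
        · rw [← up_mul, Prod.mk_mul_mk, s2, mul_one]; exact up_one
        · rw [← up_mul, Prod.mk_mul_mk, s2, mul_one]; exact up_one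
        · exact fun h => s1 (congrArg Prod.fst (up_inj (h.trans up_one.symm)))
        · exact fun h => s1 (congrArg Prod.snd (up_inj (h.trans up_one.symm)))
        · exact fun h => s1 (congrArg Prod.fst (up_inj h))
        · obtain ⟨⟨a, b⟩, rfl⟩ := up_surj x hx
          show _ * _ = _ * _
          rw [← up_mul, ← up_mul, Prod.mk_mul_mk, Prod.mk_mul_mk, quat_pair, one_mul, mul_one]
        · obtain ⟨⟨a, b⟩, rfl⟩ := up_surj x hx
          show _ * _ = _ * _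
          rw [← up_mul, ← up_mul, Prod.mk_mul_mk, Prod.mk_mul_mk, quat_pair, one_mul, mul_one]
      mem_Y := fun x => by
        constructor
        · rintro ⟨y, hy, rfl⟩
          obtain ⟨⟨τ, hτ⟩, he⟩ := hfb.2 ⟨π y, hy⟩
          refine ⟨ι τ, mem_map_of_mem ι hτ, (ι τ)⁻¹ * (y : G), ?_, (mul_inv_cancel_left _ _).symm⟩
          have h1 : ((τ : Y0) : ↥H)⁻¹ * y ∈ F := QuotientGroup.eq.1 (congrArg Subtype.val he)
          exact mQ.2 h1
        · rintro ⟨_, ⟨τ, hτ, rfl⟩, _, ⟨q, hq, rfl⟩, rfl⟩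
          refine ⟨(τ : ↥H) * q, ?_, rfl⟩
          show π ((τ : ↥H) * q) ∈ N
          rw [map_mul, show π q = 1 from (QuotientGroup.eq_one_iff q).2 hq, mul_one]
          exact τ.2
      Y_normal := fun g hg y hy => by
        obtain ⟨y, hy, rfl⟩ := hy
        refine ⟨⟨g, mH.2 hg⟩ * y * ⟨g, mH.2 hg⟩⁻¹, ?_, rfl⟩
        exact (hNn.comap π).conj_mem y hy _ }
  obtain ⟨A⟩ := D.exists_parts
  have hw : ∀ g : G, g * z * g⁻¹ ∈ Q → g * z * g⁻¹ ∈ zpowers z := by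
    intro g hg
    have h := hwc.2 g (by rw [hZz, MonoidHom.map_zpowers]; exact zpowers_le.2 (by simpa using hg))
    rw [← hZz, ← h]
    exact ⟨z, hzZ, by simp⟩
  have hZH : Z ≤ H := hZz ▸ zpowers_le.2 (mH.2 (Commute.refl z))
  obtain ⟨g, hgH, hgne⟩ : ∃ g : G, Z.map (MulAut.conj g).toMonoidHom ≤ H ∧
      Z.map (MulAut.conj g).toMonoidHom ≠ Z := by
    by_contra hc
    push Not at hc
    exact hnwc ⟨hZH, fun g hg => hc g hg⟩
  have hn : ∃ g : G, Commute (g * z * g⁻¹) z ∧ g * z * g⁻¹ ∉ zpowers z := by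
    refine ⟨g, mH.1 (hgH ⟨z, hzZ, by simp⟩), fun h => hgne ?_⟩
    refine eq_of_le_of_card_ge ?_ (le_of_eq (card_map_of_injective (MulAut.conj g).injective).symm)
    rw [hZz, MonoidHom.map_zpowers, zpowers_le]
    simpa using h
  obtain ⟨S, hS⟩ := A.toSetup (D := D) hw hn
  exact ⟨S, by rw [hS]; exact hZz⟩

end Cfsg.Agent.U62Three
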