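import Cfsg.Agent.Lib.U62Three.Cent

/-!
The types of the points in the centraliser: none of them is trivial on a factor, and the two invariants of each of
them agree.
-/

set_option autoImplicit false
set_option linter.style.haveILetI false
set_option linter.unusedSectionVars false

namespace Cfsg.Agent.U62Three

open Subgroup
open scoped commutatorElement
open Co2Three (IsPoint pw pw_zero pw_one pw_add pw_neg pw_mem pw_commute pw_not_mem)
open Local (lam lam_spec lam_zero_iff lam_central lam_mul_left lam_pow exists_pw pw_inj)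

theorem pw_of_zpow {G : Type*} [Group G] {x u : G} (hx : x ^ 3 = 1) (hu : u ∈ zpowers x) :
    ∃ k : ZMod 3, u = pw x k := by
  obtain ⟨m, rfl⟩ := mem_zpowers_iff.1 hu
  refine ⟨(m : ZMod 3), ?_⟩
  have hv : (((m : ZMod 3).val : ℕ) : ℤ) = m % 3 := by exact_mod_cast ZMod.val_intCast m
  rw [pw, ← zpow_natCast, hv]
  exact zpow_eq_zpow_emod' m hx

namespace Setup

variable {G : Type*} [Group G] [Finite G] (S : Setup G)

/-- A point shifted by a non-trivial power of the central element is again a point. -/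
def Partner (x : G) : Prop := ∃ t : ZMod 3, t ≠ 0 ∧ IsPoint S.z (x * pw S.z t)

namespace Frame

variable {S} {y a1 a2 b1 b2 : G} (F : S.Frame y a1 a2 b1 b2)
include F

/-- Any other point of the centraliser has the same frame. -/
theorem move {x : G} (hx : x ∈ S.K y) (ho : S.Out x) : S.Frame x a1 a2 b1 b2 :=
  ⟨⟨ho, F.ax.m1, F.ax.n1, F.ax.m2, F.ax.n2, (F.ax.mem_K_iff.1 hx).2.1, (F.ax.mem_K_iff.1 hx).2.2⟩,
    F.bm1, F.bn1, F.bm2, F.bn2⟩

theorem D_move {x : G} (hx : x ∈ S.K y) (ho : S.Out x) : S.D x = S.D y :=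
  F.ax.D_eq (F.move hx ho).ax (F.ax.mem_K_iff.1 hx).2.1 (F.ax.mem_K_iff.1 hx).2.2

theorem K_move {x : G} (hx : x ∈ S.K y) (ho : S.Out x) : S.K x = S.K y := by
  rw [K, K, F.D_move hx ho]

theorem not_mem_of_sg {x b : G} (hb : b ∈ S.Q) (hx : x ∈ S.K y) (h : S.sg b x ≠ 0) : x ∉ S.Q :=
  fun hQ => h (F.ax.sg_D hb (F.ax.K_Q hx hQ))

theorem b1_not : b1 ∉ S.D y := fun h => F.bn1 (F.ax.D_comm F.ax.a1_mem h)

theorem b2_not : b2 ∉ S.D y := fun h => F.bn2 (F.ax.D_comm F.ax.a2_mem h)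

theorem moves_b1 : ⁅y, b1⁆ ≠ 1 := fun e => F.b1_not
  (S.mem_D.2 ⟨S.le1 F.bm1, commutatorElement_eq_one_iff_mul_comm.1 e⟩)

/-- An element of the subgroup of the core commuting with `b2` lies on the first line. -/
theorem mem_pair1 {d : G} (hd : d ∈ S.D y) (h : Commute d b2) : d ∈ closure {S.z, a1} := by
  obtain ⟨u, hu, v, hv, rfl⟩ := F.ax.split (S.mem_D.1 hd).1 (F.ax.D_comm hd F.ax.a1_mem)
    (F.ax.D_comm hd F.ax.a2_mem)
  have hu1 : u ∈ S.Q1 := (closure_le _).2 (by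
    rintro x (rfl | rfl)
    · exact S.z_mem1
    · exact F.ax.m1) hu
  have hv2 : v ∈ S.Q2 := (closure_le _).2 (by
    rintro x (rfl | rfl)
    · exact S.z_mem2
    · exact F.ax.m2) hv
  have hvb : Commute v b2 := by
    have := (S.comm12 u hu1 b2 F.bm2).inv_left.mul_left h
    rwa [inv_mul_cancel_left] at this
  have hvz : v ∈ zpowers S.z := S.fac'.symm.centre1 hv2 fun c hc =>
    (mem_centralizer_singleton_iff.1 (S.swap.factor_gen (H := centralizer {v}) F.ax.m2 F.ax.n2 F.bm2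
      (fun hm => F.bn2 (S.comm_pair (S.commute_Q (S.le2 F.ax.m2)) (Commute.refl a2) hm))
      (mem_centralizer_singleton_iff.2 (S.commute_Q (S.le2 hv2)).symm.eq)
      (mem_centralizer_singleton_iff.2 (S.comm_pair (S.commute_Q (S.le2 F.ax.m2)) (Commute.refl a2) hv).eq)
      (mem_centralizer_singleton_iff.2 hvb.symm.eq) hc)).symm
  exact mul_mem hu ((zpowers_le.2 (subset_closure (Set.mem_insert _ _))) hvz)

/-- No point of the centraliser is trivial on a factor. -/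
theorem sg2_ne : S.sg b2 y ≠ 0 := by
  intro h0
  have A := F.ax
  have h2 : ∀ q ∈ S.Q2, ⁅y, q⁆ ∈ zpowers S.z := F.swap'.ax.trivial1 F.bm2 F.bn2 A.y_mem h0
  have hm1 : ∃ q ∈ S.Q1, ⁅y, q⁆ ∉ zpowers S.z := A.out.moves.resolve_right fun ⟨q, hq, hq'⟩ => hq' (h2 q hq)
  obtain ⟨g, p⟩ := A.out.exists_pair
  have hne : ⁅y, b2⁆ ≠ 1 := fun e => F.b2_not
    (S.mem_D.2 ⟨S.le2 F.bm2, commutatorElement_eq_one_iff_mul_comm.1 e⟩)
  have hpy := S.pres_of_three' (n := 1) A.out.comm (by rw [pow_one, A.y3])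
  -- the elements of the first line are commutators
  have hv : ∀ v ∈ closure {S.z, a1}, ∃ q ∈ S.Q, v = ⁅y, q⁆ := by
    intro v hv
    obtain ⟨W, -, -, hmem, himg⟩ := Local.factor S.core S.exp S.le1 S.card1 S.z_mem1 A.out.comm A.y3 hpy.2.1 hm1
    have hv1 : v ∈ S.Q1 := (closure_le _).2 (by
      rintro x (rfl | rfl)
      · exact S.z_mem1
      · exact A.m1) hv
    obtain ⟨r, hr, c, hc, rfl⟩ := himg v ((hmem v).2 ⟨hv1, by
      rw [commutatorElement_eq_one_iff_mul_comm.2 (S.comm_pair A.out.comm A.c1 hv).eq]; exact one_mem _⟩)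
    obtain ⟨q, hq, hq'⟩ := S.absorb (S.le2 F.bm2) (h2 b2 F.bm2) hne (S.le1 hr) hc
    exact ⟨q, hq, hq'.symm⟩
  -- a non-trivial element of both cores
  obtain ⟨e, he, he1⟩ : ∃ e ∈ S.Ds g ⊓ S.D y, e ≠ 1 := by
    by_contra hc
    push Not at hc
    have hbot : Nat.card ↥(S.Ds g ⊓ S.D y) = 1 := by
      rw [(eq_bot_iff_forall _).2 hc, card_bot]
    have e1 := Pt.card_inf_mul (Q := S.D y) (S.K y)
    rw [inf_eq_right.2 A.D_le, A.card_D] at e1
    have e2 : Nat.card ↥(S.Ds g ⊓ S.D y) * (S.D y).relIndex (S.Ds g) = Nat.card ↥(S.Ds g) :=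
      Pt.card_inf_mul (S.Ds g)
    obtain ⟨c1, c2, B⟩ := p.symm.out.exists_axes
    rw [hbot, S.card_Ds, B.card_D] at e2
    have hK := F.card_K_le
    have hne0 : (S.D y).relIndex (S.K y) ≠ 0 := fun h => by
      rw [h, mul_zero] at e1
      exact absurd e1.symm Nat.card_pos.ne'
    have e3 := relIndex_le_of_le_right (H := S.D y) (F.Ds_le p) hne0
    omega
  obtain ⟨heDs, heD⟩ := mem_inf.1 he
  have heg := (S.mem_Ds.1 heDs).1
  -- the image of the point under the involution at the second factor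
  have htz : Commute S.t' S.z := (S.pres_P' S.t'_mem).1
  have hti : S.t'⁻¹ = S.t' := inv_eq_of_mul_eq_one_right S.t'_sq
  have htQ1 : ∀ a ∈ S.Q1, S.t' * a * S.t'⁻¹ = a := fun a ha => by
    rw [(S.P'_Q1 _ S.t'_mem a ha).eq, mul_inv_cancel_right]
  have hy' : S.t' * y * S.t'⁻¹ ∈ S.K y := by
    have hz : Commute (S.t' * y * S.t'⁻¹) S.z :=
      (htz.mul_left A.out.comm).mul_left htz.inv_left
    refine A.mem_K_iff.2 ⟨hz, ?_, ?_⟩
    · have := A.c1.map (MulAut.conj S.t').toMonoidHom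
      simpa [htQ1 a1 A.m1] using this
    · have hc := S.t'_inv a2 A.m2
      have := A.c2.map (MulAut.conj S.t').toMonoidHom
      simp only [MulEquiv.coe_toMonoidHom, MulAut.conj_apply] at this
      have h' : Commute (S.t' * y * S.t'⁻¹) (S.t' * a2 * S.t'⁻¹ * a2) → Commute (S.t' * y * S.t'⁻¹) a2 := by
        intro h
        have := this.inv_right.mul_right h
        rwa [inv_mul_cancel_left] at this
      exact h' (S.commute_Zc hz hc)
  have hs2 : S.sg b2 (S.t' * y * S.t'⁻¹) = 0 := by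
    have hq : S.t'⁻¹ * b2 * S.t' ∈ S.Q2 := by
      have := (S.pres_P' (S.P'.inv_mem S.t'_mem)).2.2 b2 F.bm2
      rwa [inv_inv] at this
    have hc : ⁅b2, S.t' * y * S.t'⁻¹⁆ ∈ zpowers S.z := by
      rw [show ⁅b2, S.t' * y * S.t'⁻¹⁆ = S.t' * ⁅S.t'⁻¹ * b2 * S.t', y⁆ * S.t'⁻¹ by
        simp only [commutatorElement_def]; group, ← commutatorElement_inv y,
        (S.commute_Zc htz (inv_mem (h2 _ hq))).eq, mul_inv_cancel_right]
      exact inv_mem (h2 _ hq)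
    exact (lam_zero_iff S.core (S.le2 F.bm2) (S.core.zpowers_le_Q hc)).2
      (S.core.commute hc (S.le2 F.bm2) : Commute _ b2).symm
  have hs1 : S.sg b1 (S.t' * y * S.t'⁻¹) = S.sg b1 y := by
    have hm : ⁅b1, y⁆ ∈ S.Q1 := by
      rw [commutatorElement_def, mul_assoc, mul_assoc, ← mul_assoc y]
      exact mul_mem F.bm1 (hpy.2.1 _ (inv_mem F.bm1))
    rw [sg, sg, show ⁅b1, S.t' * y * S.t'⁻¹⁆ = S.t' * ⁅b1, y⁆ * S.t'⁻¹ by
      rw [show S.t' * ⁅b1, y⁆ * S.t'⁻¹ = ⁅S.t' * b1 * S.t'⁻¹, S.t' * y * S.t'⁻¹⁆ by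
        simp only [commutatorElement_def]; group, htQ1 b1 F.bm1], htQ1 _ hm]
  set d := S.t' * y * S.t'⁻¹ * y⁻¹ with hd
  have hdK : d ∈ S.K y := mul_mem hy' (inv_mem A.y_mem)
  have hdD : d ∈ S.D y := by
    refine F.mem_D hdK ?_ ?_
    · rw [hd, A.sg_mul (S.le1 F.bm1) hy' (inv_mem A.y_mem), A.sg_inv (S.le1 F.bm1) A.y_mem, hs1, add_neg_cancel]
    · rw [hd, A.sg_mul (S.le2 F.bm2) hy' (inv_mem A.y_mem), A.sg_inv (S.le2 F.bm2) A.y_mem, hs2, h0, neg_zero,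
        add_zero]
  have hdy : S.t' * y * S.t'⁻¹ = d * y := (inv_mul_cancel_right _ _).symm
  -- it is not central on the second factor
  have hdb : ¬ Commute d b2 := by
    intro hc
    obtain ⟨u, hu, e2⟩ : ∃ u ∈ zpowers S.z, S.t' * b2 * S.t'⁻¹ = u * b2⁻¹ :=
      ⟨_, S.t'_inv b2 F.bm2, by group⟩
    have h3 : ⁅S.t' * y * S.t'⁻¹, S.t' * b2 * S.t'⁻¹⁆ = ⁅y, b2⁆ := by
      rw [show ⁅S.t' * y * S.t'⁻¹, S.t' * b2 * S.t'⁻¹⁆ = S.t' * ⁅y, b2⁆ * S.t'⁻¹ by
        simp only [commutatorElement_def]; group, (S.commute_Zc htz (h2 b2 F.bm2)).eq, mul_inv_cancel_right]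
    rw [hdy, e2] at h3
    have hyu : Commute (d * y) u := S.commute_Zc
      ((S.commute_Q (S.mem_D.1 hdD).1).mul_left A.out.comm) hu
    have h4 : ⁅d * y, u * b2⁻¹⁆ = ⁅y, b2⁻¹⁆ := by
      rw [show ⁅d * y, u * b2⁻¹⁆ = ⁅d * y, u⁆ * (u * (d * ⁅y, b2⁻¹⁆ * d⁻¹ * ⁅d, b2⁻¹⁆) * u⁻¹) by
        simp only [commutatorElement_def]; group, commutatorElement_eq_one_iff_mul_comm.2 hyu.eq, one_mul,
        commutatorElement_eq_one_iff_mul_comm.2 hc.inv_right.eq, mul_one,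
        ← S.core.commute (h2 _ (inv_mem F.bm2)) (S.mem_D.1 hdD).1, mul_inv_cancel_right,
        ← (S.commute_Zc (S.commute_Q (S.core.zpowers_le_Q hu)) (h2 _ (inv_mem F.bm2))).symm.eq,
        mul_inv_cancel_right]
    rw [h4, show b2⁻¹ = b2 ^ 2 from inv_eq_of_mul_eq_one_right (by rw [← pow_succ', S.exp _ (S.le2 F.bm2)]),
      S.comm_pow (S.le2 F.bm2) (h2 b2 F.bm2), pow_two, mul_eq_left] at h3
    exact hne h3
  have hmk : lam S.z d b2 ≠ 0 := fun h => hdb ((lam_zero_iff S.core (S.mem_D.1 hdD).1 (S.le2 F.bm2)).1 h)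
  have hnk : lam S.z e b2 ≠ 0 := fun h => by
    obtain ⟨q, hq, heq⟩ := hv e
      (F.mem_pair1 heD ((lam_zero_iff S.core (S.mem_D.1 heD).1 (S.le2 F.bm2)).1 h))
    exact he1 (p.no_comm hq heq heg)
  set k := lam S.z d b2 * lam S.z e b2 with hk
  set x := pw e k * d⁻¹ with hx
  have hxD : x ∈ S.D y := mul_mem (pw_mem heD k) (inv_mem hdD)
  have hxv : x ∈ closure {S.z, a1} := by
    refine F.mem_pair1 hxD ((lam_zero_iff S.core (S.mem_D.1 hxD).1 (S.le2 F.bm2)).1 ?_)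
    have hd1 := (S.mem_D.1 hdD).1
    have hinv : lam S.z d⁻¹ b2 = -lam S.z d b2 := by
      refine eq_neg_of_add_eq_zero_left ?_
      rw [← lam_mul_left S.core (inv_mem hd1) hd1 (S.le2 F.bm2), inv_mul_cancel, Local.lam_one S.core (S.le2 F.bm2)]
    rw [hx, lam_mul_left S.core (pw_mem (S.mem_D.1 heD).1 k) (inv_mem hd1) (S.le2 F.bm2), hinv, pw,
      lam_pow S.core (S.mem_D.1 heD).1 (S.le2 F.bm2), ZMod.natCast_zmod_val, hk]
    exact (by decide : ∀ m n : ZMod 3, n ≠ 0 → m * n * n + -m = 0) _ _ hnk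
  obtain ⟨q, hq, hqe⟩ := hv x⁻¹ (inv_mem hxv)
  -- it gives a point in the conjugate core
  have hpt : IsPoint S.z (pw e k * y) := by
    have h1 : IsPoint S.z (x * y) := by
      have hp := (A.out.point.inv.conj q).inv
      rwa [show (q * y⁻¹ * q⁻¹)⁻¹ = ⁅y, q⁆⁻¹ * y by simp only [commutatorElement_def]; group, ← hqe,
        inv_inv] at hp
    have h3 := h1.conj S.t'
    rw [show S.t' * (x * y) * S.t'⁻¹ = (S.t' * x * S.t'⁻¹) * (S.t' * y * S.t'⁻¹) by group,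
      htQ1 x ((closure_le _).2 (by
        rintro u (rfl | rfl)
        · exact S.z_mem1
        · exact A.m1) hxv), hdy, hx, ← mul_assoc, inv_mul_cancel_right] at h3
    exact h3
  have hy'' := p.point_Qy hpt (by
    rw [show g⁻¹ * (pw e k * y) * g = (g⁻¹ * pw e k * g) * (g⁻¹ * y * g) by group]
    exact mul_mem (S.mem_Ds.1 (pw_mem heDs k)).1 (S.core.zpowers_le_Q p.y_Qy))
  have hone : pw e k = 1 := p.inf_Q (by
    rw [show pw e k = pw e k * y * y⁻¹ by group]; exact mul_mem hy'' (inv_mem (mem_zpowers y)))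
    (pw_mem (S.mem_D.1 heD).1 k)
  refine hdb ?_
  rw [hx, hone, one_mul] at hxv
  have h5 : d ∈ closure {S.z, a1} := inv_inv d ▸ inv_mem hxv
  exact (S.comm12 _ ((closure_le _).2 (by
    rintro u (rfl | rfl)
    · exact S.z_mem1
    · exact A.m1) h5) b2 F.bm2)

theorem sg1_ne : S.sg b1 y ≠ 0 := F.swap'.sg2_ne

theorem fixed' {g : G} (p : S.Pair y g) :
    Nat.card ↥(fixMod S.core y) = 27 ∧
      ∀ w ∈ S.Q, ⁅y, w⁆ ∈ zpowers S.z → ∃ r ∈ S.Q, ∃ c ∈ zpowers S.z, w = ⁅y, r⁆ * c := by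
  refine S.fixed p ?_ ?_
  · refine ⟨b1, F.bm1, fun h => F.sg1_ne ?_⟩
    exact (lam_zero_iff S.core (S.le1 F.bm1) (S.core.zpowers_le_Q (by
      rw [← commutatorElement_inv]; exact inv_mem h))).2
        (S.core.commute (by rw [← commutatorElement_inv]; exact inv_mem h) (S.le1 F.bm1) : Commute _ b1).symm
  · refine ⟨b2, F.bm2, fun h => F.sg2_ne ?_⟩
    exact (lam_zero_iff S.core (S.le2 F.bm2) (S.core.zpowers_le_Q (by
      rw [← commutatorElement_inv]; exact inv_mem h))).2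
        (S.core.commute (by rw [← commutatorElement_inv]; exact inv_mem h) (S.le2 F.bm2) : Commute _ b2).symm

theorem fix_eq_D {q : G} (hq : q ∈ S.Q) (h : ⁅y, q⁆ ∈ zpowers S.z) : q ∈ S.D y := by
  obtain ⟨g, p⟩ := F.ax.out.exists_pair
  have hle : S.D y ≤ fixMod S.core y := fun d hd => mem_fixMod.2 ⟨(S.mem_D.1 hd).1, by
    rw [commutatorElement_eq_one_iff_mul_comm.2 (S.mem_D.1 hd).2.eq]; exact one_mem _⟩
  rw [eq_of_le_of_card_ge hle (by rw [(F.fixed' p).1, F.ax.card_D])]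
  exact mem_fixMod.2 ⟨hq, h⟩

/-- With an intersection of order nine the commutators give a quadratic function on the core. -/
theorem exists_fun {g : G} (p : S.Pair y g) (hE : 9 ≤ Nat.card ↥(S.Ds g ⊓ S.D y)) :
    ∃ f : G → ZMod 3, (∀ q ∈ S.Q, ∃ e ∈ S.Ds g ⊓ S.D y, ⁅q, y⁆ = pw S.z (f q) * e) ∧
      (∀ q ∈ S.Q, ∀ r ∈ S.Q, f (q * r) = f q + f r + lam S.z q ⁅r, y⁆) ∧
      (∀ q ∈ S.Q, q ∉ S.D y → f q ≠ 0) ∧
      ∀ t : ZMod 3, t ≠ 0 → IsPoint S.z (y * pw S.z t) → ∀ q ∈ S.Q, q ∉ S.D y → f q = t := by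
  classical
  have ex : ∀ q : G, ∃ i : ZMod 3, q ∈ S.Q → ∃ e ∈ S.Ds g ⊓ S.D y, ⁅q, y⁆ = pw S.z i * e := fun q => by
    by_cases hq : q ∈ S.Q
    · obtain ⟨c, hc, e, he, h⟩ := F.decomp p hE (F.ax.comm_mem F.ax.y_mem hq)
      obtain ⟨i, rfl⟩ := exists_pw S.core hc
      exact ⟨i, fun _ => ⟨e, he, h⟩⟩
    · exact ⟨0, fun h => absurd h hq⟩
  choose f hf using ex
  have uniq : ∀ {i j : ZMod 3} {e e' : G}, e ∈ S.Ds g ⊓ S.D y → e' ∈ S.Ds g ⊓ S.D y →
      pw S.z i * e = pw S.z j * e' → i = j := by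
    intro i j e e' he he' h
    have h1 : (pw S.z j)⁻¹ * pw S.z i = e' * e⁻¹ := by
      calc (pw S.z j)⁻¹ * pw S.z i = (pw S.z j)⁻¹ * (pw S.z i * e) * e⁻¹ := by group
        _ = (pw S.z j)⁻¹ * (pw S.z j * e') * e⁻¹ := by rw [h]
        _ = _ := by group
    have h2 := p.Z_inf (mul_mem (inv_mem (pw_mem (mem_zpowers _) j)) (pw_mem (mem_zpowers _) i))
      (S.mem_Ds.1 (mem_inf.1 (h1 ▸ mul_mem he' (inv_mem he))).1).1
    exact (pw_inj S.core (inv_mul_eq_one.1 h2)).symm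
  have hpoint : ∀ e ∈ S.Ds g ⊓ S.D y, IsPoint S.z (e * y) → e = 1 := fun e he hpt => by
    have hy'' := p.point_Qy hpt (by
      rw [show g⁻¹ * (e * y) * g = (g⁻¹ * e * g) * (g⁻¹ * y * g) by group]
      exact mul_mem (S.mem_Ds.1 (mem_inf.1 he).1).1 (S.core.zpowers_le_Q p.y_Qy))
    exact p.inf_Q (by rw [show e = e * y * y⁻¹ by group]; exact mul_mem hy'' (inv_mem (mem_zpowers y)))
      (S.mem_D.1 (mem_inf.1 he).2).1
  have hdy : ∀ q ∈ S.Q, ∀ c ∈ zpowers S.z, ⁅q, y⁆ = c → q ∈ S.D y := fun q hq c hc h =>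
    F.fix_eq_D hq (by rw [← commutatorElement_inv, h]; exact inv_mem hc)
  refine ⟨f, hf, fun q hq r hr => ?_, fun q hq hqD h0 => ?_, fun t ht hpt q hq hqD => ?_⟩
  · obtain ⟨e, he, eq'⟩ := hf q hq
    obtain ⟨e', he', er⟩ := hf r hr
    obtain ⟨e'', he'', eqr⟩ := hf (q * r) (mul_mem hq hr)
    have hd := F.ax.comm_mem F.ax.y_mem hr
    have hdQ := (S.mem_D.1 hd).1
    have h1 : ⁅q * r, y⁆ = pw S.z (lam S.z q ⁅r, y⁆) * ⁅r, y⁆ * ⁅q, y⁆ := by
      rw [lam_spec S.core hq hdQ]; simp only [commutatorElement_def]; group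
    have hc1 : Commute e' (pw S.z (f q)) :=
      (S.core.commute (pw_mem (mem_zpowers _) _) (S.mem_D.1 (mem_inf.1 he').2).1 : Commute _ e').symm
    obtain ⟨L, hL⟩ : ∃ L, L = lam S.z q ⁅r, y⁆ := ⟨_, rfl⟩
    rw [← hL] at h1 ⊢
    rw [eqr, er, eq', show pw S.z L * (pw S.z (f r) * e') * (pw S.z (f q) * e) =
      pw S.z L * pw S.z (f r) * (e' * pw S.z (f q)) * e by group, hc1.eq,
      show pw S.z L * pw S.z (f r) * (pw S.z (f q) * e') * e =
      pw S.z L * pw S.z (f r) * pw S.z (f q) * (e' * e) by group, ← pw_add S.z3,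
      ← pw_add S.z3] at h1
    rw [uniq he'' (mul_mem he' he) h1]
    ring
  · obtain ⟨e, he, eq'⟩ := hf q hq
    rw [h0, pw_zero, one_mul] at eq'
    have := hpoint e he (by
      rw [← eq', show ⁅q, y⁆ * y = q * y * q⁻¹ by simp only [commutatorElement_def]; group]
      exact F.ax.out.point.conj q)
    exact hqD (hdy q hq 1 (one_mem _) (eq'.trans this))
  · obtain ⟨e, he, eq'⟩ := hf q hq
    refine (by decide : ∀ a t : ZMod 3, a ≠ 0 → t ≠ 0 → a + t ≠ 0 → a = t) _ _ ?_ ht fun h => ?_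
    · intro h0
      rw [h0, pw_zero, one_mul] at eq'
      have := hpoint e he (by
        rw [← eq', show ⁅q, y⁆ * y = q * y * q⁻¹ by simp only [commutatorElement_def]; group]
        exact F.ax.out.point.conj q)
      exact hqD (hdy q hq 1 (one_mem _) (eq'.trans this))
    · have hqz : Commute q (pw S.z t) := (S.commute_Q hq).pow_right _
      have hye : Commute (pw S.z t) (e * y) :=
        ((S.commute_Q (S.mem_D.1 (mem_inf.1 he).2).1).pow_right _).symm.mul_right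
          ((F.ax.out.comm.pow_right _).symm)
      have h2 : q * (y * pw S.z t) * q⁻¹ = e * y := by
        rw [show q * (y * pw S.z t) * q⁻¹ = (q * y * q⁻¹) * (q * pw S.z t * q⁻¹) by group, hqz.eq,
          mul_inv_cancel_right, show q * y * q⁻¹ = ⁅q, y⁆ * y by simp only [commutatorElement_def]; group, eq',
          mul_assoc (pw S.z (f q)) e y, mul_assoc, ← hye.eq, ← mul_assoc, ← pw_add S.z3, h, pw_zero, one_mul]
      rw [hpoint e he (h2 ▸ hpt.conj q), mul_one] at eq'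
      exact hqD (hdy q hq _ (pw_mem (mem_zpowers _) _) eq')

theorem prod_not : b1 * b2 ∉ S.D y := fun h => F.bn1 (by
  have := (F.ax.D_comm F.ax.a1_mem h).mul_right (S.comm12 a1 F.ax.m1 b2 F.bm2).inv_right
  rwa [mul_inv_cancel_right] at this)

theorem prod_lam : lam S.z b1 ⁅b2, y⁆ = 0 := by
  have hpy := S.pres_of_three' (n := 1) F.ax.out.comm (by rw [pow_one, F.ax.y3])
  have hm : ⁅b2, y⁆ ∈ S.Q2 := by
    rw [commutatorElement_def, mul_assoc, mul_assoc, ← mul_assoc y]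
    exact mul_mem F.bm2 (hpy.2.2 _ (inv_mem F.bm2))
  exact (lam_zero_iff S.core (S.le1 F.bm1) (S.le2 hm)).2 (S.comm12 b1 F.bm1 _ hm)

/-- With an intersection of order nine the invariants do not sum to zero. -/
theorem sum_ne {g : G} (p : S.Pair y g) (hE : 9 ≤ Nat.card ↥(S.Ds g ⊓ S.D y)) :
    S.sg b1 y + S.sg b2 y ≠ 0 := by
  obtain ⟨f, -, hmul, hne, -⟩ := F.exists_fun p hE
  have key : ∀ b ∈ S.Q, b ∉ S.D y → S.sg b y ≠ 0 → f b = -S.sg b y := fun b hb hbD hs => by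
    have h2 := hne (b * b) (mul_mem hb hb) fun h => hbD (by
      rw [show b = (b * b) * (b * b) by
        rw [show (b * b) * (b * b) = b ^ 3 * b by simp [pow_succ, mul_assoc], S.exp b hb, one_mul]]
      exact mul_mem h h)
    rw [hmul b hb b hb] at h2
    exact (by decide : ∀ p c : ZMod 3, p ≠ 0 → c ≠ 0 → p + p + c ≠ 0 → p = -c) _ _ (hne b hb hbD) hs h2
  have h := hne _ (mul_mem (S.le1 F.bm1) (S.le2 F.bm2)) F.prod_not
  rw [hmul _ (S.le1 F.bm1) _ (S.le2 F.bm2), F.prod_lam, add_zero, key b1 (S.le1 F.bm1) F.b1_not F.sg1_ne,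
    key b2 (S.le2 F.bm2) F.b2_not F.sg2_ne] at h
  intro h'
  refine h ?_
  rw [← neg_add, h', neg_zero]

/-- A point with a partner has a small intersection. -/
theorem small_of_partner {g : G} (p : S.Pair y g) (hp : S.Partner y) :
    Nat.card ↥(S.Ds g ⊓ S.D y) < 9 := by
  by_contra hE
  obtain ⟨f, -, hmul, -, hpt⟩ := F.exists_fun p (not_lt.1 hE)
  obtain ⟨t, ht, hp⟩ := hp
  have h := hmul _ (S.le1 F.bm1) _ (S.le2 F.bm2)
  rw [F.prod_lam, add_zero, hpt t ht hp _ (mul_mem (S.le1 F.bm1) (S.le2 F.bm2)) F.prod_not,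
    hpt t ht hp _ (S.le1 F.bm1) F.b1_not, hpt t ht hp _ (S.le2 F.bm2) F.b2_not] at h
  exact ht ((by decide : ∀ t : ZMod 3, t = t + t → t = 0) t h)

/-- A small intersection gives a point of the other orientation with a partner. -/
theorem exists_opposite {g : G} (p : S.Pair y g) (hE : Nat.card ↥(S.Ds g ⊓ S.D y) < 9) :
    ∃ x ∈ S.K y, S.Out x ∧ S.sg b1 x = S.sg b1 y ∧ S.sg b2 x = -S.sg b2 y ∧ S.Partner x := by
  obtain ⟨c1, c2, d1, d2, F'⟩ := p.symm.out.exists_frame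
  have h27 : Nat.card ↥(S.Ds g) = 27 := by rw [S.card_Ds, F'.ax.card_D]
  -- every pair of invariants occurs in the conjugate
  obtain ⟨f, hf, hf1, hf2⟩ : ∃ f ∈ S.Ds g, S.sg b1 f = S.sg b1 y ∧ S.sg b2 f = -S.sg b2 y := by
    let φ := F.sHom.comp (inclusion (F.Ds_le p))
    have h := φ.ker.card_mul_index
    rw [index_ker, h27] at h
    have hk : Nat.card φ.ker ≤ Nat.card ↥(S.Ds g ⊓ S.D y) := by
      refine Nat.card_le_card_of_injective (fun x => ⟨x.1.1, mem_inf.2 ⟨x.1.2, ?_⟩⟩) fun x x' e => ?_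
      · have hx : Multiplicative.ofAdd (S.sg b1 (x.1.1 : G), S.sg b2 (x.1.1 : G)) = 1 := x.2
        exact F.mem_D (F.Ds_le p x.1.2) (congrArg Prod.fst hx) (congrArg Prod.snd hx)
      · exact Subtype.ext (Subtype.ext (congrArg (fun u : ↥(S.Ds g ⊓ S.D y) => (u : G)) e))
    have hd : Nat.card φ.ker ∣ 3 ^ 3 := ⟨_, h.symm⟩
    obtain ⟨i, hi, e⟩ := (Nat.dvd_prime_pow Nat.prime_three).1 hd
    have hi1 : i ≤ 1 := by
      by_contra hlt
      have := Nat.pow_le_pow_right (show 0 < 3 by norm_num) (show 2 ≤ i by omega)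
      omega
    have htop : φ.range = ⊤ := by
      refine eq_top_of_card_eq _ (le_antisymm (card_le_card_group _) ?_)
      have hc : Nat.card (Multiplicative (ZMod 3 × ZMod 3)) = 9 := by simp
      rw [hc]
      interval_cases i <;> simp only [pow_zero, pow_one] at e <;> rw [e] at h <;> omega
    obtain ⟨⟨f, hf⟩, he⟩ := φ.range_eq_top.1 htop (Multiplicative.ofAdd (S.sg b1 y, -S.sg b2 y))
    have he' : (S.sg b1 f, S.sg b2 f) = (S.sg b1 y, -S.sg b2 y) := he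
    exact ⟨f, hf, congrArg Prod.fst he', congrArg Prod.snd he'⟩
  -- it gives a point
  have key : ∀ f ∈ S.Ds g, ∃ k : ZMod 3, IsPoint S.z (pw y k * f * S.z) := by
    intro f hf
    obtain ⟨hfQ, hfz⟩ := S.mem_Ds.1 hf
    have hc : Commute (g⁻¹ * S.z * g) (g⁻¹ * f * g) := by
      have := hfz.symm.map (MulAut.conj g⁻¹).toMonoidHom
      simpa [mul_assoc] using this
    obtain ⟨r, hr, c, hc', e⟩ := (F'.fixed' p.symm).2 _ (inv_mem hfQ) (by
      rw [commutatorElement_eq_one_iff_mul_comm.2 hc.inv_right.eq]; exact one_mem _)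
    have e0 : ⁅g⁻¹ * S.z * g, r⁆ = (g⁻¹ * f * g)⁻¹ * c⁻¹ := by rw [e, mul_inv_cancel_right]
    have e1 : r * (g⁻¹ * S.z * g) * r⁻¹ = c * (g⁻¹ * f * g) * (g⁻¹ * S.z * g) := by
      rw [show r * (g⁻¹ * S.z * g) * r⁻¹ = ⁅g⁻¹ * S.z * g, r⁆⁻¹ * (g⁻¹ * S.z * g) by
        simp only [commutatorElement_def]; group, e0, mul_inv_rev, inv_inv, inv_inv]
    have hcy : g * c * g⁻¹ ∈ zpowers y := by
      obtain ⟨m, hm⟩ := mem_zpowers_iff.1 hc'
      rw [p.eq, ← hm, ← conj_zpow]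
      exact zpow_mem (mem_zpowers _) m
    obtain ⟨k, hk⟩ := pw_of_zpow p.y3 hcy
    have hp := (e1 ▸ p.symm.out.point.conj r).conj g
    refine ⟨k, ?_⟩
    rw [← hk]
    simpa [mul_assoc] using hp
  have hzD : S.z ∈ S.D y := S.mem_D.2 ⟨S.core.mem, F.ax.out.comm⟩
  have hyK := F.ax.y_mem
  have hval : ∀ (b : G), b ∈ S.Q → ∀ (k : ZMod 3) (f : G), f ∈ S.Ds g →
      S.sg b (pw y k * f * S.z) = k * S.sg b y + S.sg b f := fun b hb k f hf => by
    rw [F.ax.sg_mul hb (mul_mem (pw_mem hyK k) (F.Ds_le p hf)) (F.ax.D_le hzD),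
      F.ax.sg_mul hb (pw_mem hyK k) (F.Ds_le p hf), F.ax.sg_pw hb hyK, F.ax.sg_D hb hzD, add_zero]
  -- it moves both factors, so the power of the point is trivial
  have kill : ∀ f ∈ S.Ds g, ∀ s : ZMod 3, s ≠ 0 → S.sg b1 f = s * S.sg b1 y → S.sg b2 f = -(s * S.sg b2 y) →
      IsPoint S.z (f * S.z) := by
    intro f hf s hs h1 h2
    obtain ⟨k, hk⟩ := key f hf
    have hxK : pw y k * f * S.z ∈ S.K y := mul_mem (mul_mem (pw_mem hyK k) (F.Ds_le p hf)) (F.ax.D_le hzD)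
    have hs1 : S.sg b1 (pw y k * f * S.z) = (k + s) * S.sg b1 y := by
      rw [hval _ (S.le1 F.bm1) k f hf, h1]; ring
    have hs2 : S.sg b2 (pw y k * f * S.z) = (k - s) * S.sg b2 y := by
      rw [hval _ (S.le2 F.bm2) k f hf, h2]; ring
    have hnQ : pw y k * f * S.z ∉ S.Q := by
      intro hQ
      have hD := F.ax.K_Q hxK hQ
      have z1 := hs1.symm.trans (F.ax.sg_D (S.le1 F.bm1) hD)
      have z2 := hs2.symm.trans (F.ax.sg_D (S.le2 F.bm2) hD)
      exact (by decide : ∀ k s a b : ZMod 3, s ≠ 0 → a ≠ 0 → b ≠ 0 → (k + s) * a = 0 → (k - s) * b = 0 → False)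
        _ _ _ _ hs F.sg1_ne F.sg2_ne z1 z2
    have ho : S.Out (pw y k * f * S.z) := ⟨hk, (S.mem_K.1 hxK).1, hnQ⟩
    have F2 := F.move hxK ho
    have k0 : k = 0 := (by decide : ∀ k s a b : ZMod 3, s ≠ 0 → (k + s) * a ≠ 0 → (k - s) * b ≠ 0 → k = 0)
      _ _ _ _ hs (hs1 ▸ F2.sg1_ne) (hs2 ▸ F2.sg2_ne)
    rwa [k0, pw_zero, one_mul] at hk
  have p1 := kill f hf 1 one_ne_zero (by rw [hf1, one_mul]) (by rw [hf2, one_mul])
  have p2 := kill f⁻¹ (inv_mem hf) (-1) (by decide)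
    (by rw [F.ax.sg_inv (S.le1 F.bm1) (F.Ds_le p hf), hf1]; ring)
    (by rw [F.ax.sg_inv (S.le2 F.bm2) (F.Ds_le p hf), hf2]; ring)
  have hxK : f * S.z ∈ S.K y := mul_mem (F.Ds_le p hf) (F.ax.D_le hzD)
  have e1 : S.sg b1 (f * S.z) = S.sg b1 y := by
    rw [F.ax.sg_mul (S.le1 F.bm1) (F.Ds_le p hf) (F.ax.D_le hzD), F.ax.sg_D (S.le1 F.bm1) hzD, hf1, add_zero]
  have e2 : S.sg b2 (f * S.z) = -S.sg b2 y := by
    rw [F.ax.sg_mul (S.le2 F.bm2) (F.Ds_le p hf) (F.ax.D_le hzD), F.ax.sg_D (S.le2 F.bm2) hzD, hf2, add_zero]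
  refine ⟨f * S.z, hxK, ⟨p1, (S.mem_K.1 hxK).1, F.not_mem_of_sg (S.le1 F.bm1) hxK (e1 ▸ F.sg1_ne)⟩, e1, e2,
    1, one_ne_zero, ?_⟩
  rw [pw_one, show f * S.z * S.z = (f⁻¹ * S.z)⁻¹ by
    rw [mul_inv_rev, inv_inv, mul_assoc, show S.z * S.z = S.z⁻¹ from
      eq_inv_of_mul_eq_one_left (by rw [← pow_two, ← pow_succ, S.z3])]
    exact ((S.mem_Ds.1 hf).2.inv_right).eq]
  exact p2.inv

/-- Partners spread to all points of the same orientation. -/
theorem spread {x w : G} (hx : x ∈ S.K y) (ox : S.Out x) (hw : w ∈ S.K y) (ow : S.Out w) (h : S.Partner x)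
    (hs : (S.sg b1 w = S.sg b1 x ∧ S.sg b2 w = S.sg b2 x) ∨
      (S.sg b1 w = -S.sg b1 x ∧ S.sg b2 w = -S.sg b2 x)) : S.Partner w := by
  wlog hpos : S.sg b1 w = S.sg b1 x ∧ S.sg b2 w = S.sg b2 x generalizing x
  · obtain ⟨n1, n2⟩ := hs.resolve_left hpos
    refine this (inv_mem hx) ⟨ox.point.inv, ox.comm.inv_left, fun hQ => ox.not_mem (inv_inv x ▸ inv_mem hQ)⟩ ?_
      (Or.inl ?_) ?_
    · obtain ⟨t, ht, hp⟩ := h
      refine ⟨-t, neg_ne_zero.2 ht, ?_⟩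
      have := hp.inv
      rwa [mul_inv_rev, ← pw_neg S.z3, (show Commute x⁻¹ (pw S.z (-t)) from ox.comm.inv_left.pow_right _).symm.eq]
        at this
    all_goals
      rw [F.ax.sg_inv (S.le1 F.bm1) hx, F.ax.sg_inv (S.le2 F.bm2) hx]
      exact ⟨n1, n2⟩
  have Fx := F.move hx ox
  have hd : w * x⁻¹ ∈ S.D y := by
    refine F.mem_D (mul_mem hw (inv_mem hx)) ?_ ?_
    · rw [F.ax.sg_mul (S.le1 F.bm1) hw (inv_mem hx), F.ax.sg_inv (S.le1 F.bm1) hx, hpos.1, add_neg_cancel]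
    · rw [F.ax.sg_mul (S.le2 F.bm2) hw (inv_mem hx), F.ax.sg_inv (S.le2 F.bm2) hx, hpos.2, add_neg_cancel]
  obtain ⟨g, p⟩ := ox.exists_pair
  obtain ⟨r, hr, c, hc, e⟩ := (Fx.fixed' p).2 _ (inv_mem (S.mem_D.1 hd).1) (by
    rw [commutatorElement_eq_one_iff_mul_comm.2 (((F.K_comm hx (F.ax.D_le hd))).inv_right).eq]
    exact one_mem _)
  have ew : w = c⁻¹ * (r * x * r⁻¹) := by
    have h1 : w * x⁻¹ = c⁻¹ * ⁅x, r⁆⁻¹ := by rw [← inv_inv (w * x⁻¹), e, mul_inv_rev]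
    calc w = w * x⁻¹ * x := by group
      _ = c⁻¹ * ⁅x, r⁆⁻¹ * x := by rw [h1]
      _ = _ := by simp only [commutatorElement_def]; group
  obtain ⟨j, hj⟩ := exists_pw S.core (inv_mem hc)
  obtain ⟨t, ht, hp⟩ := h
  by_cases hj0 : j = 0
  · refine ⟨t, ht, ?_⟩
    rw [hj0, pw_zero] at hj
    rw [ew, ← hj, one_mul]
    have hrz : Commute r (pw S.z t) := (S.commute_Q hr).pow_right _
    have := hp.conj r
    rwa [show r * (x * pw S.z t) * r⁻¹ = r * x * r⁻¹ * (r * pw S.z t * r⁻¹) by group, hrz.eq,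
      mul_inv_cancel_right] at this
  · refine ⟨-j, neg_ne_zero.2 hj0, ?_⟩
    rw [ew, ← hj, (show Commute (pw S.z j) (r * x * r⁻¹) from
      ((((S.commute_Q hr).mul_left ox.comm).mul_left (S.commute_Q hr).inv_left).symm.pow_left _)).eq, mul_assoc,
      ← pw_add S.z3, add_neg_cancel, pw_zero, mul_one]
    exact ox.point.conj r

end Frame

/-- The centraliser of the central element moves the axes of any point to those of any other. -/
theorem exists_move {a b : G} (ha : a ∈ S.Q1) (haz : a ∉ zpowers S.z) (hb : b ∈ S.Q1) (hbz : b ∉ zpowers S.z) :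
    ∃ p ∈ S.P, (p * a * p⁻¹)⁻¹ * b ∈ zpowers S.z := by
  classical
  haveI hN : ((zpowers S.z).subgroupOf S.Q1).Normal := ⟨fun n hn g => by
    rw [mem_subgroupOf] at hn ⊢
    show (g : G) * n * (g : G)⁻¹ ∈ zpowers S.z
    rwa [← S.core.commute hn (S.le1 g.2), mul_inv_cancel_right]⟩
  have hfix : ∀ p ∈ S.P, ⁅p, a⁆ ∈ zpowers S.z → p = 1 := by
    intro p hp h
    have hz := (S.pres_P hp).1
    have hpow : ∀ n : ℕ, ⁅p ^ n, a⁆ ∈ zpowers S.z := fun n => by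
      induction n with
      | zero => simp
      | succ n ih =>
        rw [pow_succ', show ⁅p * p ^ n, a⁆ = p * ⁅p ^ n, a⁆ * p⁻¹ * ⁅p, a⁆ by
          simp only [commutatorElement_def]; group, (S.commute_Zc hz ih).eq, mul_inv_cancel_right]
        exact mul_mem ih h
    have ht : ∀ n : ℕ, p ^ n ≠ S.t := fun n e => by
      refine haz (Core.mem_of_sq S.core (S.le1 ha) ?_)
      have h1 := S.t_inv a ha
      rw [show S.t * a * S.t⁻¹ * a = ⁅S.t, a⁆ * (a * a) by simp only [commutatorElement_def]; group] at h1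
      exact (Subgroup.mul_mem_cancel_left _ (e ▸ hpow n)).1 h1
    have h8 : p ^ 4 * p ^ 4 = 1 := by rw [← pow_add]; exact S.P_pow hp
    have h4 := (S.P_invol _ (pow_mem hp 4) h8).resolve_right (ht 4)
    have h2 := (S.P_invol _ (pow_mem hp 2) (by rw [← pow_add]; exact h4)).resolve_right (ht 2)
    exact (S.P_invol p hp (by rw [← pow_two]; exact h2)).resolve_right fun e => ht 1 (by rw [pow_one, e])
  let N := (zpowers S.z).subgroupOf S.Q1
  let f : S.P → {v : S.Q1 ⧸ N // v ≠ QuotientGroup.mk (1 : S.Q1)} := fun p =>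
    ⟨QuotientGroup.mk (⟨(p : G) * a * (p : G)⁻¹, (S.pres_P p.2).2.1 a ha⟩ : S.Q1), fun h => by
      have h' := QuotientGroup.eq.1 h.symm
      rw [inv_one, one_mul, mem_subgroupOf] at h'
      refine haz ?_
      have := (S.commute_Zc (S.pres_P p.2).1.inv_left h').eq
      rw [show a = (p : G)⁻¹ * ((p : G) * a * (p : G)⁻¹) * p by group, this, inv_mul_cancel_right]
      exact h'⟩
  have hinj : Function.Injective f := fun p q h => by
    have h' := QuotientGroup.eq.1 (congrArg Subtype.val h)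
    rw [mem_subgroupOf] at h'
    simp only [Subgroup.coe_mul, InvMemClass.coe_inv] at h'
    refine Subtype.ext ((inv_mul_eq_one.1 (hfix ((q : G)⁻¹ * p) (mul_mem (inv_mem q.2) p.2) ?_)).symm)
    have hqz := (S.pres_P q.2).1.inv_left
    obtain ⟨w, hw, e⟩ : ∃ w ∈ zpowers S.z, (p : G) * a * (p : G)⁻¹ = (q : G) * a * (q : G)⁻¹ * w :=
      ⟨_, inv_mem h', by group⟩
    rw [commutatorElement_def, show (q : G)⁻¹ * p * a * ((q : G)⁻¹ * p)⁻¹ * a⁻¹ =
        (q : G)⁻¹ * (p * a * (p : G)⁻¹) * q * a⁻¹ by group, e,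
      show (q : G)⁻¹ * (q * a * (q : G)⁻¹ * w) * q * a⁻¹ = a * ((q : G)⁻¹ * w * (q : G)⁻¹⁻¹) * a⁻¹ by group,
      (S.commute_Zc hqz hw).eq, mul_inv_cancel_right, ← S.core.commute hw (S.le1 ha), mul_inv_cancel_right]
    exact hw
  have hcard : Nat.card {v : S.Q1 ⧸ N // v ≠ QuotientGroup.mk (1 : S.Q1)} = 8 := by
    have hz : zpowers S.z ≤ S.Q1 := zpowers_le.2 S.z_mem1
    have h := N.card_mul_index
    rw [S.card1, Nat.card_congr (subgroupOfEquivOfLe hz).toEquiv, S.core.card_zpowers, Subgroup.index] at h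
    have h9 : Nat.card (S.Q1 ⧸ N) = 9 := by omega
    haveI := Fintype.ofFinite (S.Q1 ⧸ N)
    rw [Nat.card_eq_fintype_card] at h9
    rw [Nat.card_eq_fintype_card, Fintype.card_subtype_compl, Fintype.card_subtype_eq, h9]
  have hb' := (Nat.bijective_iff_injective_and_card f).2 ⟨hinj, by rw [S.card_P, hcard]⟩
  obtain ⟨p, hp⟩ := hb'.2 ⟨QuotientGroup.mk (⟨b, hb⟩ : S.Q1), fun h => hbz (by
    simpa [N, mem_subgroupOf] using QuotientGroup.eq.1 h.symm)⟩
  exact ⟨p, p.2, by simpa [N, mem_subgroupOf] using QuotientGroup.eq.1 (congrArg Subtype.val hp)⟩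

/-- The centralisers of two points are conjugate in the centraliser of the central element. -/
theorem exists_conj_K {u v a1 a2 c1 c2 : G} (A : S.Axes u a1 a2) (B : S.Axes v c1 c2) :
    ∃ c : G, Commute c S.z ∧ ∀ x ∈ S.K u, c * x * c⁻¹ ∈ S.K v := by
  obtain ⟨p, hp, h1⟩ := S.exists_move A.m1 A.n1 B.m1 B.n1
  obtain ⟨p', hp', h2⟩ := S.swap.exists_move A.m2 A.n2 B.m2 B.n2
  have hpz := (S.pres_P hp).1
  have hp'z : Commute p' S.z := (S.pres_P' hp').1
  refine ⟨p * p', hpz.mul_left hp'z, fun x hx => ?_⟩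
  obtain ⟨hxz, hx1, hx2⟩ := A.mem_K_iff.1 hx
  have e1 : p * p' * a1 * (p * p')⁻¹ = p * a1 * p⁻¹ := by
    rw [show p * p' * a1 * (p * p')⁻¹ = p * (p' * a1 * p'⁻¹) * p⁻¹ by group,
      (S.P'_Q1 p' hp' a1 A.m1).eq, mul_inv_cancel_right]
  have e2 : p * p' * a2 * (p * p')⁻¹ = p' * a2 * p'⁻¹ := by
    rw [show p * p' * a2 * (p * p')⁻¹ = p * (p' * a2 * p'⁻¹) * p⁻¹ by group,
      (S.P_Q2 p hp _ ((S.pres_P' hp').2.2 a2 A.m2)).eq, mul_inv_cancel_right]
  have hz' : Commute (p * p' * x * (p * p')⁻¹) S.z :=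
    ((hpz.mul_left hp'z).mul_left hxz).mul_left (hpz.mul_left hp'z).inv_left
  have k1 := hx1.map (MulAut.conj (p * p')).toMonoidHom
  have k2 := hx2.map (MulAut.conj (p * p')).toMonoidHom
  simp only [MulEquiv.coe_toMonoidHom, MulAut.conj_apply, e1, e2] at k1 k2
  refine B.mem_K_iff.2 ⟨hz', ?_, ?_⟩
  · have := k1.mul_right (S.commute_Zc hz' h1)
    rwa [mul_inv_cancel_left] at this
  · have := k2.mul_right (S.commute_Zc hz' h2)
    rwa [mul_inv_cancel_left] at this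

/-- The two invariants of a point agree. -/
theorem Frame.orient {y a1 a2 b1 b2 : G} (F : S.Frame y a1 a2 b1 b2) : S.sg b1 y = S.sg b2 y := by
  by_contra hne
  have hiso : S.sg b2 y = -S.sg b1 y :=
    (by decide : ∀ a b : ZMod 3, a ≠ 0 → b ≠ 0 → a ≠ b → b = -a) _ _ F.sg1_ne F.sg2_ne hne
  have hyK := F.ax.y_mem
  -- a definite point with a partner
  obtain ⟨g, p⟩ := F.ax.out.exists_pair
  have hE : Nat.card ↥(S.Ds g ⊓ S.D y) < 9 := by
    by_contra h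
    exact F.sum_ne p (not_lt.1 h) (by rw [hiso, add_neg_cancel])
  obtain ⟨x, hx, ox, x1, x2, xp⟩ := F.exists_opposite p hE
  rw [hiso, neg_neg] at x2
  -- and an isotropic one
  have Fx := F.move hx ox
  obtain ⟨gx, px⟩ := ox.exists_pair
  obtain ⟨w, hw, ow, w1, w2, wp⟩ := Fx.exists_opposite px (Fx.small_of_partner px xp)
  rw [F.K_move hx ox] at hw
  have hall : ∀ u ∈ S.K y, S.Out u → S.Partner u := by
    intro u hu ou
    have Fu := F.move hu ou
    rcases (by decide : ∀ a b s : ZMod 3, a ≠ 0 → b ≠ 0 → s ≠ 0 →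
        ((a = s ∧ b = s) ∨ (a = -s ∧ b = -s)) ∨ ((a = s ∧ b = -s) ∨ (a = -s ∧ b = - -s)))
        _ _ _ Fu.sg1_ne Fu.sg2_ne F.sg1_ne with h | h
    · exact F.spread hx ox hu ou xp (by rw [x1, x2]; exact h)
    · exact F.spread hw ow hu ou wp (by rw [w1, w2, x1, x2]; exact h)
  -- carry the line through both points to the central element
  obtain ⟨c1, c2, d1, d2, Fx'⟩ := px.symm.out.exists_frame
  obtain ⟨c, hc, hcK⟩ := S.exists_conj_K Fx'.ax F.ax
  have hyx : y ∈ S.K x := by rw [F.K_move hx ox]; exact hyK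
  have hy2 := hcK _ (Fx.mem_conj_of px hyx)
  set y2 := c * (gx⁻¹ * y * gx) * c⁻¹ with hy2def
  have hy2p : IsPoint S.z y2 := by
    have := (F.ax.out.point.conj gx⁻¹).conj c
    rwa [inv_inv] at this
  have hy2Q : y2 ∉ S.Q := by
    intro hQ
    have h1 := S.point_mem_Q hy2p hQ
    have h2 : gx⁻¹ * y * gx ∈ zpowers S.z := by
      have := (S.commute_Zc hc.inv_left h1).eq
      rw [show gx⁻¹ * y * gx = c⁻¹ * (c * (gx⁻¹ * y * gx) * c⁻¹) * c by group, this, inv_mul_cancel_right]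
      exact h1
    obtain ⟨m, hm⟩ := mem_zpowers_iff.1 h2
    have h3 : y ∈ zpowers x := by
      rw [px.eq, show y = gx * (gx⁻¹ * y * gx) * gx⁻¹ by group, ← hm, ← conj_zpow]
      exact zpow_mem (mem_zpowers _) m
    obtain ⟨k, hk⟩ := pw_of_zpow px.y3 h3
    have e1 := congrArg (S.sg b1) hk
    have e2 := congrArg (S.sg b2) hk
    rw [F.ax.sg_pw (S.le1 F.bm1) hx, x1] at e1
    rw [F.ax.sg_pw (S.le2 F.bm2) hx, x2, hiso] at e2
    exact (by decide : ∀ k a : ZMod 3, a ≠ 0 → a = k * a → -a = k * a → False) _ _ F.sg1_ne e1 e2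
  obtain ⟨t, ht, hp2⟩ := hall y2 hy2 ⟨hy2p, (S.mem_K.1 hy2).1, hy2Q⟩
  have h3 := (hp2.conj c⁻¹).conj gx
  have hcz : c⁻¹ * pw S.z t * c = pw S.z t := by
    rw [(show Commute c⁻¹ (pw S.z t) from hc.inv_left.pow_right _).eq, inv_mul_cancel_right]
  rw [show gx * (c⁻¹ * (y2 * pw S.z t) * c⁻¹⁻¹) * gx⁻¹ = y * (gx * (c⁻¹ * pw S.z t * c) * gx⁻¹) by
    rw [hy2def]; group, hcz] at h3
  obtain ⟨k, hk⟩ := pw_of_zpow px.y3 (show gx * pw S.z t * gx⁻¹ ∈ zpowers x by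
    rw [px.eq, pw, ← conj_pow]; exact pow_mem (mem_zpowers _) _)
  have hk0 : k ≠ 0 := by
    rintro rfl
    rw [pw_zero, mul_inv_eq_one, mul_eq_left] at hk
    exact ht (pw_inj S.core (hk.trans (pw_zero _).symm))
  rw [hk] at h3
  have hyxk : y * pw x k ∈ S.K y := mul_mem hyK (pw_mem hx k)
  have s1 : S.sg b1 (y * pw x k) = S.sg b1 y + k * S.sg b1 y := by
    rw [F.ax.sg_mul (S.le1 F.bm1) hyK (pw_mem hx k), F.ax.sg_pw (S.le1 F.bm1) hx, x1]
  have s2 : S.sg b2 (y * pw x k) = -S.sg b1 y + k * S.sg b1 y := by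
    rw [F.ax.sg_mul (S.le2 F.bm2) hyK (pw_mem hx k), F.ax.sg_pw (S.le2 F.bm2) hx, x2, hiso]
  have hnQ : y * pw x k ∉ S.Q := fun hQ => by
    have hD := F.ax.K_Q hyxk hQ
    exact (by decide : ∀ k a : ZMod 3, k ≠ 0 → a ≠ 0 → a + k * a = 0 → -a + k * a = 0 → False) _ _ hk0 F.sg1_ne
      (s1.symm.trans (F.ax.sg_D (S.le1 F.bm1) hD)) (s2.symm.trans (F.ax.sg_D (S.le2 F.bm2) hD))
  have Fo := F.move hyxk ⟨h3, (S.mem_K.1 hyxk).1, hnQ⟩
  exact (by decide : ∀ k a : ZMod 3, k ≠ 0 → a + k * a ≠ 0 → -a + k * a ≠ 0 → False) _ _ hk0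
    (s1 ▸ Fo.sg1_ne) (s2 ▸ Fo.sg2_ne)

end Setup

end Cfsg.Agent.U62Three
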