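import Cfsg.Agent.Lib.U62Three.Defs
import Cfsg.Agent.Lib.U62Three.Factors
import Mathlib.GroupTheory.Perm.Cycle.Type

/-!
A group of order 64 with two central involutions acting faithfully on the core splits it into two factors of order
27, and the normaliser of the central element permutes the factors.
-/

set_option autoImplicit false
set_option linter.style.haveILetI false
set_option linter.unusedSectionVars false

namespace Cfsg.Agent.U62Three

open Subgroup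
open Co2Three (Core)
open scoped commutatorElement

/-- The data before the splitting. -/
structure Pre (G : Type*) [Group G] where
  /-- the central element -/
  z : G
  /-- the core -/
  Q : Subgroup G
  /-- a Sylow group of the preimage -/
  T : Subgroup G
  /-- the preimage -/
  Y : Subgroup G
  core : Core Q z
  le : Q ≤ centralizer {z}
  normal : ∀ g : G, g * z * g⁻¹ ∈ zpowers z → ∀ q ∈ Q, g * q * g⁻¹ ∈ Q
  cq : ∀ g : G, Commute g z → (∀ q ∈ Q, Commute g q) → g ∈ Q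
  card_T : Nat.card T = 64
  T_le : T ≤ centralizer {z}
  pair : ∃ e ∈ T, ∃ e' ∈ T, e * e = 1 ∧ e' * e' = 1 ∧ e ≠ 1 ∧ e' ≠ 1 ∧ e ≠ e' ∧
    (∀ x ∈ T, Commute e x) ∧ ∀ x ∈ T, Commute e' x
  mem_Y : ∀ x, x ∈ Y ↔ ∃ τ ∈ T, ∃ q ∈ Q, x = τ * q
  Y_normal : ∀ g : G, Commute g z → ∀ y ∈ Y, g * y * g⁻¹ ∈ Y

variable {G : Type*} [Group G]

/-- An element of 2-power order trivial modulo the centre on an element of the core centralises it. -/
theorem commute_of_two {Q : Subgroup G} {z : G} (C : Core Q z) {g q : G} {n : ℕ} (hn : g ^ 2 ^ n = 1)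
    (hgz : Commute g z) (h : ⁅g, q⁆ ∈ zpowers z) : Commute g q := by
  set w := ⁅g, q⁆ with hw
  have e : ∀ k : ℕ, g ^ k * q * (g ^ k)⁻¹ = w ^ k * q := by
    intro k
    induction k with
    | zero => simp
    | succ k ih =>
      rw [pow_succ', mul_inv_rev, show g * g ^ k * q * ((g ^ k)⁻¹ * g⁻¹) = g * (g ^ k * q * (g ^ k)⁻¹) * g⁻¹ by group,
        ih, show g * (w ^ k * q) * g⁻¹ = g * w ^ k * g⁻¹ * (g * q * g⁻¹) by group,
        comm_conj hgz (pow_mem h k), show g * q * g⁻¹ = w * q by rw [hw, commutatorElement_def]; group,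
        ← mul_assoc, ← pow_succ]
  have h2 := e (2 ^ n)
  rw [hn, one_mul, inv_one, mul_one, right_eq_mul] at h2
  have h3 : w ^ 3 = 1 := by
    have := pow_card_eq_one' (x := (⟨w, h⟩ : zpowers z))
    rw [C.card_zpowers] at this
    exact congrArg Subtype.val this
  have h1 : orderOf w = 1 := Nat.eq_one_of_dvd_coprimes
    (show Nat.Coprime (2 ^ n) 3 from Nat.Coprime.pow_left n (by norm_num))
    (orderOf_dvd_of_pow_eq_one h2) (orderOf_dvd_of_pow_eq_one h3)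
  exact commutatorElement_eq_one_iff_mul_comm.1 (hw ▸ orderOf_eq_one_iff.1 h1)

theorem Core.zcube {Q : Subgroup G} {z : G} (C : Core Q z) {w : G} (h : w ∈ zpowers z) : w ^ 3 = 1 := by
  have := pow_card_eq_one' (x := (⟨w, h⟩ : zpowers z))
  rw [C.card_zpowers] at this
  exact congrArg Subtype.val this

theorem Core.mem_of_sq {Q : Subgroup G} {z : G} (C : Core Q z) {c : G} (hc : c ∈ Q) (h : c * c ∈ zpowers z) :
    c ∈ zpowers z := by
  rw [show c = (c * c) * ((c * c) * (c ^ 3)⁻¹) by simp [pow_succ, mul_assoc]]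
  exact mul_mem h (mul_mem h (inv_mem (Core.cube C hc)))

namespace Pre

variable [Finite G] (D : Pre G)

theorem commute_z {x : G} (hx : x ∈ D.T) : Commute x D.z := mem_centralizer_singleton_iff.1 (D.T_le hx)

theorem exists_two {x : G} (hx : x ∈ D.T) : ∃ n : ℕ, x ^ 2 ^ n = 1 := by
  haveI : Fact (Nat.Prime 2) := ⟨Nat.prime_two⟩
  refine ⟨6, ?_⟩
  have h := pow_card_eq_one' (x := (⟨x, hx⟩ : D.T))
  rw [D.card_T] at h
  exact congrArg Subtype.val h

theorem T_disjoint {x : G} (hx : x ∈ D.T) (hq : x ∈ D.Q) : x = 1 := by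
  have h1 : orderOf x ∣ 64 := D.card_T ▸ orderOf_mk x hx ▸ orderOf_dvd_natCard (⟨x, hx⟩ : D.T)
  have h2 : orderOf x ∣ 243 := D.core.card ▸ orderOf_mk x hq ▸ orderOf_dvd_natCard (⟨x, hq⟩ : D.Q)
  exact orderOf_eq_one_iff.1 (Nat.eq_one_of_dvd_coprimes (by norm_num) h1 h2)

theorem faithful {x : G} (hx : x ∈ D.T) (h : ∀ q ∈ D.Q, ⁅x, q⁆ ∈ zpowers D.z) : x = 1 := by
  obtain ⟨n, hn⟩ := D.exists_two hx
  exact D.T_disjoint hx (D.cq x (D.commute_z hx) fun q hq => commute_of_two D.core hn (D.commute_z hx) (h q hq))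

/-- The inverted part of the core. -/
def Inv (e : G) (he : Commute e D.z) : Subgroup G where
  carrier := {q | q ∈ D.Q ∧ e * q * e⁻¹ * q ∈ zpowers D.z}
  one_mem' := ⟨one_mem _, by simp⟩
  mul_mem' := by
    rintro a b ⟨ha, ha'⟩ ⟨hb, hb'⟩
    refine ⟨mul_mem ha hb, ?_⟩
    have hn : ∀ {q : G}, q ∈ D.Q → e * q * e⁻¹ ∈ D.Q := fun hq => D.normal e (by
      rw [comm_conj he (mem_zpowers _)]; exact mem_zpowers _) _ hq
    have e' : e * (a * b) * e⁻¹ * (a * b) =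
        (e * a * e⁻¹) * ⁅e * b * e⁻¹, a⁆ * a * (e * b * e⁻¹ * b) := by
      simp only [commutatorElement_def]; group
    have hc := Core.comm' D.core (hn hb) ha
    rw [e', mul_assoc (e * a * e⁻¹), D.core.commute hc ha, ← mul_assoc (e * a * e⁻¹)]
    exact mul_mem (mul_mem ha' hc) hb'
  inv_mem' := by
    rintro a ⟨ha, ha'⟩
    refine ⟨inv_mem ha, ?_⟩
    have hX : e * a * e⁻¹ ∈ D.Q := D.normal e (by
      rw [comm_conj he (mem_zpowers _)]; exact mem_zpowers _) _ ha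
    have e' : e * a⁻¹ * e⁻¹ * a⁻¹ = ⁅(e * a * e⁻¹)⁻¹, a⁻¹⁆ * (e * a * e⁻¹ * a)⁻¹ := by
      simp only [commutatorElement_def]; group
    rw [e']
    exact mul_mem (Core.comm' D.core (inv_mem hX) (inv_mem ha)) (inv_mem ha')

theorem mem_Inv {e q : G} {he : Commute e D.z} :
    q ∈ D.Inv e he ↔ q ∈ D.Q ∧ e * q * e⁻¹ * q ∈ zpowers D.z := Iff.rfl

theorem norm_Q {g : G} (hg : Commute g D.z) {q : G} (hq : q ∈ D.Q) : g * q * g⁻¹ ∈ D.Q :=
  D.normal g (by rw [comm_conj hg (mem_zpowers _)]; exact mem_zpowers _) q hq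

/-- Every element of the core is a product of a fixed and an inverted one. -/
theorem exists_fixed {e : G} (he : Commute e D.z) (h2 : e * e = 1) {q : G} (hq : q ∈ D.Q) :
    ∃ c ∈ D.Q ⊓ centralizer {e}, c⁻¹ * q ∈ D.Inv e he := by
  obtain ⟨d, hd⟩ : ∃ d, d = ⁅e, q⁆ := ⟨_, rfl⟩
  have hdQ : d ∈ D.Q := by
    rw [hd, commutatorElement_def]; exact mul_mem (D.norm_Q he hq) (inv_mem hq)
  have hei : e⁻¹ = e := inv_eq_of_mul_eq_one_right h2
  have ed : e * d * e⁻¹ = d⁻¹ := by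
    rw [hd, commutatorElement_def, mul_inv_rev, mul_inv_rev, mul_inv_rev, inv_inv, inv_inv, hei]
    calc e * (e * q * e * q⁻¹) * e = (e * e) * q * e * q⁻¹ * e := by group
      _ = _ := by rw [h2, one_mul]; group
  have eq' : e * q * e⁻¹ = d * q := by rw [hd, commutatorElement_def]; group
  have hd3 := Core.cube D.core hdQ
  have hc0Q : q * d ^ 2 ∈ D.Q := mul_mem hq (pow_mem hdQ 2)
  have hc0 : ⁅e, q * d ^ 2⁆ ∈ zpowers D.z := by
    have h1 : e * (q * d ^ 2) * e⁻¹ = d * q * (d ^ 2)⁻¹ := by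
      rw [show e * (q * d ^ 2) * e⁻¹ = (e * q * e⁻¹) * ((e * d * e⁻¹) * (e * d * e⁻¹)) by simp [pow_succ, mul_assoc],
        eq', ed]
      simp [pow_succ, mul_assoc]
    have h3 : ⁅e, q * d ^ 2⁆ = ⁅d, q⁆ * (q * (d ^ 3)⁻¹ * q⁻¹) := by
      rw [commutatorElement_def, h1]
      simp [pow_succ, commutatorElement_def, mul_assoc]
    rw [h3, ← D.core.commute (inv_mem hd3) hq, mul_inv_cancel_right]
    exact mul_mem (Core.comm' D.core hdQ hq) (inv_mem hd3)
  refine ⟨q * d ^ 2, mem_inf.2 ⟨hc0Q, mem_centralizer_singleton_iff.2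
    (commute_of_two D.core (n := 1) (by rw [pow_one, pow_two, h2]) he hc0).symm.eq⟩, ?_⟩
  have hdI : d ∈ D.Inv e he := D.mem_Inv.2 ⟨hdQ, by rw [ed, inv_mul_cancel]; exact one_mem _⟩
  rw [show (q * d ^ 2)⁻¹ * q = (d ^ 2)⁻¹ by group]
  exact inv_mem (pow_mem hdI 2)

theorem inf_Inv {e : G} (he : Commute e D.z) {c : G} (hc : c ∈ D.Q ⊓ centralizer {e})
    (hi : c ∈ D.Inv e he) : c ∈ zpowers D.z := by
  obtain ⟨hcQ, h⟩ := D.mem_Inv.1 hi
  rw [← (show Commute c e from mem_centralizer_singleton_iff.1 (mem_inf.1 hc).2).eq, mul_inv_cancel_right] at h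
  exact Core.mem_of_sq D.core hcQ h

theorem fixed_comm_inv {e : G} (he : Commute e D.z) {c i : G}
    (hc : c ∈ D.Q ⊓ centralizer {e}) (hi : i ∈ D.Inv e he) : Commute c i := by
  obtain ⟨hcQ, hce⟩ := mem_inf.1 hc
  obtain ⟨hiQ, hiz⟩ := D.mem_Inv.1 hi
  obtain ⟨u, hu, hei⟩ : ∃ u ∈ zpowers D.z, e * i * e⁻¹ = u * i⁻¹ := ⟨_, hiz, by group⟩
  set w := ⁅c, i⁆ with hw
  have hwz : w ∈ zpowers D.z := Core.comm' D.core hcQ hiQ
  have h1 : e * w * e⁻¹ = w⁻¹ := by
    rw [hw, show e * ⁅c, i⁆ * e⁻¹ = ⁅e * c * e⁻¹, e * i * e⁻¹⁆ by simp only [commutatorElement_def]; group,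
      ← (show Commute c e from mem_centralizer_singleton_iff.1 hce).eq, mul_inv_cancel_right, hei]
    have hh : ∀ {p : G}, p ∈ D.Q → u * p = p * u := fun hp => D.core.commute hu hp
    have : ⁅c, u * i⁻¹⁆ = ⁅c, i⁻¹⁆ := by
      rw [show ⁅c, u * i⁻¹⁆ = ⁅c, u⁆ * (u * ⁅c, i⁻¹⁆ * u⁻¹) by simp only [commutatorElement_def]; group,
        commutatorElement_eq_one_iff_mul_comm.2 (hh hcQ).symm, one_mul,
        hh (D.core.zpowers_le_Q (Core.comm' D.core hcQ (inv_mem hiQ))), mul_inv_cancel_right]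
    rw [this, show ⁅c, i⁻¹⁆ = i⁻¹ * ⁅c, i⁆⁻¹ * i by simp only [commutatorElement_def]; group, ← hw,
      ← D.core.commute (inv_mem hwz) (inv_mem hiQ), inv_mul_cancel_right]
  rw [comm_conj he hwz] at h1
  have h3 := Core.zcube D.core hwz
  have : w = 1 := by
    have hww : w * w = 1 := mul_eq_one_iff_eq_inv.2 h1
    rw [pow_succ, pow_two, hww, one_mul] at h3
    exact h3
  exact commutatorElement_eq_one_iff_mul_comm.1 (hw ▸ this)

theorem card_parts {e : G} (he : Commute e D.z) (h2 : e * e = 1) :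
    Nat.card ↥(D.Q ⊓ centralizer {e}) * Nat.card ↥(D.Inv e he) = 729 := by
  set C := D.Q ⊓ centralizer {e} with hC
  have hzC : zpowers D.z ≤ C := fun w hw => mem_inf.2 ⟨D.core.zpowers_le_Q hw,
    mem_centralizer_singleton_iff.2 (by
      have := comm_conj he hw
      exact (mul_inv_eq_iff_eq_mul.1 this).symm)⟩
  have hzI : zpowers D.z ≤ D.Inv e he := fun w hw => D.mem_Inv.2 ⟨D.core.zpowers_le_Q hw, by
    rw [comm_conj he hw]; exact mul_mem hw hw⟩
  have ch : ∀ q : D.Q, ∃ c ∈ C, c⁻¹ * (q : G) ∈ D.Inv e he := fun q => D.exists_fixed he h2 q.2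
  choose c hc hci using ch
  let f : D.Q × zpowers D.z → C × D.Inv e he := fun p =>
    (⟨c p.1 * p.2, mul_mem (hc p.1) (hzC p.2.2)⟩,
      ⟨(p.2 : G)⁻¹ * ((c p.1)⁻¹ * p.1), mul_mem (inv_mem (hzI p.2.2)) (hci p.1)⟩)
  have hf : Function.Bijective f := by
    refine ⟨fun p q h => ?_, fun p => ?_⟩
    · simp only [f, Prod.mk.injEq, Subtype.mk.injEq] at h
      have e1 : (p.1 : G) = q.1 := by
        calc (p.1 : G) = c p.1 * p.2 * ((p.2 : G)⁻¹ * ((c p.1)⁻¹ * p.1)) := by group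
          _ = c q.1 * q.2 * ((q.2 : G)⁻¹ * ((c q.1)⁻¹ * q.1)) := by rw [h.1, h.2]
          _ = _ := by group
      have e2 : p.1 = q.1 := Subtype.ext e1
      rw [e2] at h
      exact Prod.ext e2 (Subtype.ext (mul_left_cancel h.1))
    · obtain ⟨⟨x, hx⟩, ⟨i, hi⟩⟩ := p
      have hxi : x * i ∈ D.Q := mul_mem (mem_inf.1 hx).1 (D.mem_Inv.1 hi).1
      set q : D.Q := ⟨x * i, hxi⟩
      have hw : (c q)⁻¹ * x ∈ zpowers D.z := D.inf_Inv he (mul_mem (inv_mem (hc q)) hx) (by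
        rw [show (c q)⁻¹ * x = (c q)⁻¹ * (q : G) * i⁻¹ by show _ = (c q)⁻¹ * (x * i) * i⁻¹; group]
        exact mul_mem (hci q) (inv_mem hi))
      refine ⟨(q, ⟨_, hw⟩), Prod.ext (Subtype.ext ?_) (Subtype.ext ?_)⟩
      · show c q * ((c q)⁻¹ * x) = x
        group
      · show ((c q)⁻¹ * x)⁻¹ * ((c q)⁻¹ * (x * i)) = i
        group
  have := Nat.card_congr (Equiv.ofBijective f hf)
  rw [Nat.card_prod, Nat.card_prod, D.core.card, D.core.card_zpowers] at this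
  omega

/-- An abelian part lies in the centre. -/
theorem part_le {e : G} (he : Commute e D.z) (h2 : e * e = 1) {R S : Subgroup G}
    (hR : R ≤ D.Q) (hcomm : ∀ a ∈ R, ∀ b ∈ S, Commute a b)
    (hRS : ∀ q ∈ D.Q, ∃ a ∈ R, ∃ b ∈ S, q = a * b) (h9 : Nat.card R ≤ 9) : R ≤ zpowers D.z := by
  haveI : Fact (Nat.Prime 3) := ⟨Nat.prime_three⟩
  obtain ⟨k, hk, ek⟩ := (Nat.dvd_prime_pow Nat.prime_three).1
    (show Nat.card R ∣ 3 ^ 5 by rw [show (3 : ℕ) ^ 5 = 243 from rfl, ← D.core.card]; exact card_dvd_of_le hR)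
  have hk2 : k ≤ 2 := (Nat.pow_le_pow_iff_right (show 1 < 3 by norm_num)).1
    (show 3 ^ k ≤ 3 ^ 2 by rw [← ek]; exact h9.trans (by norm_num))
  have hab : IsMulCommutative R := by
    interval_cases k
    · haveI : Subsingleton R := (Nat.card_eq_one_iff_unique.1 (by simpa using ek)).1
      exact ⟨⟨fun a b => Subsingleton.elim _ _⟩⟩
    · haveI : IsCyclic R := isCyclic_of_prime_card (p := 3) (by simpa using ek)
      infer_instance
    · exact IsPGroup.isMulCommutative_of_card_eq_prime_sq ek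
  intro a ha
  refine (D.core.centre a (hR ha)).1 fun q hq => ?_
  obtain ⟨r, hr, s, hs, rfl⟩ := hRS q hq
  exact ((show Commute a r from congrArg Subtype.val (mul_comm' (⟨a, ha⟩ : R) ⟨r, hr⟩)).mul_right
    (hcomm a ha s hs)).eq

/-- An involution either inverts the core modulo its centre or splits it into two groups of order 27. -/
theorem inverts_or_split {e : G} (he : e ∈ D.T) (h2 : e * e = 1) (hne : e ≠ 1) :
    (∀ q ∈ D.Q, e * q * e⁻¹ * q ∈ zpowers D.z) ∨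
      (Nat.card ↥(D.Q ⊓ centralizer {e}) = 27 ∧ Nat.card ↥(D.Inv e (D.commute_z he)) = 27) := by
  set hez := D.commute_z he
  set C := D.Q ⊓ centralizer {e} with hC
  set I := D.Inv e hez with hI
  have hCI : ∀ q ∈ D.Q, ∃ a ∈ C, ∃ b ∈ I, q = a * b := fun q hq => by
    obtain ⟨c, hc, hci⟩ := D.exists_fixed hez h2 hq
    exact ⟨c, hc, _, hci, by group⟩
  have hIC : ∀ q ∈ D.Q, ∃ a ∈ I, ∃ b ∈ C, q = a * b := fun q hq => by
    obtain ⟨a, ha, b, hb, rfl⟩ := hCI q hq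
    exact ⟨b, hb, a, ha, (D.fixed_comm_inv hez ha hb).eq⟩
  have hprod := D.card_parts hez h2
  rw [← hC, ← hI] at hprod
  have hIQ : I ≤ D.Q := fun _ hx => hx.1
  haveI : Finite (zpowers D.z) := inferInstance
  have hsmall : Nat.card C ≤ 9 → ∀ q ∈ D.Q, e * q * e⁻¹ * q ∈ zpowers D.z := by
    intro h9 q hq
    have hle := D.part_le hez h2 inf_le_left (fun a ha b hb => D.fixed_comm_inv hez ha hb) hCI h9
    obtain ⟨a, ha, b, hb, rfl⟩ := hCI q hq
    have hzI : a ∈ I := D.mem_Inv.2 ⟨(mem_inf.1 ha).1, by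
      rw [comm_conj hez (hle ha)]; exact mul_mem (hle ha) (hle ha)⟩
    exact (D.mem_Inv.1 (mul_mem hzI hb)).2
  have hbig : Nat.card I ≤ 9 → False := by
    intro h9
    have hle := D.part_le hez h2 hIQ (fun a ha b hb => (D.fixed_comm_inv hez hb ha).symm) hIC h9
    refine hne (D.faithful he fun q hq => ?_)
    obtain ⟨a, ha, b, hb, rfl⟩ := hCI q hq
    have hab : a * b ∈ C := mul_mem ha (mem_inf.2 ⟨D.core.zpowers_le_Q (hle hb),
      mem_centralizer_singleton_iff.2 (mul_inv_eq_iff_eq_mul.1 (comm_conj hez (hle hb))).symm⟩)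
    rw [commutatorElement_eq_one_iff_mul_comm.2 (mem_centralizer_singleton_iff.1 (mem_inf.1 hab).2).symm]
    exact one_mem _
  obtain ⟨i, hi, ei⟩ := (Nat.dvd_prime_pow Nat.prime_three).1
    (show Nat.card C ∣ 3 ^ 6 by rw [show (3 : ℕ) ^ 6 = 729 from rfl, ← hprod]; exact Dvd.intro _ rfl)
  by_cases h9 : Nat.card C ≤ 9
  · exact Or.inl (hsmall h9)
  right
  have hI9 : ¬ Nat.card I ≤ 9 := hbig
  rw [ei] at hprod h9 ⊢
  interval_cases i <;> omega

/-- Some involution splits the core. -/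
theorem exists_split : ∃ e ∈ D.T, ∃ he : Commute e D.z, e * e = 1 ∧ (∀ x ∈ D.T, Commute e x) ∧
    Nat.card ↥(D.Q ⊓ centralizer {e}) = 27 ∧ Nat.card ↥(D.Inv e he) = 27 := by
  obtain ⟨e, he, e', he', e2, e2', hne, hne', hee, hcen, hcen'⟩ := D.pair
  rcases D.inverts_or_split he e2 hne with hi | hs
  swap
  · exact ⟨e, he, D.commute_z he, e2, hcen, hs.1, hs.2⟩
  rcases D.inverts_or_split he' e2' hne' with hi' | hs
  swap
  · exact ⟨e', he', D.commute_z he', e2', hcen', hs.1, hs.2⟩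
  refine absurd (D.faithful (mul_mem he he') fun q hq => ?_) fun h => hee ?_
  · have hq' := D.norm_Q (D.commute_z he') hq
    have h1 := hi _ hq'
    have h2 := hi' q hq
    rw [commutatorElement_def, show e * e' * q * (e * e')⁻¹ * q⁻¹ =
      e * (e' * q * e'⁻¹) * e⁻¹ * (e' * q * e'⁻¹) * ((e' * q * e'⁻¹)⁻¹ * q⁻¹) by group,
      show (e' * q * e'⁻¹)⁻¹ * q⁻¹ = (q * (e' * q * e'⁻¹))⁻¹ by group]
    refine mul_mem h1 (inv_mem ?_)
    rw [show q * (e' * q * e'⁻¹) = q * (e' * q * e'⁻¹ * q) * q⁻¹ by group, ← D.core.commute h2 hq,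
      mul_inv_cancel_right]
    exact h2
  · rw [mul_eq_one_iff_eq_inv, inv_eq_of_mul_eq_one_right e2'] at h
    exact h

/-- The factors and the two groups of order 8. -/
structure Parts where
  /-- the first factor -/
  Q1 : Subgroup G
  /-- the second factor -/
  Q2 : Subgroup G
  fac : Fac D.Q Q1 Q2 D.z
  norm1 : ∀ x ∈ D.T, ∀ a ∈ Q1, x * a * x⁻¹ ∈ Q1
  norm2 : ∀ x ∈ D.T, ∀ a ∈ Q2, x * a * x⁻¹ ∈ Q2

theorem exists_parts : Nonempty D.Parts := by
  obtain ⟨e, -, hez, h2, hcen, h1, h1'⟩ := D.exists_split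
  refine ⟨⟨D.Q ⊓ centralizer {e}, D.Inv e hez,
    ⟨D.core, inf_le_left, fun _ hx => hx.1, mem_inf.2 ⟨D.core.mem, mem_centralizer_singleton_iff.2 hez.symm.eq⟩,
      D.mem_Inv.2 ⟨D.core.mem, by rw [comm_conj hez (mem_zpowers _)]; exact mul_mem (mem_zpowers _) (mem_zpowers _)⟩,
      h1, h1', le_antisymm (fun x hx => D.inf_Inv hez (mem_inf.1 hx).1 (mem_inf.1 hx).2) ?_,
      fun a ha b hb => D.fixed_comm_inv hez ha hb⟩, ?_, ?_⟩⟩
  · intro w hw
    exact mem_inf.2 ⟨mem_inf.2 ⟨D.core.zpowers_le_Q hw,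
      mem_centralizer_singleton_iff.2 (mul_inv_eq_iff_eq_mul.1 (comm_conj hez hw)).symm⟩,
      D.mem_Inv.2 ⟨D.core.zpowers_le_Q hw, by rw [comm_conj hez hw]; exact mul_mem hw hw⟩⟩
  · intro x hx a ha
    obtain ⟨haQ, hae⟩ := mem_inf.1 ha
    refine mem_inf.2 ⟨D.norm_Q (D.commute_z hx) haQ, mem_centralizer_singleton_iff.2 ?_⟩
    exact (((hcen x hx).symm.mul_left (show Commute a e from mem_centralizer_singleton_iff.1 hae)).mul_left
      (hcen x hx).symm.inv_left).eq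
  · intro x hx a ha
    obtain ⟨haQ, hae⟩ := D.mem_Inv.1 ha
    refine D.mem_Inv.2 ⟨D.norm_Q (D.commute_z hx) haQ, ?_⟩
    rw [show e * (x * a * x⁻¹) * e⁻¹ * (x * a * x⁻¹) = x * (e * a * e⁻¹ * a) * x⁻¹ by
      rw [show e * (x * a * x⁻¹) * e⁻¹ = (e * x) * a * (e * x)⁻¹ by group, (hcen x hx).eq]; group,
      comm_conj (D.commute_z hx) hae]
    exact hae

namespace Parts

variable {D} (A : D.Parts)

/-- The subgroup moving the first factor. -/
abbrev P : Subgroup G := D.T ⊓ centralizer (A.Q2 : Set G)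

/-- The subgroup moving the second factor. -/
abbrev P' : Subgroup G := D.T ⊓ centralizer (A.Q1 : Set G)

/-- Exchange of the two factors. -/
def swap : D.Parts := ⟨A.Q2, A.Q1, A.fac.symm, A.norm2, A.norm1⟩

theorem mem_P {x : G} : x ∈ A.P ↔ x ∈ D.T ∧ ∀ b ∈ A.Q2, Commute x b := by
  rw [mem_inf, mem_centralizer_iff]
  exact and_congr_right fun _ => forall₂_congr fun b _ => eq_comm

theorem mem_P' {x : G} : x ∈ A.P' ↔ x ∈ D.T ∧ ∀ b ∈ A.Q1, Commute x b := A.swap.mem_P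

theorem commute_all {x : G} (hx : x ∈ A.P) (hx' : x ∈ A.P') {q : G} (hq : q ∈ D.Q) : Commute x q := by
  have : A.Q1 ⊔ A.Q2 ≤ centralizer {x} := sup_le
    (fun b hb => mem_centralizer_singleton_iff.2 ((A.mem_P'.1 hx').2 b hb).symm.eq)
    (fun b hb => mem_centralizer_singleton_iff.2 ((A.mem_P.1 hx).2 b hb).symm.eq)
  exact (mem_centralizer_singleton_iff.1 (this (A.fac.sup_eq.symm ▸ hq))).symm

theorem P_inf {x : G} (hx : x ∈ A.P) (hx' : x ∈ A.P') : x = 1 :=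
  D.T_disjoint (A.mem_P.1 hx).1 (D.cq x (D.commute_z (A.mem_P.1 hx).1) fun _ hq => A.commute_all hx hx' hq)

theorem conj_P {g x : G} (hg : g ∈ D.T) (hx : x ∈ A.P) : g * x * g⁻¹ ∈ A.P := by
  obtain ⟨hxT, hxc⟩ := A.mem_P.1 hx
  refine A.mem_P.2 ⟨mul_mem (mul_mem hg hxT) (inv_mem hg), fun b hb => ?_⟩
  have h := hxc _ (A.norm2 g⁻¹ (inv_mem hg) b hb)
  have h' := h.map (MulAut.conj g).toMonoidHom
  simpa [mul_assoc] using h'

theorem P_comm {p p' : G} (hp : p ∈ A.P) (hp' : p' ∈ A.P') : Commute p p' := by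
  have h1 : ⁅p, p'⁆ ∈ A.P := by
    rw [commutatorElement_def, mul_assoc, mul_assoc, ← mul_assoc p']
    exact mul_mem hp (A.conj_P (A.mem_P'.1 hp').1 (inv_mem hp))
  have h2 : ⁅p, p'⁆ ∈ A.P' := by
    rw [commutatorElement_def]
    exact mul_mem (A.swap.conj_P (A.mem_P.1 hp).1 hp') (inv_mem hp')
  exact commutatorElement_eq_one_iff_mul_comm.1 (A.P_inf h1 h2)

/-- An element of `T` fixing a non-central element of the first factor modulo the centre centralises the factor. -/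
theorem mem_P'_of_fix {x a : G} (hx : x ∈ D.T) (ha : a ∈ A.Q1) (haz : a ∉ zpowers D.z)
    (h : ⁅x, a⁆ ∈ zpowers D.z) : x ∈ A.P' := by
  obtain ⟨n, hn⟩ := D.exists_two hx
  refine A.mem_P'.2 ⟨hx, fun b hb => ?_⟩
  have h3 : Commute (x ^ 3) b := commute_of_two D.core (n := n)
    (by rw [← pow_mul, mul_comm, pow_mul, hn, one_pow]) ((D.commute_z hx).pow_left 3)
    (A.fac.fix_line (D.commute_z hx) (A.norm1 x hx) ha haz h hb)
  obtain ⟨m, hm⟩ := exists_pow_eq_self_of_coprime (x := x) (n := 3)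
    (Nat.Coprime.coprime_dvd_right (orderOf_dvd_of_pow_eq_one hn) (Nat.Coprime.pow_right n (by norm_num)))
  rw [← hm]
  exact h3.pow_left m

theorem exists_base : ∃ a ∈ A.Q1, a ∉ zpowers D.z := by
  by_contra h
  push Not at h
  have he : A.Q1 = zpowers D.z := le_antisymm h (zpowers_le.2 A.fac.z_mem1)
  have h1 := A.fac.card1
  rw [he, D.core.card_zpowers] at h1
  omega

/-- The orbit map modulo the centre. -/
def orb {a : G} (ha : a ∈ A.Q1) (x : D.T) : A.Q1 ⧸ (zpowers D.z).subgroupOf A.Q1 :=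
  QuotientGroup.mk (⟨(x : G) * a * (x : G)⁻¹, A.norm1 x x.2 a ha⟩ : A.Q1)

theorem orb_eq {a : G} (ha : a ∈ A.Q1) (haz : a ∉ zpowers D.z) {x y : D.T} (h : A.orb ha x = A.orb ha y) :
    (y : G)⁻¹ * x ∈ A.P' := by
  have h' := (QuotientGroup.eq.1 h)
  rw [mem_subgroupOf] at h'
  simp only [Subgroup.coe_mul, InvMemClass.coe_inv] at h'
  refine A.mem_P'_of_fix (mul_mem (inv_mem y.2) x.2) ha haz ?_
  obtain ⟨w, hw, e⟩ : ∃ w ∈ zpowers D.z, (x : G) * a * (x : G)⁻¹ = (y : G) * a * (y : G)⁻¹ * w :=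
    ⟨_, inv_mem h', by group⟩
  rw [commutatorElement_def, show (y : G)⁻¹ * x * a * ((y : G)⁻¹ * x)⁻¹ * a⁻¹ =
      (y : G)⁻¹ * (x * a * (x : G)⁻¹) * y * a⁻¹ by group, e,
    show (y : G)⁻¹ * (y * a * (y : G)⁻¹ * w) * y * a⁻¹ = a * ((y : G)⁻¹ * w * (y : G)⁻¹⁻¹) * a⁻¹ by group,
    comm_conj (D.commute_z y.2).inv_left hw, ← D.core.commute hw (A.fac.le1 ha), mul_inv_cancel_right]
  exact hw

theorem orb_ne {a : G} (ha : a ∈ A.Q1) (haz : a ∉ zpowers D.z) (x : D.T) : A.orb ha x ≠ QuotientGroup.mk (1 : A.Q1) := by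
  intro h
  have h' := QuotientGroup.eq.1 h.symm
  rw [inv_one, one_mul, mem_subgroupOf] at h'
  refine haz ?_
  have := comm_conj (D.commute_z x.2).inv_left h'
  rw [show (x : G)⁻¹ * (x * a * (x : G)⁻¹) * (x : G)⁻¹⁻¹ = a by group] at this
  rwa [this]

theorem card_orb : Nat.card {v : A.Q1 ⧸ (zpowers D.z).subgroupOf A.Q1 // v ≠ QuotientGroup.mk (1 : A.Q1)} = 8 := by
  have hz : zpowers D.z ≤ A.Q1 := zpowers_le.2 A.fac.z_mem1
  have h := ((zpowers D.z).subgroupOf A.Q1).card_mul_index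
  rw [A.fac.card1, Nat.card_congr (subgroupOfEquivOfLe hz).toEquiv, D.core.card_zpowers, Subgroup.index] at h
  have h9 : Nat.card (A.Q1 ⧸ (zpowers D.z).subgroupOf A.Q1) = 9 := by omega
  classical
  haveI := Fintype.ofFinite (A.Q1 ⧸ (zpowers D.z).subgroupOf A.Q1)
  rw [Nat.card_eq_fintype_card] at h9
  rw [Nat.card_eq_fintype_card, Fintype.card_subtype_compl, Fintype.card_subtype_eq, h9]

theorem le_P' : 64 ≤ 8 * Nat.card A.P' := by
  obtain ⟨a, ha, haz⟩ := A.exists_base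
  have h1 := (A.P'.subgroupOf D.T).card_mul_index
  rw [D.card_T, Nat.card_congr (subgroupOfEquivOfLe inf_le_left).toEquiv] at h1
  have h2 : (A.P'.subgroupOf D.T).index ≤ 8 := by
    rw [← A.card_orb, Subgroup.index]
    refine Nat.card_le_card_of_injective
      (fun q => ⟨A.orb ha q.out, A.orb_ne ha haz _⟩) fun q r h => ?_
    have e := A.orb_eq ha haz (congrArg Subtype.val h)
    rw [← QuotientGroup.out_eq' q, ← QuotientGroup.out_eq' r]
    exact (QuotientGroup.eq.2 (mem_subgroupOf.2 e)).symm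
  nlinarith

theorem card_mul : Nat.card A.P * Nat.card A.P' ≤ 64 := by
  rw [← D.card_T, ← Nat.card_prod]
  refine Nat.card_le_card_of_injective
    (fun p => (⟨(p.1 : G) * p.2, mul_mem (A.mem_P.1 p.1.2).1 (A.mem_P'.1 p.2.2).1⟩ : D.T)) fun p q h => ?_
  have e : (p.1 : G) * p.2 = q.1 * q.2 := congrArg Subtype.val h
  have h1 : (q.1 : G)⁻¹ * p.1 = q.2 * (p.2 : G)⁻¹ := by
    calc (q.1 : G)⁻¹ * p.1 = (q.1 : G)⁻¹ * (p.1 * p.2) * (p.2 : G)⁻¹ := by group
      _ = (q.1 : G)⁻¹ * (q.1 * q.2) * (p.2 : G)⁻¹ := by rw [e]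
      _ = _ := by group
  have h2 := A.P_inf (mul_mem (inv_mem q.1.2) p.1.2) (by rw [h1]; exact mul_mem q.2.2 (inv_mem p.2.2))
  have e1 : (q.1 : G) = p.1 := inv_mul_eq_one.1 h2
  refine Prod.ext (Subtype.ext e1.symm) (Subtype.ext ?_)
  rw [e1] at e
  exact mul_left_cancel e

theorem cards : Nat.card A.P = 8 ∧ Nat.card A.P' = 8 := by
  have h1 := A.le_P'
  have h2 := A.swap.le_P'
  have h3 := A.card_mul
  change 64 ≤ 8 * Nat.card A.P at h2
  constructor <;> nlinarith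

theorem exists_dec {x : G} (hx : x ∈ D.T) : ∃ p ∈ A.P, ∃ p' ∈ A.P', x = p * p' := by
  have h := A.cards
  have hinj : Function.Injective
      fun p : A.P × A.P' => (⟨(p.1 : G) * p.2, mul_mem (A.mem_P.1 p.1.2).1 (A.mem_P'.1 p.2.2).1⟩ : D.T) := by
    intro p q h
    have e : (p.1 : G) * p.2 = q.1 * q.2 := congrArg Subtype.val h
    have h1 : (q.1 : G)⁻¹ * p.1 = q.2 * (p.2 : G)⁻¹ := by
      calc (q.1 : G)⁻¹ * p.1 = (q.1 : G)⁻¹ * (p.1 * p.2) * (p.2 : G)⁻¹ := by group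
        _ = (q.1 : G)⁻¹ * (q.1 * q.2) * (p.2 : G)⁻¹ := by rw [e]
        _ = _ := by group
    have h2 := A.P_inf (mul_mem (inv_mem q.1.2) p.1.2) (by rw [h1]; exact mul_mem q.2.2 (inv_mem p.2.2))
    have e1 : (q.1 : G) = p.1 := inv_mul_eq_one.1 h2
    refine Prod.ext (Subtype.ext e1.symm) (Subtype.ext ?_)
    rw [e1] at e
    exact mul_left_cancel e
  have hb := (Nat.bijective_iff_injective_and_card _).2 ⟨hinj, by rw [Nat.card_prod, h.1, h.2, D.card_T]⟩
  obtain ⟨p, hp⟩ := hb.2 ⟨x, hx⟩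
  exact ⟨p.1, p.1.2, p.2, p.2.2, (congrArg Subtype.val hp).symm⟩

/-- The group `P` is transitive on the non-central elements of the first factor modulo the centre. -/
theorem exists_move {a b : G} (ha : a ∈ A.Q1) (haz : a ∉ zpowers D.z) (hb : b ∈ A.Q1) (hbz : b ∉ zpowers D.z) :
    ∃ p ∈ A.P, (p * a * p⁻¹)⁻¹ * b ∈ zpowers D.z := by
  let f : A.P → {v : A.Q1 ⧸ (zpowers D.z).subgroupOf A.Q1 // v ≠ QuotientGroup.mk (1 : A.Q1)} := fun p =>
    ⟨A.orb ha ⟨p, (A.mem_P.1 p.2).1⟩, A.orb_ne ha haz _⟩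
  have hinj : Function.Injective f := fun p q h => by
    have h1 := A.orb_eq ha haz (congrArg Subtype.val h)
    exact Subtype.ext (inv_mul_eq_one.1 (A.P_inf (mul_mem (inv_mem q.2) p.2) h1)).symm
  have hb' := (Nat.bijective_iff_injective_and_card f).2 ⟨hinj, by rw [A.cards.1, A.card_orb]⟩
  obtain ⟨p, hp⟩ := hb'.2 ⟨QuotientGroup.mk (⟨b, hb⟩ : A.Q1), fun h => hbz (by
    simpa [mem_subgroupOf] using QuotientGroup.eq.1 h.symm)⟩
  refine ⟨p, p.2, ?_⟩
  simpa [mem_subgroupOf] using QuotientGroup.eq.1 (congrArg Subtype.val hp)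

end Parts

end Pre

end Cfsg.Agent.U62Three
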