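import Cfsg.Agent.Lib.U62Three.Local.Kernel
import Cfsg.Agent.Lib.U62Three.Split

/-!
The points of the centraliser of the central element outside the core: each of them centralises an axis in each
factor, so a subgroup of order 27 of the core.
-/

set_option autoImplicit false
set_option linter.style.haveILetI false
set_option linter.unusedSectionVars false

namespace Cfsg.Agent.U62Three

open Subgroup
open scoped commutatorElement MatrixGroups
open Co2Three (IsPoint pw pw_zero pw_one pw_add pw_neg pw_mem pw_not_mem)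
open Local (lam exists_pw Plane)

namespace Setup

variable {G : Type*} [Group G] (S : Setup G)

theorem fac' : Fac S.Q S.Q1 S.Q2 S.z :=
  ⟨S.core, S.le1, S.le2, S.z_mem1, S.z_mem2, S.card1, S.card2, S.inf12, S.comm12⟩

theorem z3 : S.z ^ 3 = 1 := S.exp _ S.core.mem

theorem commute_Q {q : G} (hq : q ∈ S.Q) : Commute q S.z := mem_centralizer_singleton_iff.1 (S.le hq)

theorem commute_Zc {x c : G} (hx : Commute x S.z) (hc : c ∈ zpowers S.z) : Commute x c := by
  obtain ⟨k, rfl⟩ := mem_zpowers_iff.1 hc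
  exact hx.zpow_right k

theorem disjoint_Z {H : Subgroup G} (hz : S.z ∉ H) {x : G} (hx : x ∈ zpowers S.z) (hH : x ∈ H) : x = 1 := by
  obtain ⟨k, rfl⟩ := exists_pw S.core hx
  by_contra hne
  exact pw_not_mem hz S.z3 (fun e => hne (by rw [e, pw_zero])) hH

theorem mem_pair {a x : G} (ha : a ∈ S.Q) (hx : x ∈ closure {S.z, a}) :
    ∃ k : ZMod 3, ∃ c ∈ zpowers S.z, x = c * pw a k := by
  induction hx using closure_induction with
  | mem x hx =>
    rcases hx with rfl | rfl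
    · exact ⟨0, _, mem_zpowers _, by rw [pw_zero, mul_one]⟩
    · exact ⟨1, 1, one_mem _, by rw [pw_one, one_mul]⟩
  | one => exact ⟨0, 1, one_mem _, by rw [pw_zero, mul_one]⟩
  | mul x y _ _ hx hy =>
    obtain ⟨k, c, hc, rfl⟩ := hx
    obtain ⟨l, d, hd, rfl⟩ := hy
    refine ⟨k + l, c * d, mul_mem hc hd, ?_⟩
    rw [pw_add (S.exp a ha)]
    calc c * pw a k * (d * pw a l) = c * (pw a k * d) * pw a l := by group
      _ = c * (d * pw a k) * pw a l := by rw [S.core.commute hd (pw_mem ha k)]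
      _ = _ := by group
  | inv x _ hx =>
    obtain ⟨k, c, hc, rfl⟩ := hx
    refine ⟨-k, c⁻¹, inv_mem hc, ?_⟩
    rw [pw_neg (S.exp a ha), mul_inv_rev, S.core.commute (inv_mem hc) (inv_mem (pw_mem ha k))]

/-- Commuting with the two generators of a line. -/
theorem comm_pair {x a d : G} (hz : Commute x S.z) (ha : Commute x a) (hd : d ∈ closure {S.z, a}) :
    Commute x d := by
  have h : closure {S.z, a} ≤ centralizer {x} := (closure_le _).2 (by
    rintro u (rfl | rfl)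
    · exact mem_centralizer_singleton_iff.2 hz.symm.eq
    · exact mem_centralizer_singleton_iff.2 ha.symm.eq)
  exact (mem_centralizer_singleton_iff.1 (h hd)).symm

/-- An element of order three normalising a line fixes it modulo the centre. -/
theorem fix_of_normalize {g a : G} (hg : Commute g S.z) (h3 : g ^ 3 = 1) (ha : a ∈ S.Q) (haz : a ∉ zpowers S.z)
    (h : g * a * g⁻¹ ∈ closure {S.z, a}) : ⁅g, a⁆ ∈ zpowers S.z := by
  obtain ⟨k, c, hc, e⟩ := S.mem_pair ha h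
  rcases (show ∀ k : ZMod 3, k = 0 ∨ k = 1 ∨ k = -1 by decide) k with rfl | rfl | rfl
  · rw [pw_zero, mul_one] at e
    refine absurd ?_ haz
    rw [show a = g⁻¹ * (g * a * g⁻¹) * g by group, e, (S.commute_Zc hg.inv_left hc).eq, inv_mul_cancel_right]
    exact hc
  · rw [pw_one] at e
    rw [commutatorElement_def, e, mul_inv_cancel_right]
    exact hc
  · exfalso
    rw [pw_neg (S.exp a ha), pw_one] at e
    have e2 : g * (g * a * g⁻¹) * g⁻¹ = a := by
      rw [e, show g * (c * a⁻¹) * g⁻¹ = (g * c * g⁻¹) * (g * a * g⁻¹)⁻¹ by group, e,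
        (S.commute_Zc hg hc).eq, mul_inv_cancel_right]
      have : c * (c * a⁻¹)⁻¹ = c * a * c⁻¹ := by group
      rw [this, S.core.commute hc ha, mul_inv_cancel_right]
    have e4 : g * (g * (g * (g * a * g⁻¹) * g⁻¹) * g⁻¹) * g⁻¹ = a := by rw [e2, e2]
    have e1 : g * a * g⁻¹ = a := by
      calc g * a * g⁻¹ = g * g ^ 3 * a * (g * g ^ 3)⁻¹ := by rw [h3, mul_one]
        _ = g * (g * (g * (g * a * g⁻¹) * g⁻¹) * g⁻¹) * g⁻¹ := by
          simp only [pow_succ, pow_zero, one_mul, mul_inv_rev, mul_assoc]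
        _ = a := e4
    rw [e1] at e
    refine haz (Core.mem_of_sq S.core ha ?_)
    rw [show a * a = c by nth_rewrite 1 [e]; rw [inv_mul_cancel_right]]
    exact hc

variable [Finite G]

theorem card_pair {a : G} (ha : a ∈ S.Q1) (haz : a ∉ zpowers S.z) : Nat.card ↥(closure {S.z, a}) = 9 := by
  have hle : closure {S.z, a} ≤ S.Q1 := (closure_le _).2 (by
    rintro x (rfl | rfl)
    · exact S.z_mem1
    · exact ha)
  have hzD : zpowers S.z ≤ closure {S.z, a} := zpowers_le.2 (subset_closure (Set.mem_insert _ _))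
  have l1 : Nat.card (zpowers S.z) < Nat.card ↥(closure {S.z, a}) := lt_of_le_of_ne (card_le_of_le hzD)
    fun e => haz ((eq_of_le_of_card_ge hzD e.ge) ▸ subset_closure (Set.mem_insert_of_mem _ rfl))
  have l2 : Nat.card ↥(closure {S.z, a}) ≠ 27 := fun e => by
    obtain ⟨b, hb, hab⟩ := S.fac'.exists_partner ha haz
    have he := eq_of_le_of_card_ge hle (by rw [S.card1, e])
    exact hab (commutatorElement_eq_one_iff_mul_comm.2
      (S.comm_pair (S.commute_Q (S.le1 ha)) (Commute.refl a) (he ▸ hb)).eq)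
  rw [S.core.card_zpowers] at l1
  obtain ⟨i, hi, e⟩ := (Nat.dvd_prime_pow Nat.prime_three).1
    (show Nat.card ↥(closure {S.z, a}) ∣ 3 ^ 3 by
      rw [show (3 : ℕ) ^ 3 = 27 from rfl, ← S.card1]; exact card_dvd_of_le hle)
  rw [e] at l1 l2 ⊢
  interval_cases i <;> omega

/-- A line and one more element generate the factor. -/
theorem factor_gen {H : Subgroup G} {a b : G} (ha : a ∈ S.Q1) (haz : a ∉ zpowers S.z) (hb : b ∈ S.Q1)
    (hba : b ∉ closure {S.z, a}) (hz : S.z ∈ H) (haH : a ∈ H) (hbH : b ∈ H) : S.Q1 ≤ H := by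
  have hle : closure {S.z, a} ≤ S.Q1 ⊓ H := (closure_le _).2 (by
    rintro x (rfl | rfl)
    · exact mem_inf.2 ⟨S.z_mem1, hz⟩
    · exact mem_inf.2 ⟨ha, haH⟩)
  have l1 : Nat.card ↥(closure {S.z, a}) < Nat.card ↥(S.Q1 ⊓ H) := lt_of_le_of_ne (card_le_of_le hle)
    fun e => hba ((eq_of_le_of_card_ge hle e.ge).symm ▸ mem_inf.2 ⟨hb, hbH⟩)
  rw [S.card_pair ha haz] at l1
  obtain ⟨i, hi, e⟩ := (Nat.dvd_prime_pow Nat.prime_three).1
    (show Nat.card ↥(S.Q1 ⊓ H) ∣ 3 ^ 3 by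
      rw [show (3 : ℕ) ^ 3 = 27 from rfl, ← S.card1]; exact card_dvd_of_le inf_le_left)
  rw [e] at l1
  have h := eq_of_le_of_card_ge (inf_le_left : S.Q1 ⊓ H ≤ S.Q1) (by
    rw [S.card1, e]; interval_cases i <;> omega)
  exact fun x hx => (mem_inf.1 (h.symm ▸ hx)).2

/-- An element moving a factor fixes only one line of it. -/
theorem fix_unique {g a d : G} (hg : Commute g S.z) (hm : ∃ b ∈ S.Q1, ⁅g, b⁆ ∉ zpowers S.z)
    (ha : a ∈ S.Q1) (haz : a ∉ zpowers S.z) (hga : ⁅g, a⁆ ∈ zpowers S.z) (hd : d ∈ S.Q1)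
    (hgd : ⁅g, d⁆ ∈ zpowers S.z) : d ∈ closure {S.z, a} := by
  by_contra hn
  obtain ⟨b, hb, hgb⟩ := hm
  refine hgb (mem_fixMod.1 (S.factor_gen (H := fixMod S.core g) ha haz hd hn ?_ ?_ ?_ hb)).2
  · exact mem_fixMod.2 ⟨S.core.mem, by rw [commutatorElement_eq_one_iff_mul_comm.2 hg.eq]; exact one_mem _⟩
  · exact mem_fixMod.2 ⟨S.le1 ha, hga⟩
  · exact mem_fixMod.2 ⟨S.le1 hd, hgd⟩

/-- Elements of three-power order preserve the factors. -/
theorem pres_of_three' {g : G} (hg : Commute g S.z) {n : ℕ} (hn : g ^ 3 ^ n = 1) : S.Pres g := by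
  have h2 : S.Pres (g * g) := by
    rcases S.perm g (S.conj_z hg) with h | h
    · exact ⟨hg.mul_left hg, fun a ha => by
        rw [show g * g * a * (g * g)⁻¹ = g * (g * a * g⁻¹) * g⁻¹ by group]; exact h.1 _ (h.1 a ha),
        fun a ha => by rw [show g * g * a * (g * g)⁻¹ = g * (g * a * g⁻¹) * g⁻¹ by group]; exact h.2 _ (h.2 a ha)⟩
    · exact ⟨hg.mul_left hg, fun a ha => by
        rw [show g * g * a * (g * g)⁻¹ = g * (g * a * g⁻¹) * g⁻¹ by group]; exact h.2 _ (h.1 a ha),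
        fun a ha => by rw [show g * g * a * (g * g)⁻¹ = g * (g * a * g⁻¹) * g⁻¹ by group]; exact h.1 _ (h.2 a ha)⟩
  obtain ⟨m, hm⟩ := exists_pow_eq_self_of_coprime (x := g) (n := 2)
    (Nat.Coprime.coprime_dvd_right (orderOf_dvd_of_pow_eq_one hn) (Nat.Coprime.pow_right n (by norm_num)))
  rw [pow_two] at hm
  exact hm ▸ (S.presGrp.pow_mem h2 m : (g * g) ^ m ∈ S.presGrp)

/-- A 3-subgroup of the centraliser induces at most three elements on a factor. -/
theorem exists_act {R : Subgroup G} (hR : IsPGroup 3 R) (hle : R ≤ centralizer {S.z}) :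
    ∃ f : ↥R →* SL(2, ZMod 3), Nat.card f.range ∣ 3 ∧
      ∀ x : R, f x = 1 ↔ ∀ q ∈ S.Q1, ⁅(x : G), q⁆ ∈ zpowers S.z := by
  obtain ⟨a, ha, haz⟩ := S.exists_not_mem₁
  obtain ⟨r, P⟩ := S.exists_plane₁ ha haz
  have hM : ∀ g ∈ R, Commute g S.z ∧ ∀ q ∈ S.Q1, g * q * g⁻¹ ∈ S.Q1 := fun g hg => by
    obtain ⟨n, hn⟩ := hR ⟨g, hg⟩
    have h := S.pres_of_three' (mem_centralizer_singleton_iff.1 (hle hg)) (congrArg Subtype.val hn)
    exact ⟨h.1, h.2.1⟩
  refine ⟨P.act R hM, ?_, P.act_eq_one hM⟩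
  have hp : IsPGroup 3 (P.act R hM).range := by
    intro x
    obtain ⟨y, hy⟩ := (P.act R hM).mem_range.1 x.2
    obtain ⟨n, hn⟩ := hR y
    exact ⟨n, Subtype.ext (by rw [Subgroup.coe_pow, ← hy, ← map_pow, hn, map_one]; rfl)⟩
  haveI : Fact (Nat.Prime 3) := ⟨Nat.prime_three⟩
  obtain ⟨k, hk⟩ := IsPGroup.iff_card.1 hp
  have hd := card_subgroup_dvd_card (P.act R hM).range
  rw [Local.card_SL, hk] at hd
  rw [hk]
  have : k ≤ 1 := by
    by_contra hk1
    exact absurd ((pow_dvd_pow 3 (show 2 ≤ k by omega)).trans hd) (by norm_num)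
  exact (pow_dvd_pow 3 this).trans (by norm_num)

/-- Commutators in a 3-subgroup of the centraliser lie in the core. -/
theorem comm_mem_Q {R : Subgroup G} (hR : IsPGroup 3 R) (hle : R ≤ centralizer {S.z}) {r s : G} (hr : r ∈ R)
    (hs : s ∈ R) : ⁅r, s⁆ ∈ S.Q := by
  have key : ∀ T : Setup G, T.z = S.z → ∀ q ∈ T.Q1, ⁅⁅r, s⁆, q⁆ ∈ zpowers T.z := by
    intro T hT
    obtain ⟨f, hf, h1⟩ := T.exists_act hR (hT ▸ hle)
    refine (h1 ⁅(⟨r, hr⟩ : R), ⟨s, hs⟩⁆).1 ?_
    haveI : IsCyclic f.range := by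
      rcases (Nat.dvd_prime Nat.prime_three).1 hf with h | h
      · haveI : Subsingleton f.range := (Nat.card_eq_one_iff_unique.1 h).1
        exact isCyclic_of_subsingleton
      · haveI : Fact (Nat.Prime 3) := ⟨Nat.prime_three⟩
        exact isCyclic_of_prime_card h
    rw [map_commutatorElement, commutatorElement_eq_one_iff_mul_comm]
    exact congrArg Subtype.val (mul_comm' (⟨f ⟨r, hr⟩, _, rfl⟩ : f.range) ⟨f ⟨s, hs⟩, _, rfl⟩)
  have hr' := mem_centralizer_singleton_iff.1 (hle hr)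
  have hs' := mem_centralizer_singleton_iff.1 (hle hs)
  have hz : Commute ⁅r, s⁆ S.z := by
    rw [commutatorElement_def]
    exact (((show Commute r S.z from hr').mul_left hs').mul_left
      (show Commute r S.z from hr').inv_left).mul_left (show Commute s S.z from hs').inv_left
  exact S.mem_Q_of_trivial hz (key S rfl) (key S.swap rfl)

/-- A 3-subgroup of the centraliser meeting the core trivially has order at most nine. -/
theorem card_le_nine {R : Subgroup G} (hR : IsPGroup 3 R) (hle : R ≤ centralizer {S.z})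
    (hQ : ∀ x ∈ R, x ∈ S.Q → x = 1) : Nat.card R ≤ 9 := by
  obtain ⟨f, hf, f1⟩ := S.exists_act hR hle
  obtain ⟨f', hf', f1'⟩ := S.swap.exists_act hR hle
  have hinj : Function.Injective (fun x : R => (f.rangeRestrict x, f'.rangeRestrict x)) := by
    intro x y h
    simp only [Prod.mk.injEq, Subtype.ext_iff, MonoidHom.coe_rangeRestrict] at h
    refine (inv_mul_eq_one.1 (Subtype.ext (hQ _ (x⁻¹ * y).2 ?_)) : x = y)
    refine S.mem_Q_of_trivial (mem_centralizer_singleton_iff.1 (hle (x⁻¹ * y).2)) ?_ ?_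
    · exact (f1 _).1 (by rw [map_mul, map_inv, h.1, inv_mul_cancel])
    · exact (f1' _).1 (by rw [map_mul, map_inv, h.2, inv_mul_cancel])
  refine (Nat.card_le_card_of_injective _ hinj).trans ?_
  rw [Nat.card_prod]
  exact (Nat.mul_le_mul (Nat.le_of_dvd (by norm_num) hf) (Nat.le_of_dvd (by norm_num) hf')).trans le_rfl

/-- Multiplying by powers of an element moving a factor kills the action on it. -/
theorem exists_kill {R : Subgroup G} (hR : IsPGroup 3 R) (hle : R ≤ centralizer {S.z}) {y : G} (hy : y ∈ R)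
    (hm : ∃ q ∈ S.Q1, ⁅y, q⁆ ∉ zpowers S.z) {x : G} (hx : x ∈ R) :
    ∃ n : ℕ, ∀ q ∈ S.Q1, ⁅x * y ^ n, q⁆ ∈ zpowers S.z := by
  obtain ⟨f, hf, f1⟩ := S.exists_act hR hle
  obtain ⟨q, hq, hne⟩ := hm
  have hy1 : f.rangeRestrict ⟨y, hy⟩ ≠ 1 := fun h => hne ((f1 _).1 (congrArg Subtype.val h) q hq)
  haveI : Fact (Nat.Prime 3) := ⟨Nat.prime_three⟩
  have h3 : Nat.card f.range = 3 := ((Nat.dvd_prime Nat.prime_three).1 hf).resolve_left fun h => by
    haveI : Subsingleton f.range := (Nat.card_eq_one_iff_unique.1 h).1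
    exact hy1 (Subsingleton.elim _ _)
  obtain ⟨n, hn⟩ := Submonoid.mem_powers_iff _ _ |>.1
    (mem_powers_of_prime_card h3 hy1 (g' := (f.rangeRestrict ⟨x, hx⟩)⁻¹))
  refine ⟨n, (f1 ⟨x * y ^ n, mul_mem hx (pow_mem hy n)⟩).1 ?_⟩
  have hn' : f ⟨y, hy⟩ ^ n = (f ⟨x, hx⟩)⁻¹ := congrArg Subtype.val hn
  rw [show (⟨x * y ^ n, mul_mem hx (pow_mem hy n)⟩ : R) = ⟨x, hx⟩ * ⟨y, hy⟩ ^ n from rfl, map_mul, map_pow, hn',
    mul_inv_cancel]

/-- The elements of the core centralising `y`. -/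
abbrev D (y : G) : Subgroup G := S.Q ⊓ centralizer {y}

theorem mem_D {y q : G} : q ∈ S.D y ↔ q ∈ S.Q ∧ Commute y q := by
  rw [mem_inf, mem_centralizer_singleton_iff]
  exact and_congr_right fun _ => ⟨Eq.symm, Eq.symm⟩

/-- A point of the centraliser outside the core. -/
structure Out (y : G) : Prop where
  point : IsPoint S.z y
  comm : Commute y S.z
  not_mem : y ∉ S.Q

theorem Out.swap' {y : G} (h : S.Out y) : S.swap.Out y := ⟨h.point, h.comm, h.not_mem⟩

theorem Out.moves {y : G} (h : S.Out y) :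
    (∃ q ∈ S.Q1, ⁅y, q⁆ ∉ zpowers S.z) ∨ ∃ q ∈ S.Q2, ⁅y, q⁆ ∉ zpowers S.z := by
  by_contra hc
  push Not at hc
  exact h.not_mem (S.mem_Q_of_trivial h.comm hc.1 hc.2)

theorem point_mem_Q {x : G} (h : IsPoint S.z x) (hx : x ∈ S.Q) : x ∈ zpowers S.z := by
  obtain ⟨g, e | e⟩ := h
  · exact e ▸ S.wc g (e.symm ▸ hx)
  · have e' : g * S.z * g⁻¹ = x⁻¹ := by rw [← e]; group
    exact inv_inv x ▸ inv_mem (e' ▸ S.wc g (e'.symm ▸ inv_mem hx))

/-- A point together with an element carrying the central element to it. -/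
structure Pair (y g : G) : Prop where
  out : S.Out y
  eq : zpowers y = zpowers (g * S.z * g⁻¹)

theorem Out.exists_pair {y : G} (h : S.Out y) : ∃ g, S.Pair y g := by
  obtain ⟨g, e | e⟩ := h.point
  · exact ⟨g, h, by rw [e]⟩
  · exact ⟨g, h, by rw [← e, ← zpowers_inv]; group⟩

namespace Pair

variable {S} {y g : G} (p : S.Pair y g)
include p

theorem commute_iff {x : G} : Commute x y ↔ Commute x (g * S.z * g⁻¹) := by
  have key : ∀ {u v : G}, v ∈ zpowers u → Commute x u → Commute x v := fun {u v} hv hx => by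
    obtain ⟨k, rfl⟩ := mem_zpowers_iff.1 hv
    exact hx.zpow_right k
  exact ⟨key (p.eq ▸ mem_zpowers _), key (p.eq.symm ▸ mem_zpowers _)⟩

theorem conj_comm {x : G} : Commute x y ↔ Commute (g⁻¹ * x * g) S.z := by
  rw [p.commute_iff]
  constructor
  · intro h
    have := h.map (MulAut.conj g⁻¹).toMonoidHom
    simpa [mul_assoc] using this
  · intro h
    have := h.map (MulAut.conj g).toMonoidHom
    simpa [mul_assoc] using this

theorem y3 : y ^ 3 = 1 := by
  obtain ⟨k, hk⟩ := mem_zpowers_iff.1 (p.eq ▸ mem_zpowers y : y ∈ zpowers (g * S.z * g⁻¹))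
  rw [← hk, ← zpow_natCast, ← zpow_mul, mul_comm, zpow_mul, zpow_natCast, conj_pow, S.z3, mul_one, mul_inv_cancel,
    one_zpow]

theorem y_Qy : g⁻¹ * y * g ∈ zpowers S.z := by
  obtain ⟨k, hk⟩ := mem_zpowers_iff.1 (p.eq ▸ mem_zpowers y : y ∈ zpowers (g * S.z * g⁻¹))
  rw [← hk, conj_zpow, show g⁻¹ * (g * S.z ^ k * g⁻¹) * g = S.z ^ k by group]
  exact zpow_mem (mem_zpowers _) k

theorem z_not : g⁻¹ * S.z * g ∉ S.Q := by
  intro h
  have h' := S.wc g⁻¹ (by rwa [inv_inv])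
  rw [inv_inv] at h'
  obtain ⟨k, hk⟩ := exists_pw S.core h'
  have hk0 : k ≠ 0 := by
    rintro rfl
    rw [pw_zero] at hk
    have hz : S.z = 1 := by
      calc S.z = g * (g⁻¹ * S.z * g) * g⁻¹ := by group
        _ = _ := by rw [← hk]; group
    have := S.core.ord
    rw [hz, orderOf_one] at this
    omega
  have hq : g * S.z * g⁻¹ ∈ S.Q := by
    have e : S.z = g * pw S.z k * g⁻¹ := by rw [hk]; group
    by_contra hn
    refine pw_not_mem hn (by rw [conj_pow, S.z3]; group) hk0 ?_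
    rw [pw, conj_pow]
    exact e ▸ S.core.mem
  exact p.out.not_mem ((zpowers_le.2 hq) (p.eq ▸ mem_zpowers y))

theorem symm : S.Pair (g⁻¹ * S.z * g) g⁻¹ := by
  refine ⟨⟨?_, p.conj_comm.1 p.out.comm.symm, p.z_not⟩, by rw [inv_inv]⟩
  exact ⟨g⁻¹, Or.inl (by rw [inv_inv])⟩

theorem inf_Q {x : G} (hx : x ∈ zpowers y) (hQ : x ∈ S.Q) : x = 1 := by
  obtain ⟨k, rfl⟩ := mem_zpowers_iff.1 hx
  have hy := p.y3
  rw [zpow_eq_zpow_emod' k hy] at hQ ⊢
  rcases (show k % 3 = 0 ∨ k % 3 = 1 ∨ k % 3 = 2 by omega) with h | h | h <;> push_cast at hQ ⊢ <;> rw [h] at hQ ⊢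
  · exact zpow_zero y
  · exact absurd (zpow_one y ▸ hQ) p.out.not_mem
  · refine absurd ?_ p.out.not_mem
    have e : y = (y ^ (2 : ℤ))⁻¹ := eq_inv_of_mul_eq_one_left (by
      rw [show y * y ^ (2 : ℤ) = y ^ 3 by group, hy])
    rw [e]
    exact inv_mem hQ

/-- The centre meets the conjugate core trivially. -/
theorem Z_inf {c : G} (hc : c ∈ zpowers S.z) (h : g⁻¹ * c * g ∈ S.Q) : c = 1 := by
  refine S.disjoint_Z (H := S.Q.map (MulAut.conj g).toMonoidHom) ?_ hc ?_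
  · intro hz
    obtain ⟨q, hq, e⟩ := mem_map.1 hz
    refine p.z_not ?_
    rw [← e]
    simpa [mul_assoc] using hq
  · exact mem_map.2 ⟨_, h, by simp [mul_assoc]⟩

/-- The only points of the conjugate core are the powers of the point. -/
theorem point_Qy {x : G} (hx : IsPoint S.z x) (h : g⁻¹ * x * g ∈ S.Q) : x ∈ zpowers y := by
  have h1 := S.point_mem_Q (by simpa using hx.conj g⁻¹) h
  obtain ⟨k, hk⟩ := mem_zpowers_iff.1 h1
  rw [p.eq, show x = g * (g⁻¹ * x * g) * g⁻¹ by group, ← hk, ← conj_zpow]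
  exact zpow_mem (mem_zpowers _) k

/-- Commutators in a 3-group centralising the point avoid the centre. -/
theorem comm_one {H : Subgroup G} (hH : IsPGroup 3 H) (hy : ∀ x ∈ H, Commute x y) {a b : G} (ha : a ∈ H)
    (hb : b ∈ H) (h : ⁅a, b⁆ ∈ zpowers S.z) : Commute a b := by
  refine commutatorElement_eq_one_iff_mul_comm.1 (p.Z_inf h ?_)
  have hle : H.map (MulAut.conj g⁻¹).toMonoidHom ≤ centralizer {S.z} := by
    rintro _ ⟨x, hx, rfl⟩
    refine mem_centralizer_singleton_iff.2 ?_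
    simpa using (p.conj_comm.1 (hy x hx)).eq
  have h := S.comm_mem_Q (hH.map _) hle (mem_map_of_mem _ ha) (mem_map_of_mem _ hb)
  rw [show g⁻¹ * ⁅a, b⁆ * g = ⁅g⁻¹ * a * g, g⁻¹ * b * g⁆ by simp only [commutatorElement_def]; group]
  simpa using h

theorem pgroup_D : IsPGroup 3 ↥(S.D y) := fun x => ⟨1, Subtype.ext (by
  rw [Subgroup.coe_pow, pow_one]; exact S.exp _ (mem_inf.1 x.2).1)⟩

/-- The subgroup of the core centralised by a point is abelian. -/
theorem D_comm {a b : G} (ha : a ∈ S.D y) (hb : b ∈ S.D y) : Commute a b :=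
  p.comm_one p.pgroup_D (fun _ hx => (S.mem_D.1 hx).2.symm) ha hb
    (Core.comm' S.core (S.mem_D.1 ha).1 (S.mem_D.1 hb).1)

/-- A non-trivial element of both cores is no commutator of the point with the core. -/
theorem no_comm {e q : G} (hq : q ∈ S.Q) (he : e = ⁅y, q⁆) (h : g⁻¹ * e * g ∈ S.Q) : e = 1 := by
  have heQ : e ∈ S.Q := by
    rw [he, commutatorElement_def]
    exact mul_mem (S.normal' p.out.comm hq) (inv_mem hq)
  have e1 : q * y⁻¹ * q⁻¹ = y⁻¹ * e := by rw [he, commutatorElement_def]; group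
  have h1 : y⁻¹ * e ∈ zpowers y := p.point_Qy (e1 ▸ p.out.point.inv.conj q) (by
    rw [show g⁻¹ * (y⁻¹ * e) * g = (g⁻¹ * y * g)⁻¹ * (g⁻¹ * e * g) by group]
    exact mul_mem (inv_mem (S.core.zpowers_le_Q p.y_Qy)) h)
  refine p.inf_Q ?_ heQ
  rw [show e = y * (y⁻¹ * e) by group]
  exact mul_mem (mem_zpowers y) h1

end Pair

/-- The powers of a central commutator. -/
theorem comm_pow {y w : G} (hw : w ∈ S.Q) (h : ⁅y, w⁆ ∈ zpowers S.z) (n : ℕ) : ⁅y, w ^ n⁆ = ⁅y, w⁆ ^ n := by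
  induction n with
  | zero => simp
  | succ n ih =>
    rw [pow_succ, pow_succ, show ⁅y, w ^ n * w⁆ = ⁅y, w ^ n⁆ * (w ^ n * ⁅y, w⁆ * (w ^ n)⁻¹) by
      simp only [commutatorElement_def]; group, ih, ← S.core.commute h (pow_mem hw n), mul_inv_cancel_right]

/-- Central factors are absorbed by commutators. -/
theorem absorb {y w : G} (hw : w ∈ S.Q) (h : ⁅y, w⁆ ∈ zpowers S.z) (hne : ⁅y, w⁆ ≠ 1) {r c : G} (hr : r ∈ S.Q)
    (hc : c ∈ zpowers S.z) : ∃ q ∈ S.Q, ⁅y, q⁆ = ⁅y, r⁆ * c := by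
  haveI : Fact (Nat.Prime 3) := ⟨Nat.prime_three⟩
  obtain ⟨n, hn⟩ := Submonoid.mem_powers_iff _ _ |>.1 (mem_powers_of_prime_card S.core.card_zpowers
    (g := (⟨_, h⟩ : zpowers S.z)) (g' := ⟨c, hc⟩) fun e => hne (congrArg Subtype.val e))
  have hn' : ⁅y, w⁆ ^ n = c := congrArg Subtype.val hn
  refine ⟨r * w ^ n, mul_mem hr (pow_mem hw n), ?_⟩
  rw [show ⁅y, r * w ^ n⁆ = ⁅y, r⁆ * (r * ⁅y, w ^ n⁆ * r⁻¹) by simp only [commutatorElement_def]; group,
    S.comm_pow hw h, hn', ← S.core.commute hc hr, mul_inv_cancel_right]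

/-- The elements of the conjugate core centralising the central element. -/
abbrev Ds (g : G) : Subgroup G := (S.D (g⁻¹ * S.z * g)).map (MulAut.conj g).toMonoidHom

theorem mem_Ds {g x : G} : x ∈ S.Ds g ↔ g⁻¹ * x * g ∈ S.Q ∧ Commute x S.z := by
  constructor
  · rintro ⟨q, hq, rfl⟩
    obtain ⟨h1, h2⟩ := S.mem_D.1 hq
    refine ⟨by simpa [mul_assoc] using h1, ?_⟩
    have := (h2.map (MulAut.conj g).toMonoidHom).symm
    simpa [mul_assoc] using this
  · rintro ⟨h1, h2⟩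
    refine mem_map.2 ⟨_, S.mem_D.2 ⟨h1, ?_⟩, by simp [mul_assoc]⟩
    have := (h2.map (MulAut.conj g⁻¹).toMonoidHom).symm
    simpa [mul_assoc] using this

theorem card_Ds (g : G) : Nat.card ↥(S.Ds g) = Nat.card ↥(S.D (g⁻¹ * S.z * g)) :=
  Nat.card_congr (equivMapOfInjective _ _ (MulAut.conj g).injective).toEquiv.symm

theorem exists_fix {y : G} (h : S.Out y) : ∃ a ∈ S.Q1, a ∉ zpowers S.z ∧ ⁅y, a⁆ ∈ zpowers S.z := by
  obtain ⟨g, p⟩ := h.exists_pair
  by_cases hm : ∃ q ∈ S.Q1, ⁅y, q⁆ ∉ zpowers S.z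
  · obtain ⟨W, hW, -, hmem, -⟩ := Local.factor S.core S.exp S.le1 S.card1 S.z_mem1 h.comm p.y3
      (S.pres_of_three' (n := 1) h.comm (by rw [pow_one, p.y3])).2.1 hm
    by_contra hc
    push Not at hc
    have : W ≤ zpowers S.z := fun w hw => by
      by_contra hn
      exact hc w ((hmem w).1 hw).1 hn ((hmem w).1 hw).2
    have := card_le_of_le this
    rw [hW, S.core.card_zpowers] at this
    omega
  · push Not at hm
    obtain ⟨a, ha, haz⟩ := S.exists_not_mem₁
    exact ⟨a, ha, haz, hm a ha⟩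

/-- An element trivial on one factor centralises an axis in each. -/
theorem axes_one {y : G} (h : S.Out y) (h2 : ∀ b ∈ S.Q2, ⁅y, b⁆ ∈ zpowers S.z) :
    (∀ a ∈ S.Q1, ⁅y, a⁆ ∈ zpowers S.z → Commute y a) ∧ ∃ b ∈ S.Q2, b ∉ zpowers S.z ∧ Commute y b := by
  obtain ⟨g, p⟩ := h.exists_pair
  haveI : Fact (Nat.Prime 3) := ⟨Nat.prime_three⟩
  obtain ⟨b, hb, hbz⟩ := S.exists_not_mem₂
  obtain ⟨c, hc, hbc⟩ := S.fac'.symm.exists_partner hb hbz
  constructor
  · intro a ha hya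
    by_contra hne
    have hne' : ⁅y, a⁆ ≠ 1 := fun e => hne (commutatorElement_eq_one_iff_mul_comm.1 e)
    have fix : ∀ d ∈ S.Q2, ∃ n : ℕ, d * a ^ n ∈ S.D y := fun d hd => by
      obtain ⟨n, hn⟩ := Submonoid.mem_powers_iff _ _ |>.1 (mem_powers_of_prime_card S.core.card_zpowers
        (g := (⟨_, hya⟩ : zpowers S.z)) (g' := ⟨_, inv_mem (h2 d hd)⟩) fun e => hne' (congrArg Subtype.val e))
      have hn' : ⁅y, a⁆ ^ n = ⁅y, d⁆⁻¹ := congrArg Subtype.val hn
      refine ⟨n, S.mem_D.2 ⟨mul_mem (S.le2 hd) (pow_mem (S.le1 ha) n), ?_⟩⟩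
      refine commutatorElement_eq_one_iff_mul_comm.1 ?_
      rw [show ⁅y, d * a ^ n⁆ = ⁅y, d⁆ * (d * ⁅y, a ^ n⁆ * d⁻¹) by simp only [commutatorElement_def]; group,
        S.comm_pow (S.le1 ha) hya, hn', ← S.core.commute (inv_mem (h2 d hd)) (S.le2 hd), mul_inv_cancel_right,
        mul_inv_cancel]
    obtain ⟨i, hi⟩ := fix b hb
    obtain ⟨j, hj⟩ := fix c hc
    refine hbc (commutatorElement_eq_one_iff_mul_comm.2 ?_)
    have hcm := p.D_comm hi hj
    have cb : Commute b (a ^ j) := (S.comm12 a ha b hb).symm.pow_right j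
    have ca : Commute (a ^ i) c := (S.comm12 a ha c hc).pow_left i
    have caa : Commute (a ^ i) (a ^ j) := Commute.pow_pow (Commute.refl a) i j
    have h' : b * c * (a ^ i * a ^ j) = c * b * (a ^ i * a ^ j) := by
      calc b * c * (a ^ i * a ^ j) = b * (c * a ^ i) * a ^ j := by group
        _ = b * (a ^ i * c) * a ^ j := by rw [ca.eq]
        _ = b * a ^ i * (c * a ^ j) := by group
        _ = c * a ^ j * (b * a ^ i) := hcm.eq
        _ = c * (a ^ j * b) * a ^ i := by group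
        _ = c * (b * a ^ j) * a ^ i := by rw [cb.eq]
        _ = c * b * (a ^ j * a ^ i) := by group
        _ = _ := by rw [caa.eq]
    exact mul_right_cancel h'
  · by_cases hyb : ⁅y, b⁆ = 1
    · exact ⟨b, hb, hbz, commutatorElement_eq_one_iff_mul_comm.1 hyb⟩
    obtain ⟨n, hn⟩ := Submonoid.mem_powers_iff _ _ |>.1 (mem_powers_of_prime_card S.core.card_zpowers
      (g := (⟨_, h2 b hb⟩ : zpowers S.z)) (g' := ⟨_, inv_mem (h2 c hc)⟩) fun e => hyb (congrArg Subtype.val e))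
    have hn' : ⁅y, b⁆ ^ n = ⁅y, c⁆⁻¹ := congrArg Subtype.val hn
    refine ⟨c * b ^ n, mul_mem hc (pow_mem hb n), fun hz => hbc ?_, commutatorElement_eq_one_iff_mul_comm.1 ?_⟩
    · have h1 : Commute b (c * b ^ n) := (S.core.commute hz (S.le2 hb) : Commute _ b).symm
      have h2' : Commute b c := by
        have := h1.mul_right ((Commute.refl b).pow_right n).inv_right
        rwa [mul_inv_cancel_right] at this
      exact commutatorElement_eq_one_iff_mul_comm.2 h2'.eq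
    · rw [show ⁅y, c * b ^ n⁆ = ⁅y, c⁆ * (c * ⁅y, b ^ n⁆ * c⁻¹) by simp only [commutatorElement_def]; group,
        S.comm_pow (S.le2 hb) (h2 b hb), hn', ← S.core.commute (inv_mem (h2 c hc)) (S.le2 hc),
        mul_inv_cancel_right, mul_inv_cancel]

end Setup

end Cfsg.Agent.U62Three
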